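import Mathlib

/-!
# Standard form for the normalizer of a Sylow 3-subgroup of the symmetric group of degree six

The outer automorphism permutes the six totals of synthemes.
-/

set_option autoImplicit false
set_option maxRecDepth 100000
set_option synthInstance.maxSize 2000

namespace Cfsg.Lib.SymNine.SixP

open Equiv

/-- The totals, as lists of the five synthemes. -/
def syn : Fin 6 → List (Fin 6 → Fin 6) := ![
  [![1, 0, 3, 2, 5, 4], ![2, 4, 0, 5, 1, 3], ![3, 5, 4, 0, 2, 1], ![4, 3, 5, 1, 0, 2], ![5, 2, 1, 4, 3, 0]],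
  [![1, 0, 3, 2, 5, 4], ![2, 5, 0, 4, 3, 1], ![3, 4, 5, 0, 1, 2], ![4, 2, 1, 5, 0, 3], ![5, 3, 4, 1, 2, 0]],
  [![1, 0, 4, 5, 2, 3], ![2, 3, 0, 1, 5, 4], ![3, 4, 5, 0, 1, 2], ![4, 5, 3, 2, 0, 1], ![5, 2, 1, 4, 3, 0]],
  [![1, 0, 4, 5, 2, 3], ![2, 5, 0, 4, 3, 1], ![3, 2, 1, 0, 5, 4], ![4, 3, 5, 1, 0, 2], ![5, 4, 3, 2, 1, 0]],
  [![1, 0, 5, 4, 3, 2], ![2, 3, 0, 1, 5, 4], ![3, 5, 4, 0, 2, 1], ![4, 2, 1, 5, 0, 3], ![5, 4, 3, 2, 1, 0]],
  [![1, 0, 5, 4, 3, 2], ![2, 4, 0, 5, 1, 3], ![3, 2, 1, 0, 5, 4], ![4, 5, 3, 2, 0, 1], ![5, 3, 4, 1, 2, 0]]]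

/-- Conjugation of a map. -/
def conjF (σ : Perm (Fin 6)) (p : Fin 6 → Fin 6) : Fin 6 → Fin 6 := fun i => σ (p (σ.symm i))

/-- The image of a total lies in another. -/
def Maps (σ : Perm (Fin 6)) (j j' : Fin 6) : Prop := ∀ p ∈ syn j, conjF σ p ∈ syn j'

/-- The values of a map. -/
def code (f : Fin 6 → Fin 6) : List ℕ := [(f 0).val, (f 1).val, (f 2).val, (f 3).val, (f 4).val, (f 5).val]

/-- The image of a total lies in another, computed. -/
def mapsB (σ : Perm (Fin 6)) (j j' : Fin 6) : Bool :=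
  (syn j).all fun p => ((syn j').map code).contains (code (conjF σ p))

theorem code_injective {f g : Fin 6 → Fin 6} (h : code f = code g) : f = g := by
  simp only [code, List.cons.injEq, Fin.val_inj, and_true] at h
  obtain ⟨h0, h1, h2, h3, h4, h5⟩ := h
  funext i
  fin_cases i <;> assumption

theorem mapsB_iff {σ : Perm (Fin 6)} {j j' : Fin 6} : mapsB σ j j' = true ↔ Maps σ j j' := by
  simp only [mapsB, List.all_eq_true, List.contains_iff_mem, List.mem_map, Maps]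
  constructor
  · intro h p hp
    obtain ⟨q, hq, e⟩ := h p hp
    exact code_injective e ▸ hq
  · exact fun h p hp => ⟨_, h p hp, rfl⟩

theorem mapsB_gen : ∀ i : Fin 5, ∀ j, ∃ j', mapsB (swap i.castSucc i.succ) j j' = true := by decide +kernel

theorem maps_gen (i : Fin 5) (j : Fin 6) : ∃ j', Maps (swap i.castSucc i.succ) j j' :=
  (mapsB_gen i j).imp fun _ h => mapsB_iff.1 h

theorem maps_one (j : Fin 6) : Maps 1 j j := fun _ h => h

theorem syn_unique' : ∀ j j' : Fin 6,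
    ((syn j).all fun p => ((syn j').map code).contains (code p)) = true → j' = j := by decide +kernel

theorem syn_unique (j j' : Fin 6) (h : ∀ p ∈ syn j, p ∈ syn j') : j' = j :=
  syn_unique' j j' (by
    simp only [List.all_eq_true, List.contains_iff_mem, List.mem_map]
    exact fun p hp => ⟨p, h p hp, rfl⟩)

theorem maps_mul {σ τ : Perm (Fin 6)} {j j' j'' : Fin 6} (h2 : Maps σ j' j'') (h1 : Maps τ j j') :
    Maps (σ * τ) j j'' := fun p hp => by
  have e : conjF (σ * τ) p = conjF σ (conjF τ p) := funext fun i => rfl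
  rw [e]
  exact h2 _ (h1 p hp)

theorem maps_exists (σ : Perm (Fin 6)) (j : Fin 6) : ∃ j', Maps σ j j' := by
  have key : ∀ σ ∈ Submonoid.closure (Set.range fun i : Fin 5 ↦ swap i.castSucc i.succ),
      ∀ j, ∃ j', Maps σ j j' := by
    intro σ hσ
    induction hσ using Submonoid.closure_induction with
    | mem x hx => obtain ⟨i, rfl⟩ := hx; exact maps_gen i
    | one => exact fun j => ⟨j, maps_one j⟩
    | mul x y _ _ ex ey =>
      intro j
      obtain ⟨j', h'⟩ := ey j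
      obtain ⟨j'', h''⟩ := ex j'
      exact ⟨j'', maps_mul h'' h'⟩
  exact key σ (by rw [Perm.mclosure_swap_castSucc_succ]; trivial) j

theorem maps_unique {σ : Perm (Fin 6)} {j j₁ j₂ : Fin 6} (h1 : Maps σ j j₁) (h2 : Maps σ j j₂) :
    j₁ = j₂ := by
  obtain ⟨k, hk⟩ := maps_exists σ⁻¹ j₁
  have hinv : ∀ p, conjF σ⁻¹ (conjF σ p) = p := fun p => funext fun i => by simp [conjF, Equiv.Perm.inv_def]
  have hinv' : ∀ p, conjF σ (conjF σ⁻¹ p) = p := fun p => funext fun i => by simp [conjF, Equiv.Perm.inv_def]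
  have hkj : k = j := syn_unique j k fun p hp => hinv p ▸ hk _ (h1 p hp)
  subst hkj
  exact (syn_unique j₁ j₂ fun p hp => hinv' p ▸ h2 _ (hk p hp)).symm

/-- The image of a total. -/
noncomputable def act6 (σ : Perm (Fin 6)) (j : Fin 6) : Fin 6 := (maps_exists σ j).choose

theorem maps_act (σ : Perm (Fin 6)) (j : Fin 6) : Maps σ j (act6 σ j) := (maps_exists σ j).choose_spec

theorem act6_eq {σ : Perm (Fin 6)} {j j' : Fin 6} (h : Maps σ j j') : act6 σ j = j' :=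
  maps_unique (maps_act σ j) h

theorem act6_one (j : Fin 6) : act6 1 j = j := act6_eq (maps_one j)

theorem act6_mul (σ τ : Perm (Fin 6)) (j : Fin 6) : act6 (σ * τ) j = act6 σ (act6 τ j) :=
  act6_eq (maps_mul (maps_act _ _) (maps_act _ _))

theorem mapsB_faithful : ∀ σ : Perm (Fin 6), (∀ j, mapsB σ j j = true) → σ = 1 := by decide +kernel

theorem maps_faithful (σ : Perm (Fin 6)) (h : ∀ j, Maps σ j j) : σ = 1 :=
  mapsB_faithful σ fun j => mapsB_iff.2 (h j)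

/-- The outer automorphism, as a homomorphism. -/
noncomputable def outerHom : Perm (Fin 6) →* Perm (Fin 6) where
  toFun σ := ⟨act6 σ, act6 σ⁻¹, fun j => by rw [← act6_mul, inv_mul_cancel, act6_one],
    fun j => by rw [← act6_mul, mul_inv_cancel, act6_one]⟩
  map_one' := Equiv.ext act6_one
  map_mul' σ τ := Equiv.ext (act6_mul σ τ)

theorem outerHom_injective : Function.Injective outerHom :=
  (injective_iff_map_eq_one _).2 fun σ h => maps_faithful σ fun j => by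
    have e : act6 σ j = j := congrFun (congrArg DFunLike.coe h) j
    have h' := maps_act σ j
    rwa [e] at h'

/-- The outer automorphism. -/
noncomputable def outer : Perm (Fin 6) ≃* Perm (Fin 6) :=
  MulEquiv.ofBijective outerHom (Finite.injective_iff_bijective.1 outerHom_injective)

/-- The first three-cycle. -/
def a0 : Perm (Fin 6) := swap 0 1 * swap 1 2

/-- The second three-cycle. -/
def b0 : Perm (Fin 6) := swap 3 4 * swap 4 5

/-- The exchange of the two blocks. -/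
def t0 : Perm (Fin 6) := swap 0 3 * swap 1 4 * swap 2 5

/-- The relations of the generators of a Sylow normalizer. -/
structure Rel {H : Type*} [Group H] (A B EA EB T : H) : Prop where
  a3 : A * A * A = 1
  a1 : A ≠ 1
  b3 : B * B * B = 1
  ab : A * B = B * A
  b1 : B ≠ 1
  ba : B ≠ A
  baa : B ≠ A * A
  ea2 : EA * EA = 1
  eaa : EA * A = A * A * EA
  eab : EA * B = B * EA
  eb2 : EB * EB = 1
  eba : EB * A = A * EB
  ebb : EB * B = B * B * EB
  ee : EA * EB = EB * EA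
  t2 : T * T = 1
  ta : T * A = B * T
  te : T * EA = EB * T

theorem Rel.map {H K : Type*} [Group H] [Group K] {A B EA EB T : H} (h : Rel A B EA EB T) (f : H ≃* K) :
    Rel (f A) (f B) (f EA) (f EB) (f T) := by
  constructor <;>
    simp only [← map_mul, MulEquiv.map_eq_one_iff, ne_eq, EmbeddingLike.apply_eq_iff_eq]
  exacts [h.a3, h.a1, h.b3, h.ab, h.b1, h.ba, h.baa, h.ea2, h.eaa, h.eab, h.eb2, h.eba, h.ebb, h.ee, h.t2,
    h.ta, h.te]

theorem three_cases : ∀ A : Perm (Fin 6), A * A * A = 1 → A ≠ 1 →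
    ∃ g, g * A * g⁻¹ = a0 ∨ g * A * g⁻¹ = a0 * b0 := by decide +kernel

theorem outer_three_data :
    ∃ g : Perm (Fin 6), ∀ j, ∃ j', mapsB (a0 * b0) j j' = true ∧ g j' = a0 (g j) := by decide +kernel

theorem outer_three : ∃ g, g * outerHom (a0 * b0) * g⁻¹ = a0 := by
  obtain ⟨g, hg⟩ := outer_three_data
  refine ⟨g, mul_inv_eq_iff_eq_mul.2 (Equiv.ext fun j => ?_)⟩
  obtain ⟨j', hj', e⟩ := hg j
  show g (act6 (a0 * b0) j) = a0 (g j)
  rw [act6_eq (mapsB_iff.1 hj'), e]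

theorem second_cases : ∀ B : Perm (Fin 6), B * B * B = 1 → a0 * B = B * a0 → B ≠ 1 → B ≠ a0 → B ≠ a0 * a0 →
    ∀ EA : Perm (Fin 6), EA * EA = 1 → EA * a0 = a0 * a0 * EA → EA * B = B * EA →
      B = b0 ∨ B = b0 * b0 := by decide +kernel

theorem first_inv : ∀ EA : Perm (Fin 6), EA * EA = 1 → EA * a0 = a0 * a0 * EA → EA * b0 = b0 * EA →
    ∃ i : Fin 3, a0 ^ i.val * EA * (a0 ^ i.val)⁻¹ = swap 1 2 := by decide +kernel

theorem second_inv : ∀ EB : Perm (Fin 6), EB * EB = 1 → EB * a0 = a0 * EB → EB * b0 = b0 * b0 * EB →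
    ∃ i : Fin 3, b0 ^ i.val * EB * (b0 ^ i.val)⁻¹ = swap 4 5 := by decide +kernel

theorem exchange : ∀ T : Perm (Fin 6), T * T = 1 → T * a0 = b0 * T → T * swap 1 2 = swap 4 5 * T → T = t0 := by
  decide +kernel

theorem fix_facts :
    swap (4 : Fin 6) 5 * a0 * (swap 4 5)⁻¹ = a0 ∧ swap (4 : Fin 6) 5 * (b0 * b0) * (swap 4 5)⁻¹ = b0 ∧
    (∀ i : Fin 3, a0 ^ i.val * a0 * (a0 ^ i.val)⁻¹ = a0 ∧ a0 ^ i.val * b0 * (a0 ^ i.val)⁻¹ = b0) ∧
    (∀ i : Fin 3, b0 ^ i.val * a0 * (b0 ^ i.val)⁻¹ = a0 ∧ b0 ^ i.val * b0 * (b0 ^ i.val)⁻¹ = b0 ∧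
      b0 ^ i.val * swap (1 : Fin 6) 2 * (b0 ^ i.val)⁻¹ = swap 1 2) := by
  refine ⟨?_, ?_, ?_, ?_⟩ <;> decide +kernel

/-- Standard form of the generators. -/
theorem exists_std {A B EA EB T : Perm (Fin 6)} (h : Rel A B EA EB T) :
    ∃ θ : Perm (Fin 6) ≃* Perm (Fin 6),
      θ A = a0 ∧ θ B = b0 ∧ θ EA = swap 1 2 ∧ θ EB = swap 4 5 ∧ θ T = t0 := by
  obtain ⟨θ1, hA⟩ : ∃ θ : Perm (Fin 6) ≃* Perm (Fin 6), θ A = a0 := by
    obtain ⟨g, e | e⟩ := three_cases A h.a3 h.a1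
    · exact ⟨MulAut.conj g, e⟩
    · obtain ⟨g', e'⟩ := outer_three
      refine ⟨((MulAut.conj g).trans outer).trans (MulAut.conj g'), ?_⟩
      show g' * outerHom (g * A * g⁻¹) * g'⁻¹ = a0
      rw [e, e']
  have h1 := h.map θ1
  rw [hA] at h1
  obtain ⟨θ2, hA2, hB2⟩ : ∃ θ : Perm (Fin 6) ≃* Perm (Fin 6), θ (θ1 A) = a0 ∧ θ (θ1 B) = b0 := by
    rcases second_cases _ h1.b3 h1.ab h1.b1 h1.ba h1.baa _ h1.ea2 h1.eaa h1.eab with e | e
    · exact ⟨MulEquiv.refl _, hA, e⟩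
    · refine ⟨MulAut.conj (swap 4 5), ?_, ?_⟩
      · rw [hA]; exact fix_facts.1
      · rw [e]; exact fix_facts.2.1
  have h2 := (h.map θ1).map θ2
  rw [hA2, hB2] at h2
  obtain ⟨i, hi⟩ := first_inv _ h2.ea2 h2.eaa h2.eab
  set θ3 := MulAut.conj (a0 ^ i.val) with hθ3
  have h3 := ((h.map θ1).map θ2).map θ3
  have a3 : θ3 a0 = a0 := (fix_facts.2.2.1 i).1
  have b3 : θ3 b0 = b0 := (fix_facts.2.2.1 i).2
  have e3 : θ3 (θ2 (θ1 EA)) = swap 1 2 := hi
  rw [hA2, hB2, a3, b3, e3] at h3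
  obtain ⟨j, hj⟩ := second_inv _ h3.eb2 h3.eba h3.ebb
  set θ4 := MulAut.conj (b0 ^ j.val) with hθ4
  obtain ⟨a4, b4, c4⟩ : θ4 a0 = a0 ∧ θ4 b0 = b0 ∧ θ4 (swap 1 2) = swap 1 2 := fix_facts.2.2.2 j
  have e4 : θ4 (θ3 (θ2 (θ1 EB))) = swap 4 5 := hj
  have h4 := (((h.map θ1).map θ2).map θ3).map θ4
  rw [hA2, hB2, a3, b3, e3, a4, b4, c4, e4] at h4
  refine ⟨((θ1.trans θ2).trans θ3).trans θ4, ?_, ?_, ?_, ?_, ?_⟩
  · show θ4 (θ3 (θ2 (θ1 A))) = a0
    rw [hA2, a3, a4]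
  · show θ4 (θ3 (θ2 (θ1 B))) = b0
    rw [hB2, b3, b4]
  · show θ4 (θ3 (θ2 (θ1 EA))) = swap 1 2
    rw [e3, c4]
  · exact e4
  · exact exchange _ h4.t2 h4.ta h4.te

theorem middle_unique : ∀ u : Perm (Fin 6), u * u = 1 → u * swap 0 1 = swap 0 1 * u →
    u * swap 4 5 = swap 4 5 * u → u * swap 1 2 * (u * swap 1 2) * (u * swap 1 2) = 1 →
    u * swap 3 4 * (u * swap 3 4) * (u * swap 3 4) = 1 → u = swap 2 3 := by decide +kernel

theorem gen_facts :
    a0 * a0 * swap 1 2 * (a0 * a0)⁻¹ = swap (0 : Fin 6) 1 ∧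
    b0 * b0 * swap 4 5 * (b0 * b0)⁻¹ = swap (3 : Fin 6) 4 ∧
    swap (2 : Fin 6) 3 * swap 0 1 = swap 0 1 * swap 2 3 ∧
    swap (2 : Fin 6) 3 * swap 4 5 = swap 4 5 * swap 2 3 ∧
    swap (2 : Fin 6) 3 * swap 1 2 * (swap 2 3 * swap 1 2) * (swap 2 3 * swap 1 2) = 1 ∧
    swap (2 : Fin 6) 3 * swap 3 4 * (swap 2 3 * swap 3 4) * (swap 2 3 * swap 3 4) = 1 := by
  refine ⟨?_, ?_, ?_, ?_, ?_, ?_⟩ <;> decide +kernel

/-- An endomorphism fixing the Sylow normalizer is the identity. -/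
theorem hom_eq_id (f : Perm (Fin 6) →* Perm (Fin 6)) (ha : f a0 = a0) (hb : f b0 = b0)
    (hea : f (swap 1 2) = swap 1 2) (heb : f (swap 4 5) = swap 4 5) (σ : Perm (Fin 6)) : f σ = σ := by
  obtain ⟨g1, g2, c1, c2, c3, c4⟩ := gen_facts
  have h01 : f (swap 0 1) = swap 0 1 := by rw [← g1, map_mul, map_mul, map_inv, map_mul, ha, hea]
  have h34 : f (swap 3 4) = swap 3 4 := by rw [← g2, map_mul, map_mul, map_inv, map_mul, hb, heb]
  have h23 : f (swap 2 3) = swap 2 3 := by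
    refine middle_unique _ (by rw [← map_mul, swap_mul_self, map_one]) ?_ ?_ ?_ ?_
    · have := congrArg f c1
      rwa [map_mul, map_mul, h01] at this
    · have := congrArg f c2
      rwa [map_mul, map_mul, heb] at this
    · have := congrArg f c3
      rwa [map_mul, map_mul, map_mul, hea, map_one] at this
    · have := congrArg f c4
      rwa [map_mul, map_mul, map_mul, h34, map_one] at this
  have key : ∀ σ ∈ Submonoid.closure (Set.range fun i : Fin 5 ↦ swap i.castSucc i.succ), f σ = σ := by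
    intro σ hσ
    induction hσ using Submonoid.closure_induction with
    | mem x hx =>
      obtain ⟨i, rfl⟩ := hx
      fin_cases i
      exacts [h01, hea, h23, h34, heb]
    | one => exact map_one f
    | mul x y _ _ ex ey => rw [map_mul, ex, ey]
  exact key σ (by rw [Perm.mclosure_swap_castSucc_succ]; trivial)

end Cfsg.Lib.SymNine.SixP
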