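import Cfsg.Agent.Lib.SymNine.Full
import Cfsg.Agent.S3702

/-!
# All signs and small centralizers

When all signs occur and the centralizer of an axis lies in `N(J)`, `J` is normal.
-/

set_option autoImplicit false
set_option maxHeartbeats 1600000
set_option maxRecDepth 100000
set_option linter.unusedSectionVars false
set_option linter.style.haveILetI false

namespace Cfsg.Lib.SymNine

open Subgroup

theorem threeA_orders :
    ((Finset.univ.filter fun y : Fin 27 => act 7 0 y = y).card = 1) ∧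
    ((Finset.univ.filter fun q : Fin 8 × Fin 6 =>
      signSets 3 q.1 = true ∧ ∀ i, act q.1 q.2 (act 7 0 i) = act 7 0 (act q.1 q.2 i)).card = 48) ∧
    ((Finset.univ.filter fun y : Fin 27 => act 1 0 y = y).card = 9) ∧
    ((Finset.univ.filter fun q : Fin 8 × Fin 6 =>
      signSets 3 q.1 = true ∧ ∀ i, act q.1 q.2 (act 1 0 i) = act 1 0 (act q.1 q.2 i)).card = 16) ∧
    ¬ 9 ∣ (Finset.univ.filter fun y : Fin 27 => act 1 2 y = y).card *
      (Finset.univ.filter fun q : Fin 8 × Fin 6 =>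
        signSets 3 q.1 = true ∧ ∀ i, act q.1 q.2 (act 1 2 i) = act 1 2 (act q.1 q.2 i)).card := by
  refine ⟨?_, ?_, ?_, ?_, ?_⟩ <;> decide +kernel

theorem threeA_axes :
    (∀ s k, (∀ i, act s k (act 1 0 i) = act 1 0 (act s k i)) → (k = 0 ∨ k = 2)) ∧
    (∀ s, (act s 0 9 = 9 ∨ act s 0 9 = vSmul 2 9) ∧ (act s 0 3 = 3 ∨ act s 0 3 = vSmul 2 3) ∧
      (act s 0 9 = 9 → act s 0 3 = 3 → s = 0 ∨ s = 1)) ∧
    (∀ y, act 1 0 y = y → ∃ i : Fin 3, ∃ j : Fin 3, y = vAdd (vSmul i.val 9) (vSmul j.val 3)) ∧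
    xType 3 9 = false ∧ (3 : Fin 27) ∉ mult 9 ∧
    (∀ s k, (∀ i, act s k (act 1 0 i) = act 1 0 (act s k i)) → act s k 9 = ((act s k)^[4]) 9 →
      act s k 3 = ((act s k)^[4]) 3 → act s k 1 = ((act s k)^[4]) 1 → s = 0 ∧ k = 0) ∧
    (∀ y, y ≠ 0 → act 6 0 y = y → y = 1 ∨ y = 2) := by
  refine ⟨?_, ?_, ?_, ?_, ?_, ?_, ?_⟩ <;> decide +kernel

theorem threeA_conj :
    (∀ i k, (k = 3 ∨ k = 4) → vAdd i (vAdd (lap (lperm k) i) (lap (lperm k) (lap (lperm k) i))) = 0 →
      ∃ c, vAdd (vAdd c (vSmul 2 (lap (lperm k) c))) i = 0) ∧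
    (∀ i l, (l = 1 ∨ l = 2 ∨ l = 5) → vAdd i (lap (lperm l) i) = 0 →
      ∃ r : Fin 6, kmul (kmul r l) (kinv r) = 2 ∧
        ∃ c, vAdd (vAdd c (vSmul 2 (act 0 2 c))) (act 0 r i) = 0) ∧
    (∀ l : Fin 6, l = 0 ∨ l = 3 ∨ l = 4 ∨ l = 1 ∨ l = 2 ∨ l = 5) := by
  refine ⟨?_, ?_, ?_⟩ <;> decide +kernel

/-- The parity of a sign and of a permutation. -/
def evenSP (s : Fin 8) (k : Fin 6) : Bool :=
  (decide (s = 0 ∨ s = 3 ∨ s = 5 ∨ s = 6)) == decide (k = 0 ∨ k = 3 ∨ k = 4)

theorem threeA_parity :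
    (∀ s, s ≠ 0 → s ≠ 1 → s ≠ 2 → s ≠ 4 → ∃ a b : Fin 8, (a = 1 ∨ a = 2 ∨ a = 4) ∧
      ((b = 1 ∨ b = 2 ∨ b = 4) ∧ sComp a 0 b = s ∨
        ∃ c : Fin 8, (b = 1 ∨ b = 2 ∨ b = 4) ∧ (c = 1 ∨ c = 2 ∨ c = 4) ∧ sComp (sComp a 0 b) 0 c = s)) ∧
    (∀ s, s = 2 ∨ s = 4 → ∃ r : Fin 6, sComp 0 r 1 = s ∧ kmul (kmul r 0) (kinv r) = 0 ∧ sComp s (kmul r 0) 0 = s) ∧
    (∀ s t k l, evenSP (sComp s k t) (kmul k l) = (evenSP s k == evenSP t l)) ∧
    (∀ s, sComp s 0 0 = s) ∧
    (∀ s k, ∀ s' k', (k = 3 ∨ k = 4) → sComp s' k' (sComp 6 0 s) = sComp s k 6 →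
      kmul k' (kmul 0 k) = kmul k 0 → s' ≠ 0 ∧ k' = 0) ∧
    (∀ s, (∀ i, act s 0 i = i) → s = 0) ∧
    (∀ s k t, sComp s k (sComp 0 0 t) = sComp s k t) := by
  refine ⟨?_, ?_, ?_, ?_, ?_, ?_, ?_⟩ <;> decide +kernel

theorem threeA_gens :
    mperm 9 0 0 = Equiv.swap (0 : Fin 9) 1 * Equiv.swap 1 2 ∧
    mperm 0 0 3 = Equiv.swap (0 : Fin 9) 3 * Equiv.swap 3 6 * (Equiv.swap (1 : Fin 9) 4 * Equiv.swap 4 7) *
      (Equiv.swap (2 : Fin 9) 5 * Equiv.swap 5 8) ∧
    mperm 12 6 0 = Equiv.swap (0 : Fin 9) 1 * Equiv.swap 3 4 ∧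
    mperm 1 1 2 = Equiv.swap (0 : Fin 9) 3 * Equiv.swap 1 4 * Equiv.swap 2 5 * Equiv.swap 6 7 := by
  refine ⟨?_, ?_, ?_, ?_⟩ <;> decide +kernel

theorem card_even : (Finset.univ.filter fun q : Fin 8 × Fin 6 => evenSP q.1 q.2 = true).card = 24 := by
  decide +kernel

/-- The second index two subgroup: fixed points absent. -/
theorem exists_index_two' {G : Type*} [Group G] [Finite G] (U : Subgroup G) {t : G} (ht : t * t = 1)
    (hno : ∀ g : G, g * t * g⁻¹ ∉ U) (hodd : Odd (U.index / 2)) :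
    ∃ M : Subgroup G, M.index = 2 ∧ t ∉ M := by
  classical
  haveI := Fintype.ofFinite G
  haveI : Fintype (G ⧸ U) := Fintype.ofFinite _
  let χ : G →* ℤˣ := Equiv.Perm.sign.comp (MulAction.toPermHom G (G ⧸ U))
  set σ := MulAction.toPermHom G (G ⧸ U) t
  have hσ : σ ^ 2 = 1 := by rw [pow_two, ← map_mul, ht, map_one]
  haveI : IsEmpty (Function.fixedPoints σ) := ⟨fun q => by
    obtain ⟨g, hg⟩ := QuotientGroup.mk_surjective q.1
    have h1 : t • (QuotientGroup.mk g : G ⧸ U) = QuotientGroup.mk g := by rw [hg]; exact q.2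
    rw [MulAction.Quotient.smul_mk, smul_eq_mul, QuotientGroup.eq] at h1
    refine hno g⁻¹ ?_
    rw [inv_inv, show g⁻¹ * t * g = ((t * g)⁻¹ * g)⁻¹ by group]
    exact inv_mem h1⟩
  have hχ : χ t = -1 := by
    show Equiv.Perm.sign σ = -1
    rw [Equiv.Perm.sign_of_pow_two_eq_one hσ, Fintype.card_eq_zero (α := Function.fixedPoints σ), Nat.sub_zero, ← Nat.card_eq_fintype_card,
      ← index_eq_card]
    exact hodd.neg_one_pow
  refine ⟨χ.ker, ?_, fun h => ?_⟩
  · have hsurj : Function.Surjective χ := fun u => by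
      rcases Int.units_eq_one_or u with rfl | rfl
      exacts [⟨1, map_one _⟩, ⟨t, hχ⟩]
    rw [index_ker, MonoidHom.range_eq_top.2 hsurj, card_top, Nat.card_eq_fintype_card, Fintype.card_units_int]
  · rw [MonoidHom.mem_ker, hχ] at h
    exact absurd h (by decide)

namespace Frame

variable {G : Type*} [Group G] [Finite G] {F : Frame G}

namespace Full

variable (D : F.Full)

/-- An element of order three of the Sylow subgroup outside `J` is conjugate to a permutation. -/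
theorem conj_p_of_cube {s : G} (hs : s ∈ F.P) (hsJ : s ∉ F.J) (h3 : s ^ 3 = 1) :
    ∃ c k, (k = 3 ∨ k = 4) ∧ F.v c * s * (F.v c)⁻¹ = F.p k := by
  obtain ⟨i, k, hk, rfl⟩ := hs
  rcases hk with rfl | hk
  · exact absurd (by rw [F.p0, mul_one]; exact F.v_mem i) hsJ
  have hk3 : kmul k (kmul k k) = 0 := by rcases hk with rfl | rfl <;> decide +kernel
  have h0 : vAdd i (vAdd (lap (lperm k) i) (lap (lperm k) (lap (lperm k) i))) = 0 := by
    refine F.vinj ?_
    rw [F.v0, ← h3, F.vmul, F.vmul, pow_succ', pow_two]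
    calc F.v i * (F.v (lap (lperm k) i) * F.v (lap (lperm k) (lap (lperm k) i)))
        = F.v i * (F.v (lap (lperm k) i) * F.v (lap (lperm k) (lap (lperm k) i))) * (F.p k * (F.p k * F.p k)) := by
          rw [← F.pmul, ← F.pmul, hk3, F.p0, mul_one]
      _ = F.v i * (F.p k * F.v i * (F.p k)⁻¹) * (F.p k * (F.p k * F.v i * (F.p k)⁻¹) * (F.p k)⁻¹) *
            (F.p k * (F.p k * F.p k)) := by
          have e : ∀ y, F.p k * F.v y * (F.p k)⁻¹ = F.v (lap (lperm k) y) := fun y => by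
            rw [F.pv, mul_inv_cancel_right]
          rw [e, e]; group
      _ = _ := by group
  obtain ⟨c, hc⟩ := threeA_conj.1 i k hk h0
  exact ⟨c, k, hk, by rw [conj_v_vp, ← mul_assoc, ← F.vmul, hc, F.v0, one_mul]⟩

include D in
/-- No element of order three of the Sylow subgroup outside `J` is conjugate to the central element. -/
theorem not_conj_x (h1 : ∀ g, g * F.v 1 = F.v 1 * g → g ∈ normalizer (F.J : Set G)) {s g : G} (hs : s ∈ F.P)
    (hsJ : s ∉ F.J) : g * F.x * g⁻¹ ≠ s := by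
  intro hg
  classical
  haveI : Fact (Nat.Prime 2) := ⟨Nat.prime_two⟩
  have hsc := D.smallCent_of_one h1
  have h3 : s ^ 3 = 1 := by rw [← hg, conj_pow, x, F.v_cube]; group
  obtain ⟨c, k, hk, hck⟩ := conj_p_of_cube hs hsJ h3
  have hg' : F.v c * g * F.x * (F.v c * g)⁻¹ = F.p k := by rw [← hck, ← hg]; group
  have hkP : F.p k ∈ F.P := ⟨0, k, Or.inr hk, by rw [F.v0, one_mul]⟩
  have hkJ : F.p k ∉ F.J := by
    rintro ⟨i, hi⟩
    have := F.vp_eq (show F.v i * F.p 0 = F.v 0 * F.p k by rw [F.p0, mul_one, F.v0, one_mul, hi])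
    rw [← this.2] at hk
    exact absurd hk (by decide)
  obtain ⟨w, hw1, hw2⟩ := exists_rotation hkP hkJ hg'
  set u := w * D.inv * w⁻¹ with hu
  have hux : u * F.x = F.x * u := by
    rw [← hw2, hu, conj_mul, conj_mul, D.inv_p]
  have huu : u * u = 1 := by
    rw [hu, show w * D.inv * w⁻¹ * (w * D.inv * w⁻¹) = w * (D.inv * D.inv) * w⁻¹ by group, D.inv_sq]
    group
  have hu1 : u ≠ 1 := fun e => D.w_ne_one (s := 7) (k := 0) (by decide) (by
    rw [D.w_inv]; exact conj_eq_one_iff.1 e)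
  obtain ⟨i, l, hil⟩ := (F.cent u).1 hux
  have hPord : l = 0 ∨ l = 3 ∨ l = 4 → False := fun hl => by
    have huP : u ∈ F.P := ⟨i, l, hl, hil⟩
    obtain ⟨e, he⟩ := P_isPGroup (F := F) ⟨u, huP⟩
    exact hu1 (orderOf_eq_one_iff.1 (Nat.eq_one_of_dvd_coprimes ((show Nat.Coprime 3 2 by norm_num).pow_left e)
      (orderOf_dvd_of_pow_eq_one (congrArg Subtype.val he)) (orderOf_dvd_of_pow_eq_one (by rw [pow_two, huu]))))
  have hl : l = 1 ∨ l = 2 ∨ l = 5 := by
    rcases threeA_conj.2.2 l with e | e | e | e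
    exacts [(hPord (Or.inl e)).elim, (hPord (Or.inr (Or.inl e))).elim, (hPord (Or.inr (Or.inr e))).elim, e]
  have hll : kmul l l = 0 := by rcases hl with rfl | rfl | rfl <;> decide +kernel
  have h0 : vAdd i (lap (lperm l) i) = 0 := by
    refine F.vinj ?_
    rw [F.v0, ← huu, hil, F.vmul]
    calc F.v i * F.v (lap (lperm l) i) = F.v i * (F.p l * F.v i * (F.p l)⁻¹) := by rw [F.pv, mul_inv_cancel_right]
      _ = F.v i * (F.p l * F.v i * (F.p l)⁻¹) * (F.p l * F.p l) := by rw [← F.pmul, hll, F.p0, mul_one]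
      _ = _ := by group
  obtain ⟨r, hr, c', hc'⟩ := threeA_conj.2.1 i l hl h0
  set τ := F.p 2
  have hconj : (F.v c' * F.p r) * u * (F.v c' * F.p r)⁻¹ = τ := by
    have e1 : F.p r * u * (F.p r)⁻¹ = F.v (act 0 r i) * τ := by
      rw [hil, show F.p r * (F.v i * F.p l) * (F.p r)⁻¹ = (F.p r * F.v i * (F.p r)⁻¹) * (F.p r * F.p l * (F.p r)⁻¹) by group,
        actsAs_act (F.actsAs_p r), F.p_inv, ← F.pmul, ← F.pmul, hr]
    have key : ∀ y, lap (lperm 2) y = act 0 2 y := by decide +kernel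
    rw [show F.v c' * F.p r * u * (F.v c' * F.p r)⁻¹ = F.v c' * (F.p r * u * (F.p r)⁻¹) * (F.v c')⁻¹ by group, e1,
      conj_v_vp, ← mul_assoc, ← F.vmul, key, hc', F.v0, one_mul]
  set z := (F.v c' * F.p r) * w with hz
  have hzι : z * D.inv * z⁻¹ = τ := by
    rw [hz, show F.v c' * F.p r * w * D.inv * (F.v c' * F.p r * w)⁻¹ =
      F.v c' * F.p r * (w * D.inv * w⁻¹) * (F.v c' * F.p r)⁻¹ by group, ← hu, hconj]
  have hcard : Nat.card (centralizer ({D.inv} : Set G)) = 72 := by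
    have h72 : Nat.card (centralizer ({τ} : Set G)) = 72 := by rw [D.isCase.card_cent_tau hsc]; rfl
    rw [← h72]
    have hmem : ∀ {g : G}, g ∈ centralizer ({D.inv} : Set G) ↔ z * g * z⁻¹ ∈ centralizer ({τ} : Set G) := by
      intro g
      rw [mem_centralizer_singleton_iff, mem_centralizer_singleton_iff, ← hzι, conj_mul, conj_mul,
        mul_left_inj, mul_right_inj]
    refine Nat.card_congr ((MulAut.conj z).toEquiv.subtypeEquiv fun g => ?_)
    exact hmem
  have h48 := D.isCase.card_cent_inv D.inv_sq D.inv_act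
  rw [threeA_orders.1, threeA_orders.2.1] at h48
  have hd := card_dvd_of_le (inf_le_left (a := centralizer ({D.inv} : Set G)) (b := normalizer (F.J : Set G)))
  rw [h48, hcard] at hd
  exact absurd hd (by decide)

include D in
theorem not_conj_J (h1 : ∀ g, g * F.v 1 = F.v 1 * g → g ∈ normalizer (F.J : Set G)) {s g : G} (hs : s ∈ F.P)
    (hsJ : s ∉ F.J) : g * s * g⁻¹ ∉ F.J := by
  rintro ⟨i, hi⟩
  obtain ⟨n, -, hn⟩ := D.isCase.conj_x_cases (D.isCase.xType_of_conj_mem hs hsJ hi.symm)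
  rw [hi, show n * (g * s * g⁻¹) * n⁻¹ = (n * g) * s * (n * g)⁻¹ by group] at hn
  rcases hn with e | e
  · exact D.not_conj_x h1 (g := (n * g)⁻¹) hs hsJ (by rw [← e]; group)
  · refine D.not_conj_x h1 (g := (n * g)⁻¹) (inv_mem hs) (fun h' => hsJ (inv_mem_iff.1 h')) ?_
    rw [show F.x = ((n * g) * s * (n * g)⁻¹)⁻¹ by rw [e, inv_inv]]; group

include D in
/-- A 3-element of `N(J)` conjugate into `J` lies in it. -/
theorem mem_J_of_conj (h1 : ∀ g, g * F.v 1 = F.v 1 * g → g ∈ normalizer (F.J : Set G)) {z g : G}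
    (hz : z ∈ normalizer (F.J : Set G)) (hz3 : z ^ 3 = 1) (hg : g * z * g⁻¹ ∈ F.J) : z ∈ F.J := by
  obtain ⟨n, hn, hP⟩ := exists_conj_mem_P hz (e := 1) (by rw [pow_one, hz3])
  by_contra hne
  refine D.not_conj_J h1 (g := g * n⁻¹) hP (fun h' => hne ((mem_normalizer_iff.1 hn z).2 h')) ?_
  rwa [show g * n⁻¹ * (n * z * n⁻¹) * (g * n⁻¹)⁻¹ = g * z * g⁻¹ by group]

theorem mem_iff_even {M : Subgroup G} (hM : M.index = 2) (ht : D.w 1 0 ∉ M) (hτ : F.p 2 ∉ M) (s : Fin 8)
    (k : Fin 6) : D.w s k ∈ M ↔ evenSP s k = true := by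
  haveI hMn : M.Normal := normal_of_index_eq_two hM
  have hone : ∀ a : Fin 8, a = 1 ∨ a = 2 ∨ a = 4 → D.w a 0 ∉ M := by
    rintro a ha hm
    rcases ha with rfl | ha
    · exact ht hm
    obtain ⟨r, e1, e2, e3⟩ := threeA_parity.2.1 a ha
    refine ht ?_
    have h2 : D.w 0 r * D.w 1 0 * D.w 0 (kinv r) = D.w a 0 := by rw [w_mul, w_mul, e1, e3, e2]
    rw [D.w_p, D.w_p, ← F.p_inv] at h2
    have h4 := hMn.conj_mem _ hm (F.p r)⁻¹
    rwa [← h2, inv_inv, show (F.p r)⁻¹ * (F.p r * D.w 1 0 * (F.p r)⁻¹) * F.p r = D.w 1 0 by group] at h4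
  have hsign : ∀ a, (D.w a 0 ∈ M ↔ evenSP a 0 = true) := by
    intro a
    have hodd : ∀ a : Fin 8, a = 1 ∨ a = 2 ∨ a = 4 → evenSP a 0 = false := by decide +kernel
    by_cases h0 : a = 0
    · subst h0; rw [w_one]; exact iff_of_true (one_mem _) (by decide)
    by_cases h124 : a = 1 ∨ a = 2 ∨ a = 4
    · rw [hodd a h124]; exact iff_of_false (hone a h124) (by decide)
    push Not at h124
    obtain ⟨p, q, hp, hq⟩ := threeA_parity.1 a h0 h124.1 h124.2.1 h124.2.2
    rcases hq with ⟨hq, e⟩ | ⟨c, hq, hc, e⟩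
    · have e' : D.w a 0 = D.w p 0 * D.w q 0 := by rw [w_mul, e]; rfl
      have e2 := threeA_parity.2.2.1 p q 0 0
      rw [e, hodd p hp, hodd q hq] at e2
      rw [show evenSP a 0 = true from e2, e', mul_mem_iff_of_index_two hM]
      exact iff_of_true (iff_of_false (hone p hp) (hone q hq)) rfl
    · have e' : D.w a 0 = D.w p 0 * D.w q 0 * D.w c 0 := by
        rw [w_mul, w_mul, full_facts.2.2.2.2.2.2.1 0, full_facts.2.2.2.2.2.2.1 0, e]
      have e1 := threeA_parity.2.2.1 p q 0 0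
      have e2 := threeA_parity.2.2.1 (sComp p 0 q) c 0 0
      rw [e, hodd c hc, show evenSP (sComp p 0 q) 0 = true by
        rw [hodd p hp, hodd q hq] at e1; exact e1] at e2
      rw [show evenSP a 0 = false from e2, e', mul_mem_iff_of_index_two hM]
      refine iff_of_false (fun hh => ?_) (by decide)
      refine hone c hc (hh.1 ?_)
      rw [mul_mem_iff_of_index_two hM]
      exact iff_of_false (hone p hp) (hone q hq)
  have hperm : ∀ k, (D.w 0 k ∈ M ↔ evenSP 0 k = true) := by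
    intro k
    have h3 : D.w 0 3 ∈ M := by
      have e : D.w 0 3 = D.w 0 4 * D.w 0 4 := by rw [w_mul]; rfl
      rw [e]; exact mul_self_mem_of_index_two hM _
    have h4 : D.w 0 4 ∈ M := by
      have e : D.w 0 4 = D.w 0 3 * D.w 0 3 := by rw [w_mul]; rfl
      rw [e]; exact mul_self_mem_of_index_two hM _
    have hp2 : D.w 0 2 ∉ M := by rwa [D.w_p]
    have key : ∀ k : Fin 6, k = 0 ∨ k = 3 ∨ k = 4 ∨ k = 2 ∨ ∃ l : Fin 6, (l = 3 ∨ l = 4) ∧ kmul 2 l = k := by
      decide +kernel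
    rcases key k with rfl | rfl | rfl | rfl | ⟨l, hl, rfl⟩
    · rw [w_one]; exact iff_of_true (one_mem _) (by decide)
    · exact iff_of_true h3 (by decide)
    · exact iff_of_true h4 (by decide)
    · exact iff_of_false hp2 (by decide)
    · have e : D.w 0 (kmul 2 l) = D.w 0 2 * D.w 0 l := by rw [w_mul]; rfl
      have e2 := threeA_parity.2.2.1 0 0 2 l
      have hl' : evenSP 0 l = true ∧ D.w 0 l ∈ M := by
        rcases hl with rfl | rfl
        exacts [⟨by decide, h3⟩, ⟨by decide, h4⟩]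
      rw [show sComp 0 2 0 = 0 by decide +kernel, hl'.1] at e2
      rw [show evenSP 0 (kmul 2 l) = false from e2, e, mul_mem_iff_of_index_two hM]
      exact iff_of_false (fun hh => hp2 (hh.2 hl'.2)) (by decide)
  have e : D.w s k = D.w s 0 * D.w 0 k := by
    rw [w_mul, threeA_parity.2.2.2.1, full_facts.2.2.2.2.2.2.1]
  have e2 := threeA_parity.2.2.1 s 0 0 k
  rw [threeA_parity.2.2.2.1, full_facts.2.2.2.2.2.2.1] at e2
  rw [e, mul_mem_iff_of_index_two hM, hsign, hperm, e2]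
  cases evenSP s 0 <;> cases evenSP 0 k <;> decide

end Full

/-- All signs and small centralizers. -/
theorem Full.normal_of_small (D : F.Full) (h1 : ∀ g, g * F.v 1 = F.v 1 * g → g ∈ normalizer (F.J : Set G)) :
    F.J.Normal := by
  classical
  haveI : Fact (Nat.Prime 2) := ⟨Nat.prime_two⟩
  haveI : Fact (Nat.Prime 3) := ⟨Nat.prime_three⟩
  have hsc := D.smallCent_of_one h1
  set τ := F.p 2 with hτ
  set t := D.w 1 0 with htdef
  have hττ : τ * τ = 1 := by rw [hτ, ← D.w_p 2]; exact D.w_sq (by decide +kernel) (by decide +kernel)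
  have htt : t * t = 1 := D.w_sq (by decide +kernel) (by decide +kernel)
  have htact : F.ActsAs t 1 0 := (D.w_spec 1 0).2.1
  have hC72 : Nat.card (centralizer ({τ} : Set G)) = 72 := by rw [D.isCase.card_cent_tau hsc]; rfl
  have hNt : Nat.card ↥(centralizer ({t} : Set G) ⊓ normalizer (F.J : Set G)) = 144 := by
    rw [D.isCase.card_cent_inv htt htact, threeA_orders.2.2.1, threeA_orders.2.2.2.1]
  have hconjcard : ∀ {a b g : G}, g * a * g⁻¹ = b →
      Nat.card (centralizer ({a} : Set G)) = Nat.card (centralizer ({b} : Set G)) := by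
    intro a b g hgab
    refine Nat.card_congr ((MulAut.conj g).toEquiv.subtypeEquiv fun y => ?_)
    show y ∈ centralizer ({a} : Set G) ↔ g * y * g⁻¹ ∈ centralizer ({b} : Set G)
    rw [mem_centralizer_singleton_iff, mem_centralizer_singleton_iff, ← hgab, conj_mul, conj_mul,
      mul_left_inj, mul_right_inj]
  have hτt : ∀ g : G, g * τ * g⁻¹ ≠ t := fun g hg => by
    have hd := card_dvd_of_le (inf_le_left (a := centralizer ({t} : Set G)) (b := normalizer (F.J : Set G)))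
    rw [hNt, ← hconjcard hg, hC72] at hd
    exact absurd hd (by decide)
  have hτtt : ∀ g : G, g * τ * g⁻¹ ≠ D.w 1 2 :=
    D.isCase.not_conj_tau hsc (D.w_sq (by decide +kernel) (by decide +kernel)) (D.w_spec 1 2).2.1
      (y := 12) (by decide) (by decide +kernel) threeA_orders.2.2.2.2
  -- subgroups of the centralizer of the inversion
  let mkU : (Fin 8 → Fin 6 → Prop) → Prop := fun Q =>
    Q 0 0 ∧ (∀ s k t l, Q s k → Q t l → Q (sComp s k t) (kmul k l)) ∧
      (∀ s k, Q s k → ∃ s' k', Q s' k' ∧ sComp s k s' = 0 ∧ kmul k k' = 0)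
  have exU : ∀ Q, mkU Q → ∃ U : Subgroup G, (∀ g, g ∈ U ↔ ∃ s k, Q s k ∧ g = D.w s k) ∧
      Nat.card U = Nat.card {q : Fin 8 × Fin 6 // Q q.1 q.2} := by
    intro Q hQ
    let U : Subgroup G :=
      { carrier := {g | ∃ s k, Q s k ∧ g = D.w s k}
        one_mem' := ⟨0, 0, hQ.1, D.w_one.symm⟩
        mul_mem' := by
          rintro _ _ ⟨s, k, hsk, rfl⟩ ⟨t, l, htl, rfl⟩
          exact ⟨_, _, hQ.2.1 s k t l hsk htl, D.w_mul s t k l⟩
        inv_mem' := by
          rintro _ ⟨s, k, hsk, rfl⟩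
          obtain ⟨s', k', h', e1, e2⟩ := hQ.2.2 s k hsk
          exact ⟨s', k', h', inv_eq_of_mul_eq_one_right (by rw [w_mul, e1, e2, w_one])⟩ }
    refine ⟨U, fun g => Iff.rfl, (Nat.card_eq_of_bijective (fun q => (⟨D.w q.1.1 q.1.2, _, _, q.2, rfl⟩ : U))
      ⟨fun a b e => ?_, ?_⟩).symm⟩
    · have e' : D.w a.1.1 a.1.2 = D.w b.1.1 b.1.2 := congrArg Subtype.val e
      have h2 := (D.w_spec a.1.1 a.1.2).2.1
      rw [e'] at h2
      obtain ⟨x1, x2⟩ := F.actsAs_unique h2 (D.w_spec _ _).2.1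
      exact Subtype.ext (Prod.ext x1 x2)
    · rintro ⟨g, s, k, hsk, rfl⟩
      exact ⟨⟨(s, k), hsk⟩, rfl⟩
  have h48 : 48 ∣ Nat.card G := by
    have h2 := D.isCase.card_cent_inv D.inv_sq D.inv_act
    rw [threeA_orders.1, threeA_orders.2.1, one_mul] at h2
    exact h2 ▸ card_subgroup_dvd_card _
  have h16 : 16 ∣ Nat.card G := (show 16 ∣ 48 by norm_num).trans h48
  have h72 : 72 ∣ Nat.card G := hC72 ▸ card_subgroup_dvd_card _
  -- the first index two subgroup
  obtain ⟨U1, hU1, hU1c⟩ := exU (fun s k => (s = 0 ∨ s = 1) ∧ (k = 0 ∨ k = 2))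
    ⟨by decide, by decide +kernel, by decide +kernel⟩
  have hU1card : Nat.card U1 = 4 := by rw [hU1c, Nat.card_eq_fintype_card]; decide +kernel
  have hcU : ∀ {U : Subgroup G} {Q : Fin 8 → Fin 6 → Prop} {s₀ : Fin 8} {k₀ : Fin 6},
      (∀ g, g ∈ U ↔ ∃ s k, Q s k ∧ g = D.w s k) →
      (∀ s k, Q s k → sComp s k s₀ = sComp s₀ k₀ s ∧ kmul k k₀ = kmul k₀ k) →
      U ≤ centralizer ({D.w s₀ k₀} : Set G) := by
    intro U Q s₀ k₀ hU hc g hg
    obtain ⟨s, k, hsk, rfl⟩ := (hU g).1 hg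
    refine mem_centralizer_singleton_iff.2 ?_
    rw [w_mul, w_mul, (hc s k hsk).1, (hc s k hsk).2]
  have hrel : ∀ {U : Subgroup G} {a : G} {n c : ℕ}, U ≤ centralizer ({a} : Set G) → Nat.card U = n →
      Nat.card (centralizer ({a} : Set G)) = n * c → U.relIndex (centralizer ({a} : Set G)) = c := by
    intro U a n c hle hn hc
    have e : Nat.card U * U.relIndex (centralizer ({a} : Set G)) = Nat.card (centralizer ({a} : Set G)) := by
      rw [← relIndex_bot_left (H := U), relIndex_mul_relIndex _ _ _ bot_le hle, relIndex_bot_left]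
    rw [hn, hc] at e
    exact Nat.eq_of_mul_eq_mul_left (hn ▸ Nat.card_pos) e
  have hU1τ : U1 ≤ centralizer ({τ} : Set G) := by
    rw [hτ, ← D.w_p 2]
    exact hcU hU1 (by decide +kernel)
  obtain ⟨M1, hM1, hτM1⟩ := exists_index_two U1 hττ ((hU1 τ).2 ⟨0, 2, by decide, (D.w_p 2).symm⟩) hU1τ
    (fun g hg => by
      obtain ⟨s, k, hsk, e⟩ := (hU1 _).1 hg
      rcases hsk with ⟨rfl | rfl, rfl | rfl⟩
      · rw [w_one, conj_eq_one_iff] at e
        exact absurd e (by rw [hτ, ← D.w_p]; exact D.w_ne_one (by decide))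
      · rw [e, D.w_p]
      · exact absurd e (hτt g)
      · exact absurd e (hτtt g))
    (f := 18) (hrel hU1τ hU1card hC72) (by
      have hidx := card_mul_index U1
      rw [hU1card] at hidx
      obtain ⟨q, hq⟩ := Nat.dvd_trans (show 144 ∣ Nat.lcm 16 72 by decide) (Nat.lcm_dvd h16 h72)
      have hpos : 0 < Nat.card G := Nat.card_pos
      rw [Nat.odd_iff]
      omega)
  haveI hM1n : M1.Normal := normal_of_index_eq_two hM1
  -- a subgroup of index two without both
  obtain ⟨M, hM, htM, hτM⟩ : ∃ M : Subgroup G, M.index = 2 ∧ t ∉ M ∧ τ ∉ M := by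
    by_cases htM1 : t ∈ M1
    swap
    · exact ⟨M1, hM1, htM1, hτM1⟩
    have h3M1 : ∀ j ∈ F.J, j ∈ M1 := fun j hj => by
      rw [show j = (j ^ 2) ^ 2 by rw [← pow_mul, show 2 * 2 = 3 + 1 by rfl, pow_add, F.J_cube hj, one_mul, pow_one]]
      exact pow_mem (sq_mem_of_index_two hM1 j) 2
    have hsignM1 : ∀ s, D.w s 0 ∈ M1 := by
      have hone : ∀ a : Fin 8, a = 1 ∨ a = 2 ∨ a = 4 → D.w a 0 ∈ M1 := by
        rintro a (rfl | ha)
        · exact htM1
        obtain ⟨r, e1, e2, e3⟩ := threeA_parity.2.1 a ha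
        have h2 : D.w 0 r * D.w 1 0 * D.w 0 (kinv r) = D.w a 0 := by rw [w_mul, w_mul, e1, e3, e2]
        rw [D.w_p, D.w_p, ← F.p_inv] at h2
        rw [← h2]
        exact hM1n.conj_mem _ htM1 _
      intro s
      by_cases h0 : s = 0
      · subst h0; rw [w_one]; exact one_mem _
      by_cases h124 : s = 1 ∨ s = 2 ∨ s = 4
      · exact hone s h124
      push Not at h124
      obtain ⟨p, q, hp, hq⟩ := threeA_parity.1 s h0 h124.1 h124.2.1 h124.2.2
      rcases hq with ⟨hq, e⟩ | ⟨c, hq, hc, e⟩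
      · rw [← e, show D.w (sComp p 0 q) 0 = D.w p 0 * D.w q 0 by rw [w_mul]; rfl]
        exact mul_mem (hone p hp) (hone q hq)
      · rw [← e, show D.w (sComp (sComp p 0 q) 0 c) 0 = D.w p 0 * D.w q 0 * D.w c 0 by rw [w_mul, w_mul]; rfl]
        exact mul_mem (mul_mem (hone p hp) (hone q hq)) (hone c hc)
    have hdec : ∀ n : G, n ∈ normalizer (F.J : Set G) → n * t = t * n →
        ∃ s k, F.ActsAs n s k ∧ ∀ i, act s k (act 1 0 i) = act 1 0 (act s k i) := by
      intro n hn hnt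
      obtain ⟨i, s, k, e, hsk⟩ := D.exists_eq hn
      refine ⟨s, k, hsk, fun i => F.vinj ?_⟩
      rw [← actsAs_act hsk, ← actsAs_act htact, ← actsAs_act htact, ← actsAs_act hsk,
        show n * (t * F.v i * t⁻¹) * n⁻¹ = (n * t) * F.v i * (n * t)⁻¹ by group, hnt]
      group
    obtain ⟨ax1, ax2, ax3, ax4, ax5, ax6, ax7⟩ := threeA_axes
    set C := centralizer ({t} : Set G) ⊓ M1 with hC
    have hC9 : ∀ y, act 1 0 y = y → F.v y ∈ C := fun y hy =>
      ⟨mem_centralizer_singleton_iff.2 ((comm_v_iff htact y).2 hy), h3M1 _ (F.v_mem y)⟩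
    have hkey : ∀ n ∈ C, n ∈ normalizer (F.J : Set G) → ∃ s, F.ActsAs n s 0 := by
      intro n hnC hn
      obtain ⟨s, k, hsk, hcm⟩ := hdec n hn (mem_centralizer_singleton_iff.1 hnC.1)
      rcases ax1 s k hcm with rfl | rfl
      · exact ⟨s, hsk⟩
      · exfalso
        refine hτM1 ?_
        obtain ⟨i, s', k', e, hsk'⟩ := D.exists_eq hn
        obtain ⟨rfl, rfl⟩ := F.actsAs_unique hsk hsk'
        have e2 : D.w s 2 = D.w s 0 * D.w 0 2 := by
          rw [w_mul, threeA_parity.2.2.2.1, full_facts.2.2.2.2.2.2.1]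
        rw [e, e2, D.w_p] at hnC
        have h4 := mul_mem (inv_mem (mul_mem (h3M1 _ (F.v_mem i)) (hsignM1 s))) hnC.2
        rwa [show (F.v i * D.w s 0)⁻¹ * (F.v i * (D.w s 0 * F.p 2)) = F.p 2 by group, ← hτ] at h4
    have hCle : C ≤ normalizer (F.J : Set G) := by
      refine D.isCase.cent_inv_le htt C (fun c hc => mem_centralizer_singleton_iff.1 hc.1)
        ⟨mem_centralizer_singleton_iff.2 rfl, htM1⟩ (a := 9) (e := 3) (by decide) ax4 ax5
        (hC9 9 (by decide +kernel)) (hC9 3 (by decide +kernel)) (fun y hy => ?_) ?_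
        (fun y hy _ g hg => hsc y hy g hg) (fun n hn hnN => ?_) (fun n hn hnN e1 e2 => ?_)
      · obtain ⟨i, j, rfl⟩ := ax3 y ((comm_v_iff htact y).1 hy)
        exact ⟨i.val, j.val, by rw [F.vmul, F.v_smul i.2, F.v_smul j.2]⟩
      · rw [← threeA_orders.2.2.1, ← Fintype.card_subtype, ← Nat.card_eq_fintype_card]
        exact Nat.card_congr (Equiv.subtypeEquivRight fun y => comm_v_iff htact y)
      · obtain ⟨s, hs⟩ := hkey n hn hnN
        obtain ⟨a1, a2, -⟩ := ax2 s
        exact ⟨a1.imp (fun e => by rw [actsAs_act hs, e]) (fun e => by rw [actsAs_act hs, e, F.v_inv]),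
          a2.imp (fun e => by rw [actsAs_act hs, e]) (fun e => by rw [actsAs_act hs, e, F.v_inv])⟩
      · obtain ⟨s, hs⟩ := hkey n hn hnN
        obtain ⟨-, -, a3⟩ := ax2 s
        rcases a3 ((comm_v_iff hs 9).1 e1.symm) ((comm_v_iff hs 3).1 e2.symm) with rfl | rfl
        · exact Or.inl (mem_J_of_act hs)
        · refine Or.inr ?_
          have h4 := inv_mul_mem_J htact hs
          rwa [inv_eq_of_mul_eq_one_right htt] at h4
    have hτC : τ * t = t * τ := by
      rw [hτ, ← D.w_p 2, htdef, w_mul, w_mul]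
      congr 1 <;> decide +kernel
    have hCt : centralizer ({t} : Set G) ≤ normalizer (F.J : Set G) := fun g hg => by
      by_cases hgM : g ∈ M1
      · exact hCle ⟨hg, hgM⟩
      · have h4 : τ * g ∈ C := ⟨mul_mem (mem_centralizer_singleton_iff.2 hτC) hg, by
          show τ * g ∈ M1
          rw [mul_mem_iff_of_index_two hM1]
          exact iff_of_false hτM1 hgM⟩
        have h5 := mul_mem (inv_mem (F.p_mem_normalizer 2)) (hCle h4)
        rwa [← hτ, inv_mul_cancel_left] at h5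
    have hC144 : Nat.card (centralizer ({t} : Set G)) = 144 := by
      rw [← hNt, inf_eq_left.2 hCt]
    have hJ3 : ∀ z, z * t = t * z → z ^ 3 = 1 → z ∈ F.J := by
      intro z hzt hz3
      have hzN := hCt (mem_centralizer_singleton_iff.2 hzt)
      obtain ⟨s, k, hsk, hcm⟩ := hdec z hzN hzt
      have h4 : ∀ a, act s k a = ((act s k)^[4]) a := fun a => F.vinj (by
        rw [← hsk.pow, show z ^ 4 = z by rw [pow_succ, hz3, one_mul], actsAs_act hsk])
      obtain ⟨rfl, rfl⟩ := ax6 s k hcm (h4 9) (h4 3) (h4 1)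
      exact mem_J_of_act hsk
    have ht7 : ∀ g : G, g * t * g⁻¹ ≠ D.w 7 0 := by
      intro g hg
      set z := g⁻¹ * F.p 3 * g with hz
      have hp3 : F.p 3 ^ 3 = 1 := by
        rw [pow_succ', pow_two, ← F.pmul, ← F.pmul]
        exact F.p0
      have h4 := hJ3 z (by
        have hcomm := D.inv_p 3
        rw [← D.w_inv, ← hg] at hcomm
        calc z * t = g⁻¹ * (F.p 3 * (g * t * g⁻¹)) * g := by rw [hz]; group
          _ = g⁻¹ * (g * t * g⁻¹ * F.p 3) * g := by rw [hcomm]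
          _ = t * z := by rw [hz]; group)
        (by rw [hz, show g⁻¹ * F.p 3 * g = g⁻¹ * F.p 3 * g⁻¹⁻¹ by group, conj_pow, hp3]; group)
      refine D.not_conj_J h1 (g := g⁻¹) (s := F.p 3) ⟨0, 3, Or.inr (Or.inl rfl), by rw [F.v0, one_mul]⟩ ?_ ?_
      · rintro ⟨i, hi⟩
        have := (F.vp_eq (show F.v i * F.p 0 = F.v 0 * F.p 3 by rw [F.p0, mul_one, F.v0, one_mul, hi])).2
        exact absurd this (by decide)
      · rw [inv_inv, ← hz]; exact h4
    have ht6 : ∀ g : G, g * t * g⁻¹ ≠ D.w 6 0 := by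
      intro g hg
      set u := D.w 6 0 with hu
      have hua : F.ActsAs u 6 0 := (D.w_spec 6 0).2.1
      have hcu : F.v 1 * u = u * F.v 1 := (comm_v_iff hua 1).2 (by decide +kernel)
      have h4 := hJ3 (g⁻¹ * F.v 1 * g) (by
          rw [← hg] at hcu
          calc g⁻¹ * F.v 1 * g * t = g⁻¹ * (F.v 1 * (g * t * g⁻¹)) * g := by group
            _ = g⁻¹ * (g * t * g⁻¹ * F.v 1) * g := by rw [hcu]
            _ = t * (g⁻¹ * F.v 1 * g) := by group)
        (by rw [show g⁻¹ * F.v 1 * g = g⁻¹ * F.v 1 * g⁻¹⁻¹ by group, conj_pow, F.v_cube]; group)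
      obtain ⟨y, hy⟩ := h4
      obtain ⟨n, hn, -, hny⟩ := exists_normalizer_conj (W := ∅) (Set.empty_subset _) (i := y) (j := 1) (g := g)
        (by simp) (by rw [hy]; group)
      have hgn : g * n⁻¹ ∈ normalizer (F.J : Set G) := h1 _ (by
        rw [← mul_inv_eq_iff_eq_mul]
        calc g * n⁻¹ * F.v 1 * (g * n⁻¹)⁻¹ = g * (n⁻¹ * (n * F.v y * n⁻¹) * n) * g⁻¹ := by rw [hny]; group
          _ = g * F.v y * g⁻¹ := by group
          _ = F.v 1 := by rw [hy]; group)
      have hgN : g ∈ normalizer (F.J : Set G) := by simpa using mul_mem hgn hn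
      obtain ⟨i, s, k, e, hsk⟩ := D.exists_eq hgN
      have hcm : ∀ j, act s k (act 1 0 j) = act 6 0 (act s k j) := fun j => F.vinj (by
        rw [← actsAs_act hsk, ← actsAs_act htact, ← actsAs_act hua, ← actsAs_act hsk, ← hg]
        group)
      have key : ∀ s k, ¬ ∀ j ∈ [(9 : Fin 27), 3, 1], act s k (act 1 0 j) = act 6 0 (act s k j) := by decide +kernel
      exact key s k fun j _ => hcm j
    have hconjM1 : ∀ {g : G} {s : Fin 8} {k : Fin 6}, g * t * g⁻¹ = D.w s k → k ≠ 2 := by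
      intro g s k e hk
      subst hk
      have h4 := hM1n.conj_mem _ htM1 g
      rw [e, show D.w s 2 = D.w s 0 * D.w 0 2 by rw [w_mul, threeA_parity.2.2.2.1, full_facts.2.2.2.2.2.2.1],
        D.w_p, mul_mem_iff_of_index_two hM1] at h4
      exact hτM1 (h4.1 (hsignM1 s))
    have ht1 : t ≠ 1 := D.w_ne_one (by decide)
    obtain ⟨M2, hM2, htM2⟩ : ∃ M2 : Subgroup G, M2.index = 2 ∧ t ∉ M2 := by
      by_cases h32 : 32 ∣ Nat.card G
      · obtain ⟨U, hU, hUc⟩ := exU (fun s k => (s = 0 ∨ s = 1 ∨ s = 6 ∨ s = 7) ∧ (k = 0 ∨ k = 2))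
          ⟨by decide, by decide +kernel, by decide +kernel⟩
        have hU8 : Nat.card U = 8 := by rw [hUc, Nat.card_eq_fintype_card]; decide +kernel
        have hle : U ≤ centralizer ({t} : Set G) := hcU hU (by decide +kernel)
        refine exists_index_two U htt ((hU t).2 ⟨1, 0, by decide, rfl⟩) hle (fun g hg => ?_) (f := 18)
          (hrel hle hU8 hC144) ?_
        · obtain ⟨s, k, ⟨hs, hk⟩, e⟩ := (hU _).1 hg
          rcases hk with rfl | rfl
          · rcases hs with rfl | rfl | rfl | rfl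
            · rw [w_one, conj_eq_one_iff] at e
              exact absurd e ht1
            · exact e
            · exact absurd e (ht6 g)
            · exact absurd e (ht7 g)
          · exact absurd rfl (hconjM1 e)
        · have hidx := card_mul_index U
          rw [hU8] at hidx
          obtain ⟨q, hq⟩ := Nat.dvd_trans (show 288 ∣ Nat.lcm 32 72 by decide) (Nat.lcm_dvd h32 h72)
          have hpos : 0 < Nat.card G := Nat.card_pos
          rw [Nat.odd_iff]
          omega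
      · obtain ⟨U, hU, hUc⟩ := exU (fun s k => (s = 0 ∨ s = 3 ∨ s = 5 ∨ s = 6) ∧ (k = 0 ∨ k = 2))
          ⟨by decide, by decide +kernel, by decide +kernel⟩
        have hU8 : Nat.card U = 8 := by rw [hUc, Nat.card_eq_fintype_card]; decide +kernel
        refine exists_index_two' U htt (fun g hg => ?_) ?_
        · obtain ⟨s, k, ⟨hs, hk⟩, e⟩ := (hU _).1 hg
          rcases hk with rfl | rfl
          · rcases hs with rfl | hs
            · rw [w_one, conj_eq_one_iff] at e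
              exact absurd e ht1
            · have key : ∀ s : Fin 8, s = 3 ∨ s = 5 ∨ s = 6 →
                  ∃ r, sComp 0 r s = 6 ∧ kmul (kmul r 0) (kinv r) = 0 ∧ sComp 6 (kmul r 0) 0 = 6 := by decide +kernel
              obtain ⟨r, e1, e2, e3⟩ := key s hs
              refine ht6 (D.w 0 r * g) ?_
              rw [show D.w 0 r * g * t * (D.w 0 r * g)⁻¹ = D.w 0 r * (g * t * g⁻¹) * (D.w 0 r)⁻¹ by group, e]
              rw [D.w_p r, F.p_inv, ← D.w_p r, ← D.w_p (kinv r), w_mul, w_mul, e1, e2, e3]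
          · exact absurd rfl (hconjM1 e)
        · have hidx := card_mul_index U
          rw [hU8] at hidx
          obtain ⟨q, hq⟩ := h16
          rw [hq] at hidx h32
          rw [Nat.odd_iff]
          omega
    by_cases hτM2 : τ ∈ M2
    swap
    · exact ⟨M2, hM2, htM2, hτM2⟩
    let M3 : Subgroup G :=
      { carrier := {g | g ∈ M1 ↔ g ∈ M2}
        one_mem' := iff_of_true (one_mem _) (one_mem _)
        mul_mem' := fun {a b} ha hb => by
          show a * b ∈ M1 ↔ a * b ∈ M2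
          rw [mul_mem_iff_of_index_two hM1, mul_mem_iff_of_index_two hM2, show (a ∈ M1 ↔ a ∈ M2) from ha,
            show (b ∈ M1 ↔ b ∈ M2) from hb]
        inv_mem' := fun {a} ha => by
          show a⁻¹ ∈ M1 ↔ a⁻¹ ∈ M2
          rw [inv_mem_iff, inv_mem_iff]
          exact ha }
    refine ⟨M3, index_eq_two_iff_exists_notMem_and.2 ⟨τ, fun e => hτM1 (e.2 hτM2), fun b => ?_⟩,
      fun e => htM2 (e.1 htM1), fun e => hτM1 (e.2 hτM2)⟩
    show (b * τ ∈ M1 ↔ b * τ ∈ M2) ∨ (b ∈ M1 ↔ b ∈ M2)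
    rw [mul_mem_iff_of_index_two hM1, mul_mem_iff_of_index_two hM2]
    tauto
  haveI hMn : M.Normal := normal_of_index_eq_two hM
  have h3M : ∀ j ∈ F.J, j ∈ M := fun j hj => by
    rw [show j = (j ^ 2) ^ 2 by rw [← pow_mul, show 2 * 2 = 3 + 1 by rfl, pow_add, F.J_cube hj, one_mul, pow_one]]
    exact pow_mem (sq_mem_of_index_two hM j) 2
  have heven := D.mem_iff_even hM htM hτM
  -- the even part
  obtain ⟨K, hK, hKc⟩ := exU (fun s k => evenSP s k = true) ⟨by decide, by decide +kernel, by decide +kernel⟩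
  have hKN : K ≤ normalizer (F.J : Set G) := fun g hg => by
    obtain ⟨s, k, -, rfl⟩ := (hK g).1 hg
    exact (D.w_spec s k).1
  have hKJ : ∀ g ∈ K, g ∈ F.J → g = 1 := fun g hg hJ => by
    obtain ⟨s, k, -, rfl⟩ := (hK g).1 hg
    obtain ⟨i, hi⟩ := hJ
    have h4 := (D.w_spec s k).2.1
    rw [← hi] at h4
    obtain ⟨rfl, rfl⟩ := F.actsAs_unique h4 (F.actsAs_v i)
    rw [w_one]
  set H := withJ F K hKN with hH
  have hHM : ∀ g, g ∈ H ↔ g ∈ M ∧ g ∈ normalizer (F.J : Set G) := by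
    intro g
    constructor
    · rintro ⟨i, u, hu, rfl⟩
      obtain ⟨s, k, hsk, rfl⟩ := (hK u).1 hu
      exact ⟨mul_mem (h3M _ (F.v_mem i)) ((heven s k).2 hsk), mul_mem (F.v_mem_normalizer i) (D.w_spec s k).1⟩
    · rintro ⟨hgM, hg⟩
      obtain ⟨i, s, k, e, -⟩ := D.exists_eq hg
      have h5 : D.w s k ∈ M := by
        have := mul_mem (inv_mem (h3M _ (F.v_mem i))) hgM
        rwa [e, inv_mul_cancel_left] at this
      exact ⟨i, D.w s k, (hK _).2 ⟨s, k, (heven s k).1 h5, rfl⟩, e⟩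
  obtain ⟨ψ, hψ, hψv⟩ := D.isCase.exists_perm_hom hKN hKJ
  set H0 := Subgroup.closure ({Equiv.swap (0 : Fin 9) 1 * Equiv.swap 1 2,
    Equiv.swap (0 : Fin 9) 3 * Equiv.swap 3 6 * (Equiv.swap (1 : Fin 9) 4 * Equiv.swap 4 7) *
      (Equiv.swap (2 : Fin 9) 5 * Equiv.swap 5 8),
    Equiv.swap (0 : Fin 9) 1 * Equiv.swap 3 4,
    Equiv.swap (0 : Fin 9) 3 * Equiv.swap 1 4 * Equiv.swap 2 5 * Equiv.swap 6 7} : Set (Equiv.Perm (Fin 9))) with hH0
  have hrange : H0 = ψ.range := by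
    refine eq_of_le_of_card_ge ?_ ?_
    · rw [hH0, closure_le]
      have hv : ∀ i s k, evenSP s k = true → mperm i s k ∈ ψ.range := fun i s k hsk =>
        ⟨_, hψv i (D.w s k) ((hK _).2 ⟨s, k, hsk, rfl⟩) s k (D.w_spec s k).2.1⟩
      obtain ⟨g1, g2, g3, g4⟩ := threeA_gens
      intro y hy
      simp only [Set.mem_insert_iff, Set.mem_singleton_iff] at hy
      rcases hy with rfl | rfl | rfl | rfl
      exacts [g1 ▸ hv 9 0 0 (by decide), g2 ▸ hv 0 0 3 (by decide), g3 ▸ hv 12 6 0 (by decide),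
        g4 ▸ hv 1 1 2 (by decide)]
    · rw [Nat.card_congr (MonoidHom.ofInjective hψ).symm.toEquiv, hH0, ← Recog.ThreeCubedFour.range_modelPerm,
        Nat.card_congr (MonoidHom.ofInjective Recog.ThreeCubedFour.modelPerm_injective).symm.toEquiv,
        Nat.card_eq_fintype_card (α := Recog.ThreeCubedFour.Model), Recog.ThreeCubedFour.card_model]
      haveI := Fintype.ofFinite K
      have hK24 : Nat.card K = 24 := by
        rw [hKc, Nat.card_eq_fintype_card, Fintype.card_subtype]; exact card_even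
      refine le_trans (Nat.card_le_card_of_surjective (fun q : Fin 27 × K => (⟨F.v q.1 * q.2, q.1, q.2, q.2.2, rfl⟩ : H))
        ?_) ?_
      · rintro ⟨g, i, u, hu, rfl⟩
        exact ⟨(i, ⟨u, hu⟩), rfl⟩
      · rw [Nat.card_prod, Nat.card_fin, hK24]
  have hHle : H ≤ M := fun g hg => ((hHM g).1 hg).1
  have eH : ↥(H.subgroupOf M) ≃* ↥H0 :=
    (subgroupOfEquivOfLe hHle).trans ((MonoidHom.ofInjective hψ).trans (MulEquiv.subgroupCongr hrange.symm))
  have hJM : F.J ≤ M := h3M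
  have hJH : F.J ≤ H := fun j hj => (hHM j).2 ⟨h3M j hj, Subgroup.le_normalizer hj⟩
  -- the three-core
  have hcore : F.J.subgroupOf M = (Cfsg.pCore 3 ↥(H.subgroupOf M)).map (H.subgroupOf M).subtype := by
    set HM := H.subgroupOf M
    let J' : Subgroup HM := (F.J.subgroupOf M).subgroupOf HM
    have hJ'n : J'.Normal := ⟨fun j hj g => by
      have hg := ((hHM _).1 (mem_subgroupOf.1 g.2)).2
      exact (mem_normalizer_iff.1 hg _).1 hj⟩
    have hJ'p : IsPGroup 3 J' := fun j => ⟨1, Subtype.ext (Subtype.ext (Subtype.ext (by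
      simpa using F.J_cube j.2)))⟩
    have hle1 := Cfsg.Lib.Core.le_pCore' hJ'n hJ'p
    have hpc : IsPGroup 3 (Cfsg.pCore 3 HM) := Cfsg.Lib.Fusion.pCore_isPGroup 3
    refine le_antisymm (fun j hj => ?_) ?_
    · exact ⟨⟨j, mem_subgroupOf.2 (hJH hj)⟩, hle1 hj, rfl⟩
    · rintro _ ⟨y, hy, rfl⟩
      refine mem_subgroupOf.2 ?_
      obtain ⟨hyM, hyN⟩ := (hHM _).1 (mem_subgroupOf.1 y.2)
      obtain ⟨e, he⟩ := hpc ⟨y, hy⟩
      have he' : (((y : M) : G)) ^ 3 ^ e = 1 := by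
        have := congrArg (fun q : Cfsg.pCore 3 HM => (((q : HM) : M) : G)) he
        simpa using this
      obtain ⟨i, s, k, hyeq, hsk⟩ := D.exists_eq hyN
      set Y := ((y : M) : G) with hY
      -- a 3-element acting as a sign lies in `J`
      have hsign3 : ∀ (z : G) (s' : Fin 8) (e' : ℕ), F.ActsAs z s' 0 → z ^ 3 ^ e' = 1 → s' = 0 := by
        intro z s' e' hz hze
        refine threeA_parity.2.2.2.2.2.1 s' fun a => ?_
        revert a
        refine code_ind (Q := fun a => act s' 0 a = a) ?_ (fun a b ha hb => ?_) fun a ha => ?_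
        · refine F.vinj ?_
          rw [← actsAs_act hz, F.v0]; group
        · refine F.vinj ?_
          rw [← actsAs_act hz, F.vmul]
          calc z * (F.v a * F.v b) * z⁻¹ = (z * F.v a * z⁻¹) * (z * F.v b * z⁻¹) := by group
            _ = F.v a * F.v b := by rw [actsAs_act hz, actsAs_act hz, ha, hb]
        · have key : ∀ s : Fin 8, ∀ a ∈ [(9 : Fin 27), 3, 1], act s 0 a = a ∨ act s 0 a = vSmul 2 a := by
            decide +kernel
          refine F.vinj ?_
          rw [← actsAs_act hz]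
          refine commute_of_conj_inv ?_ hze
          rcases key s' a ha with e2 | e2 <;> rw [actsAs_act hz, e2]
          · exact Or.inl rfl
          · exact Or.inr (F.v_inv a).symm
      rcases threeA_conj.2.2 k with rfl | hk
      · obtain rfl := hsign3 Y s e hsk he'
        exact mem_J_of_act hsk
      have hk34 : k = 3 ∨ k = 4 := by
        rcases hk with e1 | e1 | e1
        · exact Or.inl e1
        · exact Or.inr e1
        exfalso
        -- an element acting with a transposition is not a 3-element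
        have h5 : ∀ a, ((act s k)^[3 ^ e]) a = a := fun a => F.vinj (by rw [← hsk.pow, he']; simp)
        have h2 : ∀ q : ℕ, ∀ a, ∃ s', ((act s k)^[2 * q]) a = act s' 0 a := by
          have key : ∀ s : Fin 8, ∀ k : Fin 6, k = 1 ∨ k = 2 ∨ k = 5 → ∃ s', ∀ a, act s k (act s k a) = act s' 0 a := by
            decide +kernel
          obtain ⟨s1, hs1⟩ := key s k e1
          have key2 : ∀ s1 s2 : Fin 8, ∃ s', ∀ a, act s1 0 (act s2 0 a) = act s' 0 a := by decide +kernel
          intro q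
          induction q with
          | zero => exact fun a => ⟨0, (act_facts.1 a).symm⟩
          | succ q ih =>
            intro a
            obtain ⟨s2, hs2⟩ := ih a
            obtain ⟨s', hs'⟩ := key2 s1 s2
            exact ⟨s', by rw [Nat.mul_succ, show 2 * q + 2 = 2 + 2 * q by ring, Function.iterate_add_apply, hs2,
              Function.iterate_succ_apply', Function.iterate_one, hs1, hs']⟩
        obtain ⟨q, hq⟩ := Nat.odd_iff.2 (show 3 ^ e % 2 = 1 by rw [Nat.pow_mod]; simp)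
        have key3 : ∀ k : Fin 6, k = 1 ∨ k = 2 ∨ k = 5 → ∃ a ∈ [(9 : Fin 27), 3, 1], ∀ s s', act s k (act s' 0 a) ≠ a := by
          decide +kernel
        obtain ⟨a, -, hne⟩ := key3 k e1
        obtain ⟨s', hs'⟩ := h2 q a
        refine hne s s' ?_
        rw [← hs', ← Function.iterate_succ_apply' (act s k), show (2 * q).succ = 3 ^ e from hq.symm, h5]
      exfalso
      -- the commutator with a sign
      have h60 : D.w 6 0 ∈ H := (hHM _).2 ⟨(heven 6 0).2 (by decide), (D.w_spec 6 0).1⟩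
      let u : HM := ⟨⟨D.w 6 0, hHle h60⟩, h60⟩
      have hzc : y * u * y⁻¹ * u⁻¹ ∈ Cfsg.pCore 3 HM := by
        rw [show y * u * y⁻¹ * u⁻¹ = y * (u * y⁻¹ * u⁻¹) by group]
        haveI : (Cfsg.pCore 3 HM).Characteristic := Cfsg.Lib.Core.pCore_characteristic
        exact mul_mem hy ((inferInstance : (Cfsg.pCore 3 HM).Normal).conj_mem _ (inv_mem hy) u)
      obtain ⟨e', he''⟩ := hpc ⟨_, hzc⟩
      set z := Y * D.w 6 0 * Y⁻¹ * (D.w 6 0)⁻¹ with hz
      have hzz : z ^ 3 ^ e' = 1 := by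
        have := congrArg (fun q : Cfsg.pCore 3 HM => (((q : HM) : M) : G)) he''
        simpa [hz, hY, u] using this
      have hzN : z ∈ normalizer (F.J : Set G) :=
        mul_mem (mul_mem (mul_mem hyN (D.w_spec 6 0).1) (inv_mem hyN)) (inv_mem (D.w_spec 6 0).1)
      obtain ⟨_, s', k', -, hz'⟩ := D.exists_eq hzN
      have he2 : z * (D.w 6 0 * Y) = Y * D.w 6 0 := by rw [hz]; group
      have h6 := hz'.comp ((D.w_spec 6 0).2.1.comp hsk)
      rw [he2] at h6
      obtain ⟨c1, c2⟩ := F.actsAs_unique h6 (hsk.comp (D.w_spec 6 0).2.1)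
      obtain ⟨c3, c4⟩ := threeA_parity.2.2.2.2.1 s k s' k' hk34 c1 c2
      subst c4
      exact c3 (hsign3 z s' e' hz' hzz)
  have htop := Cfsg.Agent.S3702.result (G := M) (H.subgroupOf M) ⟨eH⟩ (F.J.subgroupOf M) hcore
    (fun j hj hj1 g hg => by
      obtain ⟨y, hy⟩ := mem_subgroupOf.1 hj
      refine mem_subgroupOf.2 ((hHM _).2 ⟨g.2, hsc y (fun e => hj1 (Subtype.ext ?_)) _ ?_⟩)
      · rw [← hy, e, F.v0]; rfl
      · rw [hy]; exact congrArg Subtype.val (mem_centralizer_singleton_iff.1 hg))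
    ⟨fun j hj => mem_subgroupOf.2 (hJH hj), fun j hj g hg => by
      refine mem_subgroupOf.2 (D.mem_J_of_conj h1 ((hHM _).1 (mem_subgroupOf.1 hg)).2 ?_ (g := ((g : M) : G)⁻¹) ?_)
      · simp only [Subgroup.coe_mul, InvMemClass.coe_inv]
        rw [conj_pow, F.J_cube (mem_subgroupOf.1 hj)]; group
      · simp only [Subgroup.coe_mul, InvMemClass.coe_inv]
        rw [show (g : G)⁻¹ * ((g : G) * (j : G) * (g : G)⁻¹) * (g : G)⁻¹⁻¹ = (j : G) by group]
        exact mem_subgroupOf.1 hj⟩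
  have hMle : M ≤ normalizer (F.J : Set G) := fun g hg =>
    ((hHM g).1 (mem_subgroupOf.1 (htop ▸ mem_top (⟨g, hg⟩ : M)))).2
  rw [← normalizer_eq_top_iff, ← index_eq_one]
  have hd : (normalizer (F.J : Set G)).index ∣ 2 := hM ▸ index_dvd_of_le hMle
  rcases (Nat.dvd_prime Nat.prime_two).1 hd with e | e
  · exact e
  · exfalso
    have hMeq : M = normalizer (F.J : Set G) := eq_of_le_of_card_ge hMle (by
      have a1 := card_mul_index M
      have a2 := card_mul_index (normalizer (F.J : Set G))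
      rw [hM] at a1
      rw [e] at a2
      omega)
    exact hτM (hMeq ▸ F.p_mem_normalizer 2)

end Frame

end Cfsg.Lib.SymNine
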