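import Cfsg.Agent.Lib.SymNine.TransIndex
import Cfsg.Agent.Lib.SymNine.CaseThreeA
import Cfsg.Agent.Lib.NineThree.Frame
import Cfsg.Agent.S2119

/-!
# An axis with a large centralizer

The index two subgroup is a group of the kind of the alternating group of degree nine, hence the whole group is
the symmetric group.
-/

set_option autoImplicit false
set_option maxHeartbeats 1600000
set_option maxRecDepth 100000
set_option synthInstance.maxSize 2000
set_option synthInstance.maxHeartbeats 200000
set_option linter.unusedSectionVars false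
set_option linter.style.haveILetI false

namespace Cfsg.Lib.SymNine

open Subgroup Equiv

theorem base_pv : ∀ i : Fin 27, ∃ x : Recog.ThreeCubedFour.Model,
    Recog.ThreeCubedFour.InBase x ∧ Recog.ThreeCubedFour.modelPerm x = mperm i 0 0 := by
  decide +kernel

theorem even_facts :
    mperm 0 0 0 = 1 ∧ (∀ i, act 6 0 i = i → act 3 0 i = i → i = 0) ∧ evenSP 6 0 = true ∧ evenSP 3 0 = true := by
  refine ⟨?_, ?_, ?_, ?_⟩ <;> decide +kernel

universe u

/-- The recognition of the alternating group of degree nine from the frame of its three-local subgroup. -/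
def NineRecognised : Prop :=
  ∀ (M : Type u) [Group M] [Finite M] (Fr : NineThree.Frame M),
    Fr.φ.range = ⊤ ∨ Nonempty (M ≃* alternatingGroup (Fin 9))

namespace Frame

variable {G : Type u} [Group G] [Finite G] {F : Frame G}

/-- All signs and a large centralizer of an axis. -/
theorem Full.normal_or_symmetric (D : F.Full) (hrec : NineRecognised.{u})
    (hbig : ¬ ∀ g, g * F.v 1 = F.v 1 * g → g ∈ normalizer (F.J : Set G)) :
    F.J.Normal ∨ Nonempty (G ≃* Perm (Fin 9)) := by
  classical
  haveI : Fact (Nat.Prime 3) := ⟨Nat.prime_three⟩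
  obtain ⟨S⟩ := D.exists_six hbig
  obtain ⟨M, hM, htM, hτM⟩ := S.exists_index_two
  haveI hMn : M.Normal := normal_of_index_eq_two hM
  have h3M : ∀ j ∈ F.J, j ∈ M := fun j hj => by
    rw [show j = (j ^ 2) ^ 2 by rw [← pow_mul, show 2 * 2 = 3 + 1 by rfl, pow_add, F.J_cube hj, one_mul, pow_one]]
    exact pow_mem (sq_mem_of_index_two hM j) 2
  have heven := D.mem_iff_even hM htM hτM
  -- the even part
  let K : Subgroup G :=
    { carrier := {g | ∃ s k, evenSP s k = true ∧ g = D.w s k}
      one_mem' := ⟨0, 0, by decide, D.w_one.symm⟩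
      mul_mem' := by
        rintro a b ⟨s, k, hsk, rfl⟩ ⟨t, l, htl, rfl⟩
        exact ⟨_, _, by rw [threeA_parity.2.2.1, hsk, htl]; rfl, D.w_mul s t k l⟩
      inv_mem' := by
        rintro a ⟨s, k, hsk, rfl⟩
        have key : ∀ s k, evenSP s k = true → ∃ s' k', evenSP s' k' = true ∧ sComp s k s' = 0 ∧ kmul k k' = 0 := by
          decide +kernel
        obtain ⟨s', k', h', e1, e2⟩ := key s k hsk
        exact ⟨s', k', h', inv_eq_of_mul_eq_one_right (by rw [D.w_mul, e1, e2, D.w_one])⟩ }
  have hKN : K ≤ normalizer (F.J : Set G) := by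
    rintro g ⟨s, k, -, rfl⟩
    exact (D.w_spec s k).1
  have hKJ : ∀ g ∈ K, g ∈ F.J → g = 1 := by
    rintro g ⟨s, k, -, rfl⟩ ⟨i, hi⟩
    have h4 := (D.w_spec s k).2.1
    rw [← hi] at h4
    obtain ⟨rfl, rfl⟩ := F.actsAs_unique h4 (F.actsAs_v i)
    rw [D.w_one]
  set H := withJ F K hKN with hH
  have hHM : ∀ g, g ∈ H ↔ g ∈ M ∧ g ∈ normalizer (F.J : Set G) := by
    intro g
    constructor
    · rintro ⟨i, w, ⟨s, k, hsk, rfl⟩, rfl⟩
      exact ⟨mul_mem (h3M _ (F.v_mem i)) ((heven s k).2 hsk), mul_mem (F.v_mem_normalizer i) (D.w_spec s k).1⟩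
    · rintro ⟨hgM, hg⟩
      obtain ⟨i, s, k, e, -⟩ := D.exists_eq hg
      have h5 : D.w s k ∈ M := by
        have := mul_mem (inv_mem (h3M _ (F.v_mem i))) hgM
        rwa [e, inv_mul_cancel_left] at this
      exact ⟨i, D.w s k, ⟨s, k, (heven s k).1 h5, rfl⟩, e⟩
  have hHle : H ≤ M := fun g hg => ((hHM g).1 hg).1
  obtain ⟨ψ, hψ, hψv⟩ := D.isCase.exists_perm_hom hKN hKJ
  have hrange : Recog.ThreeCubedFour.modelPerm.range = ψ.range := by
    refine eq_of_le_of_card_ge ?_ ?_
    · rw [Recog.ThreeCubedFour.range_modelPerm, closure_le]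
      have hv : ∀ i s k, evenSP s k = true → mperm i s k ∈ ψ.range := fun i s k hsk =>
        ⟨_, hψv i (D.w s k) ⟨s, k, hsk, rfl⟩ s k (D.w_spec s k).2.1⟩
      obtain ⟨g1, g2, g3, g4⟩ := threeA_gens
      intro y hy
      simp only [Set.mem_insert_iff, Set.mem_singleton_iff] at hy
      rcases hy with rfl | rfl | rfl | rfl
      exacts [g1 ▸ hv 9 0 0 (by decide), g2 ▸ hv 0 0 3 (by decide), g3 ▸ hv 12 6 0 (by decide),
        g4 ▸ hv 1 1 2 (by decide)]
    · rw [Nat.card_congr (MonoidHom.ofInjective hψ).symm.toEquiv,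
        Nat.card_congr (MonoidHom.ofInjective Recog.ThreeCubedFour.modelPerm_injective).symm.toEquiv,
        Nat.card_eq_fintype_card (α := Recog.ThreeCubedFour.Model), Recog.ThreeCubedFour.card_model]
      have hK24 : Nat.card K ≤ 24 := by
        have e : Nat.card {q : Fin 8 × Fin 6 // evenSP q.1 q.2 = true} = 24 := by
          rw [Nat.card_eq_fintype_card, Fintype.card_subtype]; exact card_even
        rw [← e]
        refine Nat.card_le_card_of_surjective (fun q => (⟨D.w q.1.1 q.1.2, _, _, q.2, rfl⟩ : K)) ?_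
        rintro ⟨g, s, k, hsk, rfl⟩
        exact ⟨⟨(s, k), hsk⟩, rfl⟩
      refine le_trans (Nat.card_le_card_of_surjective (fun q : Fin 27 × K => (⟨F.v q.1 * q.2, q.1, q.2, q.2.2, rfl⟩ : H))
        ?_) ?_
      · rintro ⟨g, i, w, hw, rfl⟩
        exact ⟨(i, ⟨w, hw⟩), rfl⟩
      · rw [Nat.card_prod, Nat.card_fin]
        omega
  let ρ : Recog.ThreeCubedFour.Model ≃* H :=
    (MonoidHom.ofInjective Recog.ThreeCubedFour.modelPerm_injective).trans
      ((MulEquiv.subgroupCongr hrange).trans (MonoidHom.ofInjective hψ).symm)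
  let φ : Recog.ThreeCubedFour.Model →* M := (Subgroup.inclusion hHle).comp ρ.toMonoidHom
  have hφinj : Function.Injective φ := (Subgroup.inclusion_injective hHle).comp ρ.injective
  have hψρ : ∀ x, ψ (ρ x) = Recog.ThreeCubedFour.modelPerm x := fun x => by
    show ψ ((MonoidHom.ofInjective hψ).symm _) = _
    exact congrArg Subtype.val ((MonoidHom.ofInjective hψ).apply_symm_apply _)
  have hbaseJ : ∀ i, ∃ x, Recog.ThreeCubedFour.InBase x ∧ (φ x : G) = F.v i := by
    intro i
    obtain ⟨x, hx, he⟩ := base_pv i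
    refine ⟨x, hx, ?_⟩
    have h1 : (ρ x : H) = ⟨F.v i * 1, i, 1, one_mem _, rfl⟩ := by
      refine hψ ?_
      rw [hψρ, he]
      exact (hψv i 1 (one_mem _) 0 0 (fun j => by
        show _ = F.v (act 0 0 j)
        rw [act_facts.1, one_mul, inv_one, mul_one])).symm
    show ((ρ x : H) : G) = F.v i
    rw [h1]
    exact mul_one _
  have hJeq : ∀ {y : M}, y ∈ Recog.ThreeCubedFour.baseSub.map φ ↔ (y : G) ∈ F.J := by
    have hle : F.J.subgroupOf M ≤ Recog.ThreeCubedFour.baseSub.map φ := fun y hy => by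
      obtain ⟨i, hi⟩ := mem_subgroupOf.1 hy
      obtain ⟨x, hx, hxe⟩ := hbaseJ i
      exact ⟨x, hx, Subtype.ext (hxe.trans hi)⟩
    have heq := eq_of_le_of_card_ge hle (by
      rw [Nat.card_congr (subgroupOfEquivOfLe h3M).toEquiv, F.card_J,
        Subgroup.card_map_of_injective hφinj, NineThree.card_baseSub])
    intro y
    rw [← heq, mem_subgroupOf]
  let Fr : NineThree.Frame M :=
    { φ := φ
      inj := hφinj
      norm := fun g hg => by
        have hgN : (g : G) ∈ normalizer (F.J : Set G) := Fusion.le_normalizer_of_conj_mem fun j hj => by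
          obtain ⟨i, rfl⟩ := hj
          obtain ⟨x, hx, hxe⟩ := hbaseJ i
          have h1 := hJeq.1 (hg x hx)
          simpa [hxe] using h1
        refine ⟨ρ.symm ⟨g, (hHM g).2 ⟨g.2, hgN⟩⟩, Subtype.ext ?_⟩
        show ((ρ (ρ.symm _) : H) : G) = g
        rw [ρ.apply_symm_apply]
      core := fun x hx hx1 => by
        obtain ⟨i, hi⟩ := hJeq.1 (mem_map_of_mem φ (Recog.ThreeCubedFour.mem_baseSub.2 hx))
        set C := centralizer ({φ x} : Set M) with hC
        set K0 := Cfsg.pPrimeCore 3 C with hK0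
        let Kg : Subgroup G := (K0.map C.subtype).map M.subtype
        have hKg : Kg = ⊥ := F.sig Kg (by
          rw [card_map_of_injective M.subtype_injective, card_map_of_injective C.subtype_injective]
          exact Core.pPrimeCore_coprime 3 C) fun a => by
            have hjC : (⟨F.v a, h3M _ (F.v_mem a)⟩ : M) ∈ C := mem_centralizer_singleton_iff.2 (Subtype.ext (by
              show F.v a * (φ x : G) = (φ x : G) * F.v a
              rw [← hi, (F.v_comm a i).eq]))
            haveI : K0.Normal := hK0 ▸ inferInstance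
            have key : ∀ c : C, ∀ y ∈ K0, c * y * c⁻¹ ∈ K0 := fun c y hy => ‹K0.Normal›.conj_mem y hy c
            ext y
            constructor
            · rintro ⟨_, ⟨_, ⟨k, hk, rfl⟩, rfl⟩, rfl⟩
              exact ⟨_, ⟨_, key ⟨_, hjC⟩ k hk, rfl⟩, rfl⟩
            · rintro ⟨_, ⟨k, hk, rfl⟩, rfl⟩
              refine ⟨_, ⟨_, ⟨_, key (⟨_, hjC⟩ : C)⁻¹ k hk, rfl⟩, rfl⟩, ?_⟩
              simp [MulAut.conj_apply, mul_assoc]
        rw [map_eq_bot_iff_of_injective _ M.subtype_injective,
          map_eq_bot_iff_of_injective _ C.subtype_injective] at hKg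
        exact hKg }
  rcases hrec M Fr with htop | ⟨⟨e⟩⟩
  · refine Or.inl ?_
    have hMle : M ≤ normalizer (F.J : Set G) := fun g hg => by
      obtain ⟨x, hx⟩ : (⟨g, hg⟩ : M) ∈ φ.range := by
        have h1 : Fr.φ.range = φ.range := rfl
        rw [← h1, htop]; exact mem_top _
      have h2 : g = ((ρ x : H) : G) := (congrArg Subtype.val hx).symm
      rw [h2]
      exact withJ_le hKN (ρ x).2
    rw [← normalizer_eq_top_iff, eq_top_iff]
    intro g _
    by_cases hg : g ∈ M
    · exact hMle hg
    · have h1 : g * D.w 1 0 ∈ M := by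
        rw [mul_mem_iff_of_index_two hM]
        exact iff_of_false hg htM
      have h2 := mul_mem (hMle h1) (inv_mem (D.w_spec 1 0).1)
      rwa [mul_inv_cancel_right] at h2
  · refine Or.inr ?_
    let conj9 : Perm (Fin 9) ≃* MulAut (alternatingGroup (Fin 9)) :=
      MulEquiv.ofBijective _ (Cfsg.Agent.S2119.result 9 (by norm_num) (by norm_num))
    let θ : G →* Perm (Fin 9) := ((MulAut.congr e).trans conj9.symm).toMonoidHom.comp MulAut.conjNormal
    have hinj : Function.Injective θ := by
      refine (injective_iff_map_eq_one _).2 fun g hg => ?_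
      have h1 : (MulAut.conjNormal g : MulAut M) = 1 := by
        refine ((MulAut.congr e).trans conj9.symm).injective ?_
        rw [map_one]
        exact hg
      have hcomm : ∀ y ∈ M, g * y = y * g := fun y hy => by
        have h2 := congrArg (fun f : MulAut M => (f ⟨y, hy⟩ : G)) h1
        simp only [MulAut.conjNormal_apply, MulAut.one_apply] at h2
        exact mul_inv_eq_iff_eq_mul.1 h2
      have hgJ : g ∈ F.J := by
        rw [← F.cent_J]
        exact mem_centralizer_iff.2 fun j hj => (hcomm j (h3M j hj)).symm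
      obtain ⟨i, rfl⟩ := hgJ
      have key : ∀ s, evenSP s 0 = true → act s 0 i = i := fun s hs =>
        (comm_v_iff (D.w_spec s 0).2.1 i).1 (hcomm _ ((heven s 0).2 hs))
      rw [even_facts.2.1 i (key 6 even_facts.2.2.1) (key 3 even_facts.2.2.2), F.v0]
    have hcard : Nat.card G = Nat.card (Perm (Fin 9)) := by
      rw [← index_mul_card M, hM, Nat.card_congr e.toEquiv, nat_card_alternatingGroup, Nat.card_perm, Nat.card_fin]
      norm_num [Nat.factorial]
    exact ⟨MulEquiv.ofBijective θ (hinj.bijective_of_nat_card_le hcard.ge)⟩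

end Frame

end Cfsg.Lib.SymNine
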