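import Cfsg.Agent.Lib.SymNine.Count

/-!
# Embedding a split part of `N(J)` into the symmetric group of degree nine

A complement acts by signed permutations; the group it generates with `J` is sent onto the monomial permutations
with the same signs and permutations.
-/

set_option autoImplicit false
set_option maxHeartbeats 1600000
set_option maxRecDepth 100000
set_option linter.unusedSectionVars false
set_option linter.style.haveILetI false

namespace Cfsg.Lib.SymNine

open Subgroup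

/-- A monomial permutation. -/
def mperm (i : Fin 27) (s : Fin 8) (k : Fin 6) : Equiv.Perm (Fin 9) := pv i * ps s * pk k

theorem ps_pk_pv : ∀ s k j, ps s * pk k * pv j = pv (act s k j) * (ps s * pk k) := by
  decide +kernel

theorem pk_ps : ∀ k t, pk k * ps t = ps (sComp 0 k t) * pk k := by
  decide +kernel

theorem ps_ps : ∀ s t, ps s * ps t = ps (sComp s 0 t) := by
  decide +kernel

theorem sComp_split : ∀ s k t, sComp s k t = sComp s 0 (sComp 0 k t) := by
  decide +kernel

theorem mperm_eq_one : ∀ i s k, mperm i s k = 1 → i = 0 ∧ s = 0 ∧ k = 0 := by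
  decide +kernel

theorem mperm_mul (i j : Fin 27) (s t : Fin 8) (k l : Fin 6) :
    mperm i s k * mperm j t l = mperm (vAdd i (act s k j)) (sComp s k t) (kmul k l) := by
  rw [mperm, mperm, mperm, model_facts.1, model_facts.2.2.2.1, sComp_split, ← ps_ps]
  calc pv i * ps s * pk k * (pv j * ps t * pk l) = pv i * ((ps s * pk k * pv j) * ps t) * pk l := by group
    _ = pv i * (pv (act s k j) * (ps s * (pk k * ps t))) * pk l := by rw [ps_pk_pv]; group
    _ = _ := by rw [pk_ps]; group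

namespace Frame

variable {G : Type*} [Group G] [Finite G] {F : Frame G} {m : Fin 4}

/-- The product of `J` with a subgroup of its normalizer. -/
def withJ (F : Frame G) (K : Subgroup G) (hK : K ≤ normalizer (F.J : Set G)) : Subgroup G where
  carrier := {g | ∃ i, ∃ w ∈ K, g = F.v i * w}
  one_mem' := ⟨0, 1, one_mem _, by rw [F.v0, one_mul]⟩
  mul_mem' := by
    rintro _ _ ⟨i, w, hw, rfl⟩ ⟨j, u, hu, rfl⟩
    obtain ⟨c, hc⟩ := (mem_normalizer_iff.1 (hK hw) _).1 (F.v_mem j)
    exact ⟨vAdd i c, w * u, mul_mem hw hu, by rw [F.vmul, hc]; group⟩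
  inv_mem' := by
    rintro _ ⟨i, w, hw, rfl⟩
    obtain ⟨c, hc⟩ := (mem_normalizer_iff.1 (inv_mem (hK hw)) _).1 (inv_mem (F.v_mem i))
    exact ⟨c, w⁻¹, inv_mem hw, by rw [hc]; group⟩

theorem mem_withJ {K : Subgroup G} {hK : K ≤ normalizer (F.J : Set G)} {g : G} :
    g ∈ withJ F K hK ↔ ∃ i, ∃ w ∈ K, g = F.v i * w := Iff.rfl

theorem v_mem_withJ {K : Subgroup G} {hK : K ≤ normalizer (F.J : Set G)} (i : Fin 27) :
    F.v i ∈ withJ F K hK := ⟨i, 1, one_mem _, by rw [mul_one]⟩

theorem mem_withJ_of_mem {K : Subgroup G} {hK : K ≤ normalizer (F.J : Set G)} {w : G} (hw : w ∈ K) :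
    w ∈ withJ F K hK := ⟨0, w, hw, by rw [F.v0, one_mul]⟩

theorem withJ_le {K : Subgroup G} (hK : K ≤ normalizer (F.J : Set G)) :
    withJ F K hK ≤ normalizer (F.J : Set G) := by
  rintro _ ⟨i, w, hw, rfl⟩
  exact mul_mem (F.v_mem_normalizer i) (hK hw)

namespace IsCase

variable (h : F.IsCase m)
include h

/-- A split subgroup of `N(J)` is a group of monomial permutations. -/
theorem exists_perm_hom {K : Subgroup G} (hK : K ≤ normalizer (F.J : Set G))
    (hdisj : ∀ w ∈ K, w ∈ F.J → w = 1) :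
    ∃ ψ : withJ F K hK →* Equiv.Perm (Fin 9), Function.Injective ψ ∧
      ∀ i, ∀ w (hw : w ∈ K) s k, F.ActsAs w s k →
        ψ ⟨F.v i * w, ⟨i, w, hw, rfl⟩⟩ = mperm i s k := by
  classical
  have hdec : ∀ g : withJ F K hK, ∃ q : Fin 27 × Fin 8 × Fin 6, ∃ w ∈ K,
      (g : G) = F.v q.1 * w ∧ F.ActsAs w q.2.1 q.2.2 := by
    rintro ⟨g, i, w, hw, rfl⟩
    obtain ⟨s, k, -, hsk⟩ := h.exists_act (hK hw)
    exact ⟨(i, s, k), w, hw, rfl, hsk⟩
  choose q w hwK hg hact using hdec
  have huniq : ∀ {i j : Fin 27} {u u' : G}, u ∈ K → u' ∈ K → F.v i * u = F.v j * u' → i = j ∧ u = u' := by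
    intro i j u u' hu hu' e
    have h1 : u * u'⁻¹ = 1 := hdisj _ (mul_mem hu (inv_mem hu')) (by
      rw [show u * u'⁻¹ = (F.v i)⁻¹ * (F.v i * u) * u'⁻¹ by group, e,
        show (F.v i)⁻¹ * (F.v j * u') * u'⁻¹ = (F.v i)⁻¹ * F.v j by group]
      exact mul_mem (inv_mem (F.v_mem i)) (F.v_mem j))
    have h2 := mul_inv_eq_one.1 h1
    subst h2
    exact ⟨F.vinj (mul_right_cancel e), rfl⟩
  have hval : ∀ (g : withJ F K hK) (i : Fin 27) (u : G) (s : Fin 8) (k : Fin 6), u ∈ K →
      (g : G) = F.v i * u → F.ActsAs u s k → q g = (i, s, k) := by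
    intro g i u s k hu e hsk
    obtain ⟨h1, h2⟩ := huniq (hwK g) hu ((hg g).symm.trans e)
    have h3 := hact g
    rw [h2] at h3
    obtain ⟨h4, h5⟩ := F.actsAs_unique h3 hsk
    exact Prod.ext h1 (Prod.ext h4 h5)
  have hmul : ∀ a b : withJ F K hK, mperm (q (a * b)).1 (q (a * b)).2.1 (q (a * b)).2.2 =
      mperm (q a).1 (q a).2.1 (q a).2.2 * mperm (q b).1 (q b).2.1 (q b).2.2 := by
    intro a b
    have e : ((a * b : withJ F K hK) : G) =
        F.v (vAdd (q a).1 (act (q a).2.1 (q a).2.2 (q b).1)) * (w a * w b) := by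
      rw [Subgroup.coe_mul, hg a, hg b, F.vmul, ← actsAs_act (hact a)]
      group
    rw [mperm_mul, hval _ _ _ _ _ (mul_mem (hwK a) (hwK b)) e ((hact a).comp (hact b))]
  refine ⟨MonoidHom.mk' (fun g => mperm (q g).1 (q g).2.1 (q g).2.2) hmul, ?_, ?_⟩
  · refine (injective_iff_map_eq_one _).2 fun g hg' => ?_
    obtain ⟨h1, h2, h3⟩ := mperm_eq_one _ _ _ hg'
    refine Subtype.ext ?_
    have h4 := hact g
    rw [h2, h3] at h4
    show (g : G) = 1
    rw [hg g, h1, F.v0, one_mul]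
    exact hdisj _ (hwK g) (mem_J_of_act h4)
  · intro i u hu s k hsk
    show mperm _ _ _ = _
    rw [hval ⟨F.v i * u, ⟨i, u, hu, rfl⟩⟩ i u s k hu rfl hsk]

end IsCase

end Frame

end Cfsg.Lib.SymNine
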