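import Cfsg.Agent.Lib.SymNine.Sigma
import Cfsg.Agent.Lib.SymNine.Embed
import Cfsg.Agent.Lib.Recog.ThreeCubedFour.Inner
import Cfsg.Agent.S3701

/-!
# Even signs

When the signs are the even ones, `J` is normal: after a subgroup of index two and one of index three in it, what
is left has the shape of the group of order 108.
-/

set_option autoImplicit false
set_option maxHeartbeats 1600000
set_option maxRecDepth 100000
set_option linter.unusedSectionVars false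
set_option linter.style.haveILetI false

namespace Cfsg.Lib.SymNine

open Subgroup

/-- The rotation of the coordinates, as an element of the cyclic group of order three. -/
def kRot (k : Fin 6) : Multiplicative (ZMod 3) :=
  Multiplicative.ofAdd (if k = 3 then 1 else if k = 4 then 2 else 0)

theorem kRot_mul : ∀ k : Fin 6, k = 0 ∨ k = 3 ∨ k = 4 → ∀ l : Fin 6, l = 0 ∨ l = 3 ∨ l = 4 →
    kRot (kmul k l) = kRot k * kRot l := by
  decide +kernel

theorem caseTwo_facts :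
    ((Finset.univ.filter fun y : Fin 27 => act 0 0 y = y).card = 27) ∧
    ((Finset.univ.filter fun q : Fin 8 × Fin 6 =>
      signSets 2 q.1 = true ∧ ∀ i, act q.1 q.2 (act 0 0 i) = act 0 0 (act q.1 q.2 i)).card = 24) ∧
    (∀ s, signSets 2 s = true → ∃ s', signSets 2 s' = true ∧
      sComp (sComp 0 3 s') 0 s' = s ∧ sComp 0 0 s = s ∧ sComp s' 0 s' = 0) ∧
    (∀ i ∈ [(9 : Fin 27), 3, 1], ∃ s, signSets 2 s = true ∧ vAdd (act s 0 i) (vSmul 2 i) = i) ∧
    (∀ s, signSets 2 s = true → s = 0 ∨ s = 6 ∨ s = 5 ∨ s = 3) ∧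
    sComp 6 0 5 = 3 ∧ kmul (kmul 3 0) (kinv 3) = 0 ∧
    (∀ i, act 6 0 (act 5 0 i) = act 5 0 (act 6 0 i)) ∧ (∀ i, act 6 0 (act 6 0 i) = i) ∧
    (∀ i, act 5 0 (act 5 0 i) = i) ∧ (∀ s k i, act 0 0 (act s k i) = act s k i ∧ act s k (act 0 0 i) = act s k i) ∧
    (∀ k : Fin 6, kmul 0 k = k) ∧
    (∀ s, signSets 2 s = true → sComp s 0 s = 0 ∧ sComp s 0 0 = s) := by
  refine ⟨?_, ?_, ?_, ?_, ?_, ?_, ?_, ?_, ?_, ?_, ?_, ?_, ?_⟩ <;> decide +kernel

theorem caseTwo_gens :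
    mperm 9 0 0 = Equiv.swap (0 : Fin 9) 1 * Equiv.swap 1 2 ∧
    mperm 3 0 0 = Equiv.swap (3 : Fin 9) 4 * Equiv.swap 4 5 ∧
    mperm 1 0 0 = Equiv.swap (6 : Fin 9) 7 * Equiv.swap 7 8 ∧
    mperm 12 6 0 = Equiv.swap (0 : Fin 9) 1 * Equiv.swap 3 4 ∧
    mperm 10 5 0 = Equiv.swap (0 : Fin 9) 1 * Equiv.swap 6 7 := by
  refine ⟨?_, ?_, ?_, ?_, ?_⟩ <;> decide +kernel

theorem card_blockStab : Nat.card Recog.ThreeCubedFour.blockStab = 108 := by
  have h : Fintype.card {x : Recog.ThreeCubedFour.Model // x.1.p = 0} = 108 := by decide +kernel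
  rw [← h, ← Nat.card_eq_fintype_card]
  rfl

namespace Frame

variable {G : Type*} [Group G] [Finite G] {F : Frame G}

/-- Even signs. -/
theorem normal_of_caseTwo (h : F.IsCase 2) : F.J.Normal := by
  classical
  haveI : Fact (Nat.Prime 2) := ⟨Nat.prime_two⟩
  haveI : Fact (Nat.Prime 3) := ⟨Nat.prime_three⟩
  obtain ⟨cfix, ccard, ccomm, cneg, csigns, c65, ckk, c65c, c66, c55, cid, ck0, css⟩ := caseTwo_facts
  have hsc := h.smallCent (by decide)
  set τ := F.p 2 with hτ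
  have hττ : τ * τ = 1 := by
    have : kmul 2 2 = 0 := by decide +kernel
    rw [hτ, ← F.pmul, this, F.p0]
  have hτ1 : τ ≠ 1 := fun e => by
    obtain ⟨-, h'⟩ := F.free 0 2 (by rw [← hτ, e, F.v0, one_mul])
    exact absurd h' (by decide)
  have hτo : orderOf τ = 2 := orderOf_eq_prime (by rw [pow_two, hττ]) hτ1
  have hid : F.ActsAs (1 : G) 0 0 := fun i => by
    show _ = F.v (act 0 0 i)
    rw [act_facts.1]; group
  -- orders
  have hN648 : Nat.card ↥(normalizer (F.J : Set G)) = 648 := by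
    have h1 := h.card_cent_inv (one_mul 1) hid
    rw [cfix, ccard] at h1
    rwa [show centralizer ({(1 : G)} : Set G) ⊓ normalizer (F.J : Set G) = normalizer (F.J : Set G) from
      inf_eq_right.2 fun g _ => mem_centralizer_singleton_iff.2 (by rw [mul_one, one_mul])] at h1
  have h8 : 8 ∣ Nat.card G := (show 8 ∣ 648 by norm_num).trans (hN648 ▸ card_subgroup_dvd_card _)
  have hC36 : Nat.card (centralizer ({τ} : Set G)) = 36 := by rw [h.card_cent_tau hsc]; rfl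
  -- index two
  obtain ⟨M, hM, hτM⟩ := exists_index_two (zpowers τ) hττ (mem_zpowers τ)
    (zpowers_le.2 (mem_centralizer_singleton_iff.2 rfl)) (fun g hg => by
      obtain ⟨q, hq⟩ := hg
      replace hq : τ ^ q = g * τ * g⁻¹ := hq
      rcases Int.even_or_odd' q with ⟨r, rfl | rfl⟩
      · rw [show τ ^ (2 * r) = 1 by rw [zpow_mul, zpow_two, hττ, one_zpow], eq_comm, conj_eq_one_iff] at hq
        exact absurd hq hτ1
      · rw [show τ ^ (2 * r + 1) = τ by rw [zpow_add, zpow_mul, zpow_two, hττ, one_zpow, one_mul, zpow_one]] at hq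
        exact hq.symm) (f := 18) (by
      have h1 := card_mul_index ((zpowers τ).subgroupOf (centralizer ({τ} : Set G)))
      rw [Nat.card_congr (subgroupOfEquivOfLe (zpowers_le.2 (mem_centralizer_singleton_iff.2 rfl))).toEquiv,
        Nat.card_zpowers, hτo, hC36] at h1
      show ((zpowers τ).subgroupOf (centralizer ({τ} : Set G))).index = 18
      omega) (by
      have h36 : 36 ∣ Nat.card G := hC36 ▸ card_subgroup_dvd_card _
      have hidx : 2 * (zpowers τ).index = Nat.card G := by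
        rw [← card_mul_index (zpowers τ), Nat.card_zpowers, hτo]
      obtain ⟨q, hq⟩ := Nat.dvd_trans (show 72 ∣ Nat.lcm 8 36 by decide) (Nat.lcm_dvd h8 h36)
      have hpos : 0 < Nat.card G := Nat.card_pos
      rw [Nat.odd_iff]
      omega)
  haveI hMn : M.Normal := normal_of_index_eq_two hM
  have h3M : ∀ {g : G}, g ^ 3 = 1 → g ∈ M := fun {g} hg => by
    rw [show g = (g ^ 2) ^ 2 by rw [← pow_mul, show 2 * 2 = 3 + 1 by rfl, pow_add, hg, one_mul, pow_one]]
    exact pow_mem (sq_mem_of_index_two hM g) 2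
  have hJM : F.J ≤ M := fun j hj => h3M (F.J_cube hj)
  set σ := F.p 3 with hσ
  have hσ3 : σ ^ 3 = 1 := by
    have : kmul 3 (kmul 3 3) = 0 := by decide +kernel
    rw [hσ, pow_succ', pow_two, ← F.pmul, ← F.pmul, this, F.p0]
  have hσM : σ ∈ M := h3M hσ3
  have hPM : F.P ≤ M := by
    rintro _ ⟨i, k, hk, rfl⟩
    refine mul_mem (hJM (F.v_mem i)) ?_
    rcases hk with rfl | rfl | rfl
    · rw [F.p0]; exact one_mem _
    · exact hσM
    · have : kmul 3 3 = 4 := by decide +kernel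
      rw [← this, F.pmul]; exact mul_mem hσM hσM
  have hσP : σ ∈ F.P := ⟨0, 3, Or.inr (Or.inl rfl), by rw [F.v0, one_mul]⟩
  have hσJ : σ ∉ F.J := by
    rintro ⟨i, hi⟩
    have h1 : F.v i * F.p 0 = F.v 0 * F.p 3 := by rw [F.p0, mul_one, F.v0, one_mul]; exact hi
    exact absurd (F.vp_eq h1).2 (by decide)
  -- lifts of the signs are commutators
  have hcomm : ∀ s, signSets 2 s = true →
      ∃ s', ∃ n ∈ normalizer (F.J : Set G), signSets 2 s' = true ∧ F.ActsAs n s' 0 ∧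
        ∀ w, F.ActsAs w s 0 → ∃ j ∈ F.J, w = σ * n * σ⁻¹ * n⁻¹ * j := by
    intro s hs
    obtain ⟨s', hs', e1, e2, e3⟩ := ccomm s hs
    obtain ⟨n, hn, hna⟩ := h.exists_of_act hs' 0
    refine ⟨s', n, hn, hs', hna, fun w hw => ⟨(σ * n * σ⁻¹ * n⁻¹)⁻¹ * w, inv_mul_mem_J ?_ hw, by group⟩⟩
    have hn2 : n * n ∈ F.J := mem_J_of_act (by
      have := hna.comp hna
      rwa [e3, (show kmul 0 0 = 0 from ck0 0)] at this)
    obtain ⟨c, hc⟩ := inv_mem hn2
    have hninv : n⁻¹ = F.v c * n := by rw [hc]; group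
    have hσinv : σ⁻¹ = F.p (kinv 3) := by rw [hσ, F.p_inv]
    have hna' : F.ActsAs n⁻¹ s' 0 := by
      rw [hninv]
      have := (F.actsAs_v c).comp hna
      have key : ∀ s' : Fin 8, sComp 0 0 s' = s' := by decide +kernel
      rwa [key, ck0] at this
    have h4 := (((F.actsAs_p 3).comp hna).comp (F.actsAs_p (kinv 3))).comp hna'
    rw [← hσ, ← hσinv] at h4
    have key : ∀ s' : Fin 8, sComp (sComp (sComp 0 3 s') (kmul 3 0) 0) (kmul (kmul 3 0) (kinv 3)) s' =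
        sComp (sComp 0 3 s') 0 s' := by decide +kernel
    rw [key, e1, ckk, ck0] at h4
    exact h4
  have hsignM : ∀ s, signSets 2 s = true → ∀ w, F.ActsAs w s 0 → w ∈ M := by
    intro s hs w hw
    obtain ⟨s', n, -, -, -, hn⟩ := hcomm s hs
    obtain ⟨j, hj, rfl⟩ := hn w hw
    exact mul_mem (by
      rw [show σ * n * σ⁻¹ * n⁻¹ = σ * (n * σ⁻¹ * n⁻¹) by group]
      exact mul_mem hσM (hMn.conj_mem _ (inv_mem hσM) n)) (hJM hj)
  -- transfer in `M`
  set P' := F.P.subgroupOf M with hP'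
  have hdecP : ∀ g : P', ∃ k : Fin 6, (k = 0 ∨ k = 3 ∨ k = 4) ∧ ∃ i, ((g : M) : G) = F.v i * F.p k := fun g => by
    obtain ⟨i, k, hk, e⟩ := g.2
    exact ⟨k, hk, i, e⟩
  choose kk hkk ikk hik using hdecP
  have hkval : ∀ (g : P') (i : Fin 27) (k : Fin 6), ((g : M) : G) = F.v i * F.p k → kk g = k :=
    fun g i k e => (F.vp_eq ((hik g).symm.trans e)).2
  let χ : P' →* Multiplicative (ZMod 3) := MonoidHom.mk' (fun g => kRot (kk g)) (fun a b => by
    rw [← kRot_mul _ (hkk a) _ (hkk b)]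
    refine congrArg kRot (hkval _ (vAdd (ikk a) (lap (lperm (kk a)) (ikk b))) _ ?_)
    rw [Subgroup.coe_mul, Subgroup.coe_mul, hik a, hik b, F.vmul, F.pmul, mul_assoc, ← mul_assoc (F.p (kk a)), F.pv]
    group)
  haveI : P'.FiniteIndex := inferInstance
  set T := MonoidHom.transfer χ with hTdef
  have hxM : F.x ∈ M := hJM F.x_mem
  -- conjugates of `σ` in `P` have the same image
  have hclaim : ∀ a : M, ∀ (he : a * ⟨σ, hσM⟩ * a⁻¹ ∈ P'),
      χ ⟨_, he⟩ = χ ⟨⟨σ, hσM⟩, hσP⟩ := by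
    intro a he
    have heP : (a : G) * σ * (a : G)⁻¹ ∈ F.P := mem_subgroupOf.1 he
    set e := (a : G) * σ * (a : G)⁻¹ with hedef
    have heJ : e ∉ F.J := h.not_conj_J hσP hσJ
    set Ce := centralizer ({e} : Set G) ⊓ M with hCe
    have hxCe : F.x ∈ Ce := ⟨mem_centralizer_singleton_iff.2 (mem_centralizer_singleton_iff.1 (P_le_cent heP)).symm, hxM⟩
    let E : Subgroup G := F.P ⊓ centralizer ({e} : Set G)
    have hECe : E ≤ Ce := fun y hy => ⟨hy.2, hPM hy.1⟩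
    have hxE : F.x ∈ E := ⟨J_le_P F.x_mem, hxCe.1⟩
    have hxconj : ∀ {r y : G}, r ∈ E → y * F.x * y⁻¹ = r → r = F.x ∨ r = F.x⁻¹ := by
      intro r y hr hyr
      have hrJ : r ∈ F.J := by
        by_contra hne
        exact h.not_conj_x hr.1 hne hyr
      obtain ⟨i, rfl⟩ := hrJ
      obtain ⟨j, k, hk, hjk⟩ := heP
      have hk0 : k ≠ 0 := fun hk0 => heJ (by rw [hjk, hk0, F.p0, mul_one]; exact F.v_mem j)
      have h1 := mem_centralizer_singleton_iff.1 hr.2
      rw [hjk, mul_assoc (F.v j), F.pv, ← mul_assoc, ← mul_assoc, mul_left_inj, (F.v_comm i j).eq,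
        mul_right_inj] at h1
      have h2 : lap (lperm k) i = i := (F.vinj h1).symm
      have h3 : i = 0 ∨ i = one1 ∨ i = vSmul 2 one1 := by
        rcases hk with rfl | rfl | rfl
        · exact absurd rfl hk0
        · exact act_facts.2.2.1 i h2
        · exact act_facts.2.2.2.1 i h2
      rcases h3 with rfl | rfl | rfl
      · rw [F.v0, conj_eq_one_iff, x, F.v_eq_one] at hyr
        exact absurd hyr (by decide)
      · exact Or.inl rfl
      · exact Or.inr (by rw [x, F.v_inv])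
    have hE3 : IsPGroup 3 E := (P_isPGroup (F := F)).to_le inf_le_left
    obtain ⟨R, hR⟩ := (hE3.of_equiv (subgroupOfEquivOfLe hECe).symm).exists_le_sylow
    have hRE : (R : Subgroup Ce) = E.subgroupOf Ce := by
      by_contra hne
      haveI : Group.IsNilpotent (R : Subgroup Ce) := R.isPGroup'.isNilpotent
      have hlt : (E.subgroupOf Ce).subgroupOf (R : Subgroup Ce) < ⊤ := by
        rw [lt_top_iff_ne_top, Ne, subgroupOf_eq_top]
        exact fun h' => hne (le_antisymm h' hR)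
      obtain ⟨y, hy, hyE⟩ := SetLike.exists_of_lt (Group.normalizerCondition_of_isNilpotent _ hlt)
      refine hyE (mem_subgroupOf.2 (mem_subgroupOf.2 ?_))
      obtain ⟨q, hq⟩ := R.isPGroup' y
      have hq' : (((y : Ce) : G)) ^ 3 ^ q = 1 := by
        have := congrArg (fun w : (R : Subgroup Ce) => ((w : Ce) : G)) hq
        simpa using this
      have h1 : ((y : Ce) : G) * F.x * ((y : Ce) : G)⁻¹ ∈ E :=
        (mem_normalizer_iff.1 hy ⟨⟨F.x, hxCe⟩, hR (show (⟨F.x, hxCe⟩ : Ce) ∈ E.subgroupOf Ce from hxE)⟩).1 hxE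
      have h2 := commute_of_conj_inv (hxconj h1 rfl) hq'
      exact ⟨mem_P_of_cent (mul_inv_eq_iff_eq_mul.1 h2) hq', (y : Ce).2.1⟩
    have haxC : (a : G) * F.x * (a : G)⁻¹ ∈ Ce := ⟨mem_centralizer_singleton_iff.2 (by
      rw [hedef, conj_mul, conj_mul, mem_centralizer_singleton_iff.1 (P_le_cent hσP)]), hMn.conj_mem _ hxM _⟩
    have hz : IsPGroup 3 (zpowers (⟨_, haxC⟩ : Ce)) := IsPGroup.of_card (n := 1) (by
      rw [Nat.card_zpowers, pow_one]
      refine orderOf_eq_prime (Subtype.ext ?_) fun e' => ?_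
      · show ((a : G) * F.x * (a : G)⁻¹) ^ 3 = 1
        rw [conj_pow, x, F.v_cube]; group
      · have e1 : (a : G) * F.x * (a : G)⁻¹ = 1 := congrArg Subtype.val e'
        rw [conj_eq_one_iff, x, F.v_eq_one] at e1
        exact absurd e1 (by decide))
    obtain ⟨Q, hQ⟩ := hz.exists_le_sylow
    obtain ⟨c, hc⟩ := MulAction.exists_smul_eq Ce Q R
    have hr : (c : G) * ((a : G) * F.x * (a : G)⁻¹) * (c : G)⁻¹ ∈ E := by
      have h1 : c * ⟨_, haxC⟩ * c⁻¹ ∈ (R : Subgroup Ce) := by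
        rw [← hc, Sylow.coe_subgroup_smul, mem_pointwise_smul_iff_inv_smul_mem]
        simpa [MulAut.smul_def, mul_assoc] using hQ (mem_zpowers _)
      rw [hRE] at h1
      exact mem_subgroupOf.1 h1
    set w := (c : G) * (a : G) with hw
    have hwM : w ∈ M := mul_mem c.2.2 a.2
    have hwx : w * F.x = F.x * w := by
      have e0 : (c : G) * ((a : G) * F.x * (a : G)⁻¹) * (c : G)⁻¹ = w * F.x * w⁻¹ := by rw [hw]; group
      rcases hxconj hr e0.symm with e1 | e1 <;> rw [e0] at e1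
      · exact mul_inv_eq_iff_eq_mul.1 e1
      · exfalso
        obtain ⟨s', k', hs', e2⟩ := h.conj_cases (show w * F.v one1 * w⁻¹ = F.v (vSmul 2 one1) by
          rw [← F.v_inv]; exact e1)
        exact sigma_facts.2 s' k' hs' e2
    obtain ⟨i, k, hwik⟩ := (F.cent w).1 hwx
    have hk : k = 0 ∨ k = 3 ∨ k = 4 := by
      by_contra hk
      have key : ∀ k : Fin 6, ¬ (k = 0 ∨ k = 3 ∨ k = 4) → ∃ l : Fin 6,
          (l = 0 ∨ l = 3 ∨ l = 4) ∧ kmul k l = 2 := by decide +kernel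
      obtain ⟨l, hl, e2⟩ := key k hk
      refine hτM ?_
      have hpM : ∀ l : Fin 6, l = 0 ∨ l = 3 ∨ l = 4 → F.p l ∈ M := fun l hl =>
        hPM ⟨0, l, hl, by rw [F.v0, one_mul]⟩
      have h5 : F.p k ∈ M := by
        have := mul_mem (inv_mem (hJM (F.v_mem i))) hwM
        rwa [hwik, inv_mul_cancel_left] at this
      rw [hτ, ← e2, F.pmul]
      exact mul_mem h5 (hpM l hl)
    have hwP : w ∈ F.P := ⟨i, k, hk, hwik⟩
    let W : P' := ⟨⟨w, hwM⟩, hwP⟩
    let S : P' := ⟨⟨σ, hσM⟩, hσP⟩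
    have hWS : (⟨_, he⟩ : P') = W * S * W⁻¹ := by
      refine Subtype.ext (Subtype.ext ?_)
      show (a : G) * σ * (a : G)⁻¹ = w * σ * w⁻¹
      rw [← hedef, hw, show (c : G) * (a : G) * σ * ((c : G) * (a : G))⁻¹ = (c : G) * e * (c : G)⁻¹ by
        rw [hedef]; group, mem_centralizer_singleton_iff.1 c.2.1, mul_inv_cancel_right]
    rw [hWS, map_mul, map_mul, map_inv, mul_inv_cancel_comm]
  have hidx3 : ¬ 3 ∣ P'.index := by
    obtain ⟨S, hS⟩ := F.exists_sylow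
    intro h3
    refine S.not_dvd_index (h3.trans ?_)
    rw [hS]
    exact dvd_trans (dvd_mul_right _ _) (relIndex_mul_index hPM).dvd
  set S : P' := ⟨⟨σ, hσM⟩, hσP⟩
  have hTσ : T ⟨σ, hσM⟩ = χ S ^ P'.index := by
    let := P'.fintypeQuotientOfFiniteIndex
    rw [hTdef, MonoidHom.transfer_eq_prod_quotient_orbitRel_zpowers_quot, index_eq_sum_minimalPeriod P' (⟨σ, hσM⟩ : M),
      ← Finset.prod_pow_eq_pow_sum]
    refine Finset.prod_congr rfl fun q _ => ?_
    suffices hgen : ∀ (g₀ : M) (p : ℕ) (hm : g₀⁻¹ * (⟨σ, hσM⟩ : M) ^ p * g₀ ∈ P'),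
        χ ⟨_, hm⟩ = χ S ^ p from hgen _ _ _
    intro g₀ p hmem
    have hσpow : (⟨σ, hσM⟩ : M) ^ 3 = 1 := Subtype.ext (by simpa using hσ3)
    obtain ⟨r, q', hr, rfl⟩ : ∃ r q', r < 3 ∧ p = 3 * q' + r := ⟨p % 3, p / 3, Nat.mod_lt _ (by norm_num),
      (Nat.div_add_mod p 3).symm⟩
    have e1 : (⟨σ, hσM⟩ : M) ^ (3 * q' + r) = ⟨σ, hσM⟩ ^ r := by rw [pow_add, pow_mul, hσpow, one_pow, one_mul]
    have hS3 : S ^ 3 = 1 := Subtype.ext (by rw [SubmonoidClass.coe_pow]; exact hσpow)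
    have e2 : χ S ^ (3 * q' + r) = χ S ^ r := by
      rw [pow_add, pow_mul, ← map_pow, hS3, map_one, one_pow, one_mul]
    rw [e2]
    interval_cases r
    · rw [pow_zero]
      refine (congrArg χ (Subtype.ext ?_)).trans (map_one χ)
      show g₀⁻¹ * _ * g₀ = 1
      rw [e1, pow_zero, mul_one, inv_mul_cancel]
    · have h1 : g₀⁻¹ * ⟨σ, hσM⟩ * g₀⁻¹⁻¹ ∈ P' := by
        rw [inv_inv]; rwa [e1, pow_one] at hmem
      rw [pow_one, ← hclaim g₀⁻¹ h1]
      refine congrArg χ (Subtype.ext ?_)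
      show g₀⁻¹ * _ * g₀ = g₀⁻¹ * _ * g₀⁻¹⁻¹
      rw [e1, pow_one, inv_inv]
    · have h2 : g₀⁻¹ * ⟨σ, hσM⟩ * g₀⁻¹⁻¹ ∈ P' := by
        have := P'.mul_mem (e1 ▸ hmem) (e1 ▸ hmem)
        rw [show g₀⁻¹ * (⟨σ, hσM⟩ : M) ^ 2 * g₀ * (g₀⁻¹ * (⟨σ, hσM⟩ : M) ^ 2 * g₀) =
          g₀⁻¹ * (⟨σ, hσM⟩ : M) ^ 4 * g₀ by group, show (⟨σ, hσM⟩ : M) ^ 4 = ⟨σ, hσM⟩ by
            rw [pow_succ, hσpow, one_mul]] at this
        rw [inv_inv]
        exact this
      rw [← hclaim g₀⁻¹ h2, ← map_pow]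
      refine congrArg χ (Subtype.ext ?_)
      rw [SubmonoidClass.coe_pow]
      show g₀⁻¹ * _ * g₀ = (g₀⁻¹ * _ * g₀⁻¹⁻¹) ^ 2
      rw [e1, conj_pow, inv_inv]
  set N1 := T.ker.map M.subtype with hN1
  have hN1M : N1 ≤ M := map_subtype_le _
  have hN1mem : ∀ {g : G} (hg : g ∈ M), g ∈ N1 ↔ T ⟨g, hg⟩ = 1 := fun {g} hg =>
    ⟨fun ⟨w, hw, e⟩ => by rwa [show (⟨g, hg⟩ : M) = w from Subtype.ext e.symm], fun e => ⟨⟨g, hg⟩, e, rfl⟩⟩
  have hN1n : ∀ g ∈ M, ∀ w ∈ N1, g * w * g⁻¹ ∈ N1 := fun g hg w hw => by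
    have hwM := hN1M hw
    rw [hN1mem (mul_mem (mul_mem hg hwM) (inv_mem hg)),
      show (⟨g * w * g⁻¹, mul_mem (mul_mem hg hwM) (inv_mem hg)⟩ : M) = ⟨g, hg⟩ * ⟨w, hwM⟩ * ⟨g, hg⟩⁻¹ from rfl,
      map_mul, map_mul, map_inv, mul_inv_cancel_comm]
    exact (hN1mem hwM).1 hw
  have hσN1 : σ ∉ N1 := fun hm => by
    have h1 := (hN1mem hσM).1 hm
    rw [hTσ] at h1
    have h2 : χ S = Multiplicative.ofAdd 1 := by
      show kRot (kk S) = _
      rw [hkval S 0 3 (by rw [F.v0, one_mul])]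
      rfl
    rw [h2, ← ofAdd_nsmul, nsmul_one, ofAdd_eq_one, ZMod.natCast_eq_zero_iff] at h1
    exact hidx3 h1
  have hcommN1 : ∀ a b : G, a ∈ M → b ∈ M → a * b * a⁻¹ * b⁻¹ ∈ N1 := fun a b ha hb => by
    rw [hN1mem (mul_mem (mul_mem (mul_mem ha hb) (inv_mem ha)) (inv_mem hb)),
      show (⟨a * b * a⁻¹ * b⁻¹, _⟩ : M) = ⟨a, ha⟩ * ⟨b, hb⟩ * ⟨a, ha⟩⁻¹ * ⟨b, hb⟩⁻¹ from rfl,
      map_mul, map_mul, map_mul, map_inv, map_inv, mul_inv_cancel_comm, mul_inv_cancel]
  have hJN1 : ∀ j ∈ F.J, j ∈ N1 := by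
    rintro _ ⟨i, rfl⟩
    refine code_ind (Q := fun i => F.v i ∈ N1) (by rw [F.v0]; exact one_mem _)
      (fun a b ha hb => by rw [F.vmul]; exact mul_mem ha hb) (fun t ht => ?_) i
    obtain ⟨s, hs, e⟩ := cneg t ht
    obtain ⟨n, -, hna⟩ := h.exists_of_act hs 0
    have h1 := hcommN1 n (F.v t) (hsignM s hs n hna) (hJM (F.v_mem t))
    rwa [actsAs_act hna, F.v_inv, ← F.vmul, e] at h1
  have hsignN1 : ∀ s, signSets 2 s = true → ∀ w, F.ActsAs w s 0 → w ∈ N1 := by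
    intro s hs w hw
    obtain ⟨s', n, -, hs', hna, hn⟩ := hcomm s hs
    obtain ⟨j, hj, rfl⟩ := hn w hw
    exact mul_mem (hcommN1 σ n hσM (hsignM s' hs' n hna)) (hJN1 j hj)
  -- the four-group of signs
  obtain ⟨u1, hu1N, hu1a, -, hu1sq⟩ := h.exists_inv_lift (one_mul 1) hid (s' := 6) (k' := 0) (by decide)
    (fun i => by rw [(cid 6 0 i).1, (cid 6 0 i).2]) c66
  obtain ⟨u2, hu2N, hu2a, hu21, hu2sq⟩ := h.exists_inv_lift hu1sq hu1a (s' := 5) (k' := 0) (by decide)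
    (fun i => (c65c i).symm) c55
  have hu3a : F.ActsAs (u1 * u2) 3 0 := by
    have := hu1a.comp hu2a
    rwa [c65, ck0] at this
  let K : Subgroup G :=
    { carrier := {g | g = 1 ∨ g = u1 ∨ g = u2 ∨ g = u1 * u2}
      one_mem' := Or.inl rfl
      mul_mem' := by
        have a1 : u1 * u1 = 1 := hu1sq
        have a2 : u2 * u2 = 1 := hu2sq
        have a3 : u2 * u1 = u1 * u2 := hu21
        have a4 : u1 * (u1 * u2) = u2 := by rw [← mul_assoc, a1, one_mul]
        have a5 : u1 * u2 * u1 = u2 := by rw [mul_assoc, a3, a4]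
        have a6 : u2 * (u1 * u2) = u1 := by rw [← mul_assoc, a3, mul_assoc, a2, mul_one]
        have a7 : u1 * u2 * u2 = u1 := by rw [mul_assoc, a2, mul_one]
        have a8 : u1 * u2 * (u1 * u2) = 1 := by rw [mul_assoc, a6, a1]
        rintro a b (rfl | rfl | rfl | rfl) (rfl | rfl | rfl | rfl) <;>
          simp [Set.mem_setOf_eq, a1, a2, a3, a4, a5, a6, a7, a8]
      inv_mem' := by
        rintro a (rfl | rfl | rfl | rfl)
        · exact Or.inl inv_one
        · exact Or.inr (Or.inl (inv_eq_of_mul_eq_one_right hu1sq))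
        · exact Or.inr (Or.inr (Or.inl (inv_eq_of_mul_eq_one_right hu2sq)))
        · refine Or.inr (Or.inr (Or.inr ?_))
          rw [mul_inv_rev, inv_eq_of_mul_eq_one_right hu1sq, inv_eq_of_mul_eq_one_right hu2sq, hu21] }
  have hKrep : ∀ s, signSets 2 s = true → ∃ w ∈ K, F.ActsAs w s 0 := fun s hs => by
    rcases csigns s hs with rfl | rfl | rfl | rfl
    exacts [⟨1, one_mem _, hid⟩, ⟨u1, Or.inr (Or.inl rfl), hu1a⟩, ⟨u2, Or.inr (Or.inr (Or.inl rfl)), hu2a⟩,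
      ⟨u1 * u2, Or.inr (Or.inr (Or.inr rfl)), hu3a⟩]
  have hKact : ∀ w ∈ K, ∃ s, signSets 2 s = true ∧ F.ActsAs w s 0 := by
    rintro w (rfl | rfl | rfl | rfl)
    exacts [⟨0, rfl, hid⟩, ⟨6, rfl, hu1a⟩, ⟨5, rfl, hu2a⟩, ⟨3, rfl, hu3a⟩]
  have hKN : K ≤ normalizer (F.J : Set G) := fun w hw => by
    obtain ⟨s, -, hws⟩ := hKact w hw
    exact hws.mem_normalizer
  have hKJ : ∀ w ∈ K, w ∈ F.J → w = 1 := fun w hw hJ => by
    obtain ⟨s, -, hws⟩ := hKact w hw
    obtain ⟨i, rfl⟩ := hJ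
    obtain ⟨rfl, -⟩ := F.actsAs_unique hws (F.actsAs_v i)
    rcases hw with e | e | e | e
    · exact e
    · rw [e] at hws; exact absurd (F.actsAs_unique hws hu1a).1 (by decide)
    · rw [e] at hws; exact absurd (F.actsAs_unique hws hu2a).1 (by decide)
    · rw [e] at hws; exact absurd (F.actsAs_unique hws hu3a).1 (by decide)
  set H := withJ F K hKN with hH
  have hHN1 : H ≤ N1 := by
    rintro _ ⟨i, w, hw, rfl⟩
    obtain ⟨s, hs, hws⟩ := hKact w hw
    exact mul_mem (hJN1 _ (F.v_mem i)) (hsignN1 s hs w hws)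
  have hNN1 : ∀ g ∈ normalizer (F.J : Set G), g ∈ N1 → g ∈ H := by
    intro g hg hg1
    obtain ⟨s, k, hs, hsk⟩ := h.exists_act hg
    obtain ⟨w, hw, hwa⟩ := hKrep s hs
    have hwp : F.ActsAs (w * F.p k) s k := by
      have := hwa.comp (F.actsAs_p k)
      rwa [(css s hs).2, ck0] at this
    obtain ⟨c, hc⟩ := inv_mul_mem_J hwp hsk
    have hge : g = w * F.p k * F.v c := by rw [hc]; group
    have hpk : F.p k ∈ N1 := by
      have hwN1 := hsignN1 s hs w hwa
      have := mul_mem (mul_mem (inv_mem hwN1) hg1) (inv_mem (hJN1 _ (F.v_mem c)))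
      rwa [hge, show w⁻¹ * (w * F.p k * F.v c) * (F.v c)⁻¹ = F.p k by group] at this
    have hk0 : k = 0 := by
      have key : ∀ k : Fin 6, k = 0 ∨ k = 3 ∨ k = 4 ∨ ∃ l : Fin 6, (l = 0 ∨ l = 3 ∨ l = 4) ∧ kmul k l = 2 := by
        decide +kernel
      rcases key k with e | e | e | ⟨l, hl, e⟩
      · exact e
      · exact absurd (e ▸ hpk : F.p 3 ∈ N1) hσN1
      · refine absurd ?_ hσN1
        have h4 : kmul 4 4 = 3 := by decide +kernel
        rw [e] at hpk
        rw [hσ, ← h4, F.pmul]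
        exact mul_mem hpk hpk
      · refine absurd ?_ hτM
        rw [hτ, ← e, F.pmul]
        exact mul_mem (hN1M hpk) (hPM ⟨0, l, hl, by rw [F.v0, one_mul]⟩)
    rw [hge, hk0, F.p0, mul_one]
    exact mul_mem (mem_withJ_of_mem hw) (v_mem_withJ c)
  -- the isomorphism with the group of order 108
  obtain ⟨ψ, hψ, hψv⟩ := h.exists_perm_hom hKN hKJ
  set H0 := Subgroup.closure ({Equiv.swap (0 : Fin 9) 1 * Equiv.swap 1 2, Equiv.swap (3 : Fin 9) 4 * Equiv.swap 4 5,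
    Equiv.swap (6 : Fin 9) 7 * Equiv.swap 7 8, Equiv.swap (0 : Fin 9) 1 * Equiv.swap 3 4,
    Equiv.swap (0 : Fin 9) 1 * Equiv.swap 6 7} : Set (Equiv.Perm (Fin 9))) with hH0
  have hrange : H0 = ψ.range := by
    refine eq_of_le_of_card_ge ?_ ?_
    · rw [hH0, closure_le]
      have hv : ∀ i, mperm i 0 0 ∈ ψ.range := fun i => ⟨_, hψv i 1 (one_mem _) 0 0 hid⟩
      have h1 : mperm 12 6 0 ∈ ψ.range := ⟨_, hψv 12 u1 (Or.inr (Or.inl rfl)) 6 0 hu1a⟩
      have h2 : mperm 10 5 0 ∈ ψ.range := ⟨_, hψv 10 u2 (Or.inr (Or.inr (Or.inl rfl))) 5 0 hu2a⟩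
      obtain ⟨g1, g2, g3, g4, g5⟩ := caseTwo_gens
      intro y hy
      simp only [Set.mem_insert_iff, Set.mem_singleton_iff] at hy
      rcases hy with rfl | rfl | rfl | rfl | rfl
      exacts [g1 ▸ hv 9, g2 ▸ hv 3, g3 ▸ hv 1, g4 ▸ h1, g5 ▸ h2]
    · rw [Nat.card_congr (MonoidHom.ofInjective hψ).symm.toEquiv, hH0, ← Recog.ThreeCubedFour.map_blockStab,
        card_map_of_injective Recog.ThreeCubedFour.modelPerm_injective, card_blockStab]
      haveI := Fintype.ofFinite K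
      have hK4 : Nat.card K ≤ 4 := by
        have hs : (K : Set G) ⊆ ↑({1, u1, u2, u1 * u2} : Finset G) := by
          rintro g (rfl | rfl | rfl | rfl) <;> simp
        have h1 := Set.ncard_le_ncard hs (Finset.finite_toSet _)
        rw [Set.ncard_coe_finset, ← Nat.card_coe_set_eq] at h1
        exact h1.trans Finset.card_le_four
      refine le_trans (Nat.card_le_card_of_surjective (fun q : Fin 27 × K => (⟨F.v q.1 * q.2, q.1, q.2, q.2.2, rfl⟩ : H))
        ?_) ?_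
      · rintro ⟨g, i, w, hw, rfl⟩
        exact ⟨(i, ⟨w, hw⟩), rfl⟩
      · rw [Nat.card_prod, Nat.card_fin]
        omega
  have eH : ↥(H.subgroupOf N1) ≃* ↥H0 :=
    (subgroupOfEquivOfLe hHN1).trans ((MonoidHom.ofInjective hψ).trans (MulEquiv.subgroupCongr hrange.symm))
  have hJH : F.J ≤ H := by rintro _ ⟨i, rfl⟩; exact v_mem_withJ i
  have hJN1' : F.J ≤ N1 := hJH.trans hHN1
  have htop := Cfsg.Agent.S3701.result (G := N1) (H.subgroupOf N1) ⟨eH⟩ (F.J.subgroupOf N1)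
    (fun w hw => mem_subgroupOf.2 (hJH hw))
    (by rw [Nat.card_congr (subgroupOfEquivOfLe hJN1').toEquiv, F.card_J]) (by
      refine le_antisymm (fun w hw => mem_subgroupOf.2 (hNN1 _ ?_ w.2)) fun w hw => ?_
      · exact Fusion.le_normalizer_of_conj_mem fun j hj =>
          (mem_normalizer_iff.1 hw ⟨j, hJN1' hj⟩).1 hj
      · exact Fusion.le_normalizer_of_conj_mem fun j hj =>
          (mem_normalizer_iff.1 (withJ_le hKN hw) _).1 hj)
    (fun t ht ht1 w hw => by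
      obtain ⟨y, hy⟩ := mem_subgroupOf.1 ht
      refine mem_subgroupOf.2 (hNN1 _ (hsc y (fun e => ht1 (Subtype.ext ?_)) _ ?_) w.2)
      · rw [← hy, e, F.v0]; rfl
      · rw [hy]; exact congrArg Subtype.val (mem_centralizer_singleton_iff.1 hw))
  have hN1le : N1 ≤ normalizer (F.J : Set G) := fun w hw =>
    withJ_le hKN (mem_subgroupOf.1 (htop ▸ mem_top (⟨w, hw⟩ : N1)))
  have hMle : M ≤ normalizer (F.J : Set G) := fun g hg => Fusion.le_normalizer_of_conj_mem fun j hj => by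
    obtain ⟨i, w, hw, e⟩ := hNN1 _ (hN1le (hN1n g hg j (hJN1 j hj))) (hN1n g hg j (hJN1 j hj))
    obtain ⟨s, hs, hws⟩ := hKact w hw
    rw [e]
    refine mem_J_of_act ?_
    have h1 : F.ActsAs (F.v i * w) s 0 := by
      have := (F.actsAs_v i).comp hws
      have key : ∀ s : Fin 8, sComp 0 0 s = s := by decide +kernel
      rwa [key, ck0] at this
    have h2 := (h1.comp h1).comp h1
    have h3 : F.v i * w * (F.v i * w) * (F.v i * w) = 1 := by
      rw [← e, ← pow_two, ← pow_succ, conj_pow, F.J_cube hj, mul_one, mul_inv_cancel]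
    rw [h3, (css s hs).1, ck0] at h2
    have key : ∀ s : Fin 8, sComp 0 0 s = s := by decide +kernel
    rw [key, ck0] at h2
    obtain ⟨e4, -⟩ := F.actsAs_unique h2 hid
    rw [e4] at h1
    exact h1
  rw [← normalizer_eq_top_iff, ← index_eq_one]
  have hd : (normalizer (F.J : Set G)).index ∣ 2 := hM ▸ index_dvd_of_le hMle
  rcases (Nat.dvd_prime Nat.prime_two).1 hd with h1 | h1
  · exact h1
  · exfalso
    have hMeq : M = normalizer (F.J : Set G) := eq_of_le_of_card_ge hMle (by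
      have a1 := card_mul_index M
      have a2 := card_mul_index (normalizer (F.J : Set G))
      rw [hM] at a1
      rw [h1] at a2
      omega)
    exact hτM (hMeq ▸ F.p_mem_normalizer 2)

end Frame

end Cfsg.Lib.SymNine
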