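import Cfsg.Agent.Lib.SymNine.CaseI
import Cfsg.Agent.Lib.SymNine.CaseTwo
import Cfsg.Agent.Lib.SymNine.CaseThreeB

/-!
# The symmetric group of degree nine from the centralizer of an element of order three
-/

set_option autoImplicit false
set_option linter.unusedSectionVars false
set_option linter.style.haveILetI false

namespace Cfsg.Lib.SymNine

open Subgroup

universe u

/-- The theorem, granted the recognition of the alternating group of degree nine. -/
theorem normal_or_symmetric {G : Type u} [Group G] [Finite G] (F : Frame G) (hrec : NineRecognised.{u}) :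
    F.J.Normal ∨ Nonempty (G ≃* Equiv.Perm (Fin 9)) := by
  obtain ⟨F1, hJ1, hmono⟩ := F.exists_monomial
  obtain ⟨m, hm⟩ := F1.sign_cases hmono
  have h : F1.IsCase m := ⟨hmono, hm⟩
  rw [← hJ1]
  have hm' : m = 0 ∨ m = 1 ∨ m = 2 ∨ m = 3 :=
    (show ∀ m : Fin 4, m = 0 ∨ m = 1 ∨ m = 2 ∨ m = 3 by decide) m
  rcases hm' with rfl | rfl | rfl | rfl
  · exact Or.inl (Frame.normal_of_caseZero h)
  · exact Or.inl (Frame.normal_of_caseOne h)
  · exact Or.inl (Frame.normal_of_caseTwo h)
  obtain ⟨F2, hJ2, ⟨D⟩⟩ := Frame.exists_full h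
  rw [← hJ2]
  by_cases hsmall : ∀ g, g * F2.v 1 = F2.v 1 * g → g ∈ normalizer (F2.J : Set G)
  · exact Or.inl (D.normal_of_small hsmall)
  · exact D.normal_or_symmetric hrec hsmall

end Cfsg.Lib.SymNine
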