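import Cfsg.Agent.Lib.SymNine.Small

/-!
# A diagonal inertia group

An elementary abelian Sylow 3-subgroup of order nine with two invariant axes and small centralizers, normalising
no nontrivial subgroup of order prime to three, is normal.
-/

set_option autoImplicit false
set_option maxHeartbeats 1600000
set_option linter.unusedSectionVars false
set_option linter.style.haveILetI false

namespace Cfsg.Lib.SymNine.Sig

open Cfsg Subgroup

universe u

variable {Y : Type u} [Group Y] [Finite Y]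

theorem ne_inv_of_cube {y : Y} (h : y ^ 3 = 1) (h1 : y ≠ 1) : y⁻¹ ≠ y := fun e => h1 (by
  rw [pow_succ, pow_two] at h
  nth_rewrite 1 [← e] at h
  rwa [inv_mul_cancel, one_mul] at h)

theorem normal_of_diag (X : Sig Y) {a e : Y} (ha : a ∈ (X.S : Subgroup Y)) (he : e ∈ (X.S : Subgroup Y))
    (hcard : Nat.card (X.S : Subgroup Y) = 9) (hcube : ∀ s ∈ (X.S : Subgroup Y), s ^ 3 = 1)
    (hgen : ∀ s ∈ (X.S : Subgroup Y), ∃ i j : ℕ, s = a ^ i * e ^ j) (ha1 : a ≠ 1) (hea : e ∉ zpowers a)
    (hC : centralizer ((X.S : Subgroup Y) : Set Y) = (X.S : Subgroup Y))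
    (hcl : ∀ s ∈ (X.S : Subgroup Y), s ≠ 1 →
      centralizer ({s} : Set Y) ≤ normalizer ((X.S : Subgroup Y) : Set Y))
    (hact : ∀ n ∈ normalizer ((X.S : Subgroup Y) : Set Y),
      (n * a * n⁻¹ = a ∨ n * a * n⁻¹ = a⁻¹) ∧ (n * e * n⁻¹ = e ∨ n * e * n⁻¹ = e⁻¹)) :
    normalizer ((X.S : Subgroup Y) : Set Y) = ⊤ := by
  classical
  haveI : Fact (Nat.Prime 3) := ⟨Nat.prime_three⟩
  set S := (X.S : Subgroup Y) with hS
  have he1 : e ≠ 1 := fun h => hea (h ▸ one_mem _)
  have ha3 : orderOf a = 3 := orderOf_eq_prime (hcube a ha) ha1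
  have he3 : orderOf e = 3 := orderOf_eq_prime (hcube e he) he1
  have haa := ne_inv_of_cube (hcube a ha) ha1
  have hee := ne_inv_of_cube (hcube e he) he1
  have hconj : ∀ {n : Y} {s : Y} (i j : ℕ), s = a ^ i * e ^ j →
      n * s * n⁻¹ = (n * a * n⁻¹) ^ i * (n * e * n⁻¹) ^ j := fun {n s} i j h => by
    rw [h, conj_pow, conj_pow]; group
  have hsame : ∀ n ∈ normalizer (S : Set Y), ∀ n' ∈ normalizer (S : Set Y), n * a * n⁻¹ = n' * a * n'⁻¹ →
      n * e * n⁻¹ = n' * e * n'⁻¹ → n'⁻¹ * n ∈ S := by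
    intro n _ n' _ h1 h2
    rw [← hC]
    refine mem_centralizer_iff.2 fun s hs => ?_
    obtain ⟨i, j, hij⟩ := hgen s hs
    have h3 := (hconj (n := n) i j hij).trans ((by rw [h1, h2]) : _ = (n' * a * n'⁻¹) ^ i * (n' * e * n'⁻¹) ^ j)
    rw [← hconj i j hij] at h3
    rw [eq_comm, ← mul_inv_eq_iff_eq_mul]
    calc n'⁻¹ * n * s * (n'⁻¹ * n)⁻¹ = n'⁻¹ * (n * s * n⁻¹) * n' := by group
      _ = s := by rw [h3]; group
  have hfix : ∀ n ∈ normalizer (S : Set Y), n * a * n⁻¹ = a → n * e * n⁻¹ = e → n ∈ S := fun n hn h1 h2 => by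
    have h := hsame n hn 1 (one_mem _) (by rw [h1]; group) (by rw [h2]; group)
    simpa using h
  by_cases hP1 : ∃ n ∈ normalizer (S : Set Y), n * a * n⁻¹ = a ∧ n * e * n⁻¹ = e⁻¹
  · obtain ⟨r₁, hr₁, hr₁a, hr₁e⟩ := hP1
    by_cases hP2 : ∃ n ∈ normalizer (S : Set Y), n * a * n⁻¹ = a⁻¹ ∧ n * e * n⁻¹ = e
    · obtain ⟨r₂, hr₂, hr₂a, hr₂e⟩ := hP2
      set z := r₁ * r₂ with hzdef
      have hza : z * a * z⁻¹ = a⁻¹ := by
        calc z * a * z⁻¹ = r₁ * (r₂ * a * r₂⁻¹) * r₁⁻¹ := by rw [hzdef]; group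
          _ = (r₁ * a * r₁⁻¹)⁻¹ := by rw [hr₂a]; group
          _ = a⁻¹ := by rw [hr₁a]
      have hze : z * e * z⁻¹ = e⁻¹ := by
        calc z * e * z⁻¹ = r₁ * (r₂ * e * r₂⁻¹) * r₁⁻¹ := by rw [hzdef]; group
          _ = e⁻¹ := by rw [hr₂e, hr₁e]
      let L : Recog.NineSC.Loose Y :=
        { S := X.S
          card_S := hcard
          cube := hcube
          comm := fun {p q} hp hq => X.comm p hp q hq
          cent_le := hcl }
      have hcard18 : ∀ {b r : Y}, b ∈ S → b ≠ 1 → r ∈ normalizer (S : Set Y) → r * b * r⁻¹ = b → r ∉ S →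
          (∀ n ∈ normalizer (S : Set Y), n * b * n⁻¹ = b → n ∈ S ∨ r⁻¹ * n ∈ S) →
          Nat.card (centralizer ({b} : Set Y)) = 18 := by
        intro b r hb hb1 hr hrb hrS hcov
        have hSC : S ≤ centralizer ({b} : Set Y) := fun q hq =>
          mem_centralizer_singleton_iff.2 (X.comm q hq b hb)
        have hrC : r ∈ centralizer ({b} : Set Y) := mem_centralizer_singleton_iff.2 (mul_inv_eq_iff_eq_mul.1 hrb)
        have hidx : S.relIndex (centralizer ({b} : Set Y)) = 2 := by
          rw [relIndex, index_eq_two_iff_exists_notMem_and]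
          refine ⟨⟨r⁻¹, inv_mem hrC⟩, fun h => hrS (inv_mem_iff.1 (mem_subgroupOf.1 h)), fun q => ?_⟩
          simp only [mem_subgroupOf, Subgroup.coe_mul]
          have hqN := hcl b hb hb1 q.2
          rcases hcov q hqN (mul_inv_eq_iff_eq_mul.2 (mem_centralizer_singleton_iff.1 q.2)) with h | h
          · exact Or.inr h
          · refine Or.inl ?_
            have h' := (mem_normalizer_iff.1 hr _).1 h
            rwa [show r * (r⁻¹ * (q : Y)) * r⁻¹ = (q : Y) * r⁻¹ by group] at h'
        have h2 : Nat.card S * S.relIndex (centralizer ({b} : Set Y)) = Nat.card (centralizer ({b} : Set Y)) := by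
          rw [← relIndex_bot_left (H := S), relIndex_mul_relIndex _ _ _ bot_le hSC, relIndex_bot_left]
        rw [hidx, hcard] at h2
        omega
      have hca := hcard18 ha ha1 hr₁ hr₁a (fun h => hee (by
          rw [← hr₁e, X.comm r₁ h e he, mul_inv_cancel_right])) fun n hn hna => by
        rcases (hact n hn).2 with h | h
        · exact Or.inl (hfix n hn hna h)
        · exact Or.inr (hsame n hn r₁ hr₁ (hna.trans hr₁a.symm) (h.trans hr₁e.symm))
      have hce := hcard18 he he1 hr₂ hr₂e (fun h => haa (by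
          rw [← hr₂a, X.comm r₂ h a ha, mul_inv_cancel_right])) fun n hn hne => by
        rcases (hact n hn).1 with h | h
        · exact Or.inl (hfix n hn h hne)
        · exact Or.inr (hsame n hn r₂ hr₂ (h.trans hr₂a.symm) (hne.trans hr₂e.symm))
      have hae : a * e ≠ 1 := fun h => hea (by
        rw [← inv_eq_of_mul_eq_one_right h]; exact inv_mem (mem_zpowers a))
      have hcb : Nat.card (centralizer ({a * e} : Set Y)) = 9 := by
        rw [show centralizer ({a * e} : Set Y) = S from le_antisymm (fun n hn => ?_) fun q hq =>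
          mem_centralizer_singleton_iff.2 (X.comm q hq _ (mul_mem ha he)), hcard]
        have hnN := hcl _ (mul_mem ha he) hae hn
        have hn' : (n * a * n⁻¹) * (n * e * n⁻¹) = a * e := by
          rw [show (n * a * n⁻¹) * (n * e * n⁻¹) = n * (a * e) * n⁻¹ by group]
          exact mul_inv_eq_iff_eq_mul.2 (mem_centralizer_singleton_iff.1 hn)
        rcases (hact n hnN).1 with h | h <;> rcases (hact n hnN).2 with h' | h'
        · exact hfix n hnN h h'
        · rw [h, h', mul_right_inj] at hn'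
          exact absurd hn' hee
        · rw [h, h', mul_left_inj] at hn'
          exact absurd hn' haa
        · rw [h, h'] at hn'
          refine absurd ?_ (ne_inv_of_cube (hcube _ (mul_mem ha he)) hae)
          rw [mul_inv_rev, ← X.comm _ (inv_mem ha) _ (inv_mem he)]
          exact hn'
      have h36 : 36 ≤ Nat.card (normalizer (S : Set Y)) := by
        have hlt : Nat.card (centralizer ({a} : Set Y)) < Nat.card (normalizer (S : Set Y)) := by
          refine Nat.lt_of_le_of_ne (card_le_of_le (hcl a ha ha1)) fun heq => ?_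
          have h1 := eq_of_le_of_card_ge (hcl a ha ha1) heq.ge
          have h2 : r₂ ∈ centralizer ({a} : Set Y) := by rw [h1]; exact hr₂
          rw [mem_centralizer_singleton_iff.1 h2, mul_inv_cancel_right] at hr₂a
          exact haa hr₂a.symm
        have hdvd := card_dvd_of_le (hcl a ha ha1)
        rw [hca] at hlt hdvd
        obtain ⟨d, hd⟩ := hdvd
        omega
      refine Sig.normal_of_klein L (a := a) (e := e) (z := z) (r₁ := r₁) (r₂ := r₂) ha ha1 he hea ?_
        hr₁a hr₁e hr₂a hr₂e hact hca hce hcb h36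
      intro s hs
      obtain ⟨i, j, hij⟩ := hgen s hs
      rw [hconj i j hij, hza, hze, inv_pow, inv_pow, X.comm _ (inv_mem (pow_mem ha i)) _ (inv_mem (pow_mem he j)),
        ← mul_inv_rev, hij]
    · refine X.normal_of_reflection (τ := r₁) hr₁ (fun n hn => ?_) hC he he3 hr₁e (fun s hs => ?_) ?_ (hcl e he he1)
      · rcases (hact n hn).1 with h | h
        · rcases (hact n hn).2 with h' | h'
          · exact Or.inl (hC.symm ▸ hfix n hn h h')
          · exact Or.inr (hC.symm ▸ hsame n hn r₁ hr₁ (h.trans hr₁a.symm) (h'.trans hr₁e.symm))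
        · exfalso
          rcases (hact n hn).2 with h' | h'
          · exact hP2 ⟨n, hn, h, h'⟩
          · refine hP2 ⟨r₁ * n, mul_mem hr₁ hn, ?_, ?_⟩
            · calc r₁ * n * a * (r₁ * n)⁻¹ = r₁ * (n * a * n⁻¹) * r₁⁻¹ := by group
                _ = (r₁ * a * r₁⁻¹)⁻¹ := by rw [h]; group
                _ = a⁻¹ := by rw [hr₁a]
            · calc r₁ * n * e * (r₁ * n)⁻¹ = r₁ * (n * e * n⁻¹) * r₁⁻¹ := by group
                _ = (r₁ * e * r₁⁻¹)⁻¹ := by rw [h']; group
                _ = e := by rw [hr₁e, inv_inv]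
      · obtain ⟨i, j, hij⟩ := hgen s hs
        exact ⟨a ^ i, pow_mem ha i, by rw [← conj_pow, hr₁a], j, hij⟩
      · rintro n ⟨hn1, hn2⟩
        have h' : n * e * n⁻¹ = e := mul_inv_eq_iff_eq_mul.2 (mem_centralizer_singleton_iff.1 hn1)
        rcases (hact n hn2).1 with h | h
        · exact hfix n hn2 h h'
        · exact absurd ⟨n, hn2, h, h'⟩ hP2
  · by_cases hP2 : ∃ n ∈ normalizer (S : Set Y), n * a * n⁻¹ = a⁻¹ ∧ n * e * n⁻¹ = e
    · obtain ⟨r₂, hr₂, hr₂a, hr₂e⟩ := hP2
      refine X.normal_of_reflection (τ := r₂) hr₂ (fun n hn => ?_) hC ha ha3 hr₂a (fun s hs => ?_) ?_ (hcl a ha ha1)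
      · rcases (hact n hn).2 with h' | h'
        · rcases (hact n hn).1 with h | h
          · exact Or.inl (hC.symm ▸ hfix n hn h h')
          · exact Or.inr (hC.symm ▸ hsame n hn r₂ hr₂ (h.trans hr₂a.symm) (h'.trans hr₂e.symm))
        · exfalso
          rcases (hact n hn).1 with h | h
          · exact hP1 ⟨n, hn, h, h'⟩
          · refine hP1 ⟨r₂ * n, mul_mem hr₂ hn, ?_, ?_⟩
            · calc r₂ * n * a * (r₂ * n)⁻¹ = r₂ * (n * a * n⁻¹) * r₂⁻¹ := by group
                _ = (r₂ * a * r₂⁻¹)⁻¹ := by rw [h]; group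
                _ = a := by rw [hr₂a, inv_inv]
            · calc r₂ * n * e * (r₂ * n)⁻¹ = r₂ * (n * e * n⁻¹) * r₂⁻¹ := by group
                _ = (r₂ * e * r₂⁻¹)⁻¹ := by rw [h']; group
                _ = e⁻¹ := by rw [hr₂e]
      · obtain ⟨i, j, hij⟩ := hgen s hs
        exact ⟨e ^ j, pow_mem he j, by rw [← conj_pow, hr₂e], i, by
          rw [hij, X.comm _ (pow_mem ha i) _ (pow_mem he j)]⟩
      · rintro n ⟨hn1, hn2⟩
        have h : n * a * n⁻¹ = a := mul_inv_eq_iff_eq_mul.2 (mem_centralizer_singleton_iff.1 hn1)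
        rcases (hact n hn2).2 with h' | h'
        · exact hfix n hn2 h h'
        · exact absurd ⟨n, hn2, h, h'⟩ hP1
    · by_cases hP0 : ∃ n ∈ normalizer (S : Set Y), n * a * n⁻¹ = a⁻¹ ∧ n * e * n⁻¹ = e⁻¹
      · obtain ⟨z, hz, hza, hze⟩ := hP0
        have hinv : ∀ s ∈ S, z * s * z⁻¹ = s⁻¹ := fun s hs => by
          obtain ⟨i, j, hij⟩ := hgen s hs
          rw [hconj i j hij, hza, hze, inv_pow, inv_pow,
            X.comm _ (inv_mem (pow_mem ha i)) _ (inv_mem (pow_mem he j)), ← mul_inv_rev, hij]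
        have hpat : ∀ n ∈ normalizer (S : Set Y), (n * a * n⁻¹ = a ∧ n * e * n⁻¹ = e) ∨
            (n * a * n⁻¹ = a⁻¹ ∧ n * e * n⁻¹ = e⁻¹) := fun n hn => by
          rcases (hact n hn).1 with h | h <;> rcases (hact n hn).2 with h' | h'
          exacts [Or.inl ⟨h, h'⟩, absurd ⟨n, hn, h, h'⟩ hP1, absurd ⟨n, hn, h, h'⟩ hP2, Or.inr ⟨h, h'⟩]
        refine X.normal_of_inversion (fun hcyc => ?_) hz (fun n hn => ?_) hC hinv fun s hs hs1 n hn => ?_
        · obtain ⟨w, hw⟩ := hcyc.exists_generator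
          have h1 : orderOf w = 9 := by rw [orderOf_eq_card_of_forall_mem_zpowers hw]; exact hcard
          have h2 : orderOf w ∣ 3 := orderOf_dvd_of_pow_eq_one (Subtype.ext (by
            simpa using hcube _ w.2))
          rw [h1] at h2
          exact absurd h2 (by decide)
        · rcases hpat n hn with ⟨h, h'⟩ | ⟨h, h'⟩
          · exact Or.inl (hC.symm ▸ hfix n hn h h')
          · exact Or.inr (hC.symm ▸ hsame n hn z hz (h.trans hza.symm) (h'.trans hze.symm))
        · have hnN := hcl s hs hs1 hn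
          rcases hpat n hnN with ⟨h, h'⟩ | ⟨h, h'⟩
          · exact hfix n hnN h h'
          · exfalso
            obtain ⟨i, j, hij⟩ := hgen s hs
            have e1 : n * s * n⁻¹ = s⁻¹ := by
              rw [hconj i j hij, h, h', inv_pow, inv_pow,
                X.comm _ (inv_mem (pow_mem ha i)) _ (inv_mem (pow_mem he j)), ← mul_inv_rev, hij]
            rw [mem_centralizer_singleton_iff.1 hn, mul_inv_cancel_right] at e1
            exact ne_inv_of_cube (hcube s hs) hs1 e1.symm
      · have hcen : normalizer (S : Set Y) ≤ centralizer (S : Set Y) := fun n hn => by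
          rw [hC]
          rcases (hact n hn).1 with h | h <;> rcases (hact n hn).2 with h' | h'
          exacts [hfix n hn h h', absurd ⟨n, hn, h, h'⟩ hP1, absurd ⟨n, hn, h, h'⟩ hP2,
            absurd ⟨n, hn, h, h'⟩ hP0]
        have hT := X.eq_top_of_central hcen
        exact eq_top_iff.2 (hT ▸ Subgroup.le_normalizer)

end Cfsg.Lib.SymNine.Sig
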