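import Cfsg.Agent.Lib.SymNine.Global
import Cfsg.Agent.Lib.SymNine.Diag
import Cfsg.Agent.Lib.Coprime.Generation

/-!
# Centralizers of involutions of `N(J)`

An involution fixing two axes of `J` whose fixed elements have small centralizers has all of its centralizer, or
of a given part of it, inside `N(J)`; the order of that centralizer is then read off the action.
-/

set_option autoImplicit false
set_option maxHeartbeats 1600000
set_option linter.unusedSectionVars false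
set_option linter.style.haveILetI false

namespace Cfsg.Lib.SymNine

open Subgroup

theorem commute_of_conj_inv {H : Type*} [Group H] {y a : H} (h : y * a * y⁻¹ = a ∨ y * a * y⁻¹ = a⁻¹) {n : ℕ}
    (hn : y ^ 3 ^ n = 1) : y * a * y⁻¹ = a := by
  rcases h with h | h
  · exact h
  have h2 : y ^ 2 * a = a * y ^ 2 := by
    rw [← mul_inv_eq_iff_eq_mul]
    calc y ^ 2 * a * (y ^ 2)⁻¹ = y * (y * a * y⁻¹) * y⁻¹ := by rw [pow_two]; group
      _ = y * a⁻¹ * y⁻¹ := by rw [h]
      _ = (y * a * y⁻¹)⁻¹ := by group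
      _ = a := by rw [h, inv_inv]
  obtain ⟨q, hq⟩ := Nat.odd_iff.2 (show 3 ^ n % 2 = 1 by rw [Nat.pow_mod]; simp)
  have e : y = ((y ^ 2) ^ q)⁻¹ := by
    rw [← pow_mul]
    refine eq_inv_of_mul_eq_one_left ?_
    rw [← pow_succ', ← hq, hn]
  rw [mul_inv_eq_iff_eq_mul, e]
  exact ((show Commute (y ^ 2) a from h2).pow_left q).inv_left.eq

theorem eq_one_of_mem_of_pow {H : Type*} [Group H] [Finite H] {K : Subgroup H} (hK : (Nat.card K).Coprime 3)
    {y : H} (hy : y ∈ K) {n : ℕ} (hn : y ^ 3 ^ n = 1) : y = 1 :=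
  orderOf_eq_one_iff.1 (Nat.eq_one_of_dvd_coprimes (hK.pow_right n) (orderOf_mk y hy ▸ orderOf_dvd_natCard _)
    (orderOf_dvd_of_pow_eq_one hn))

namespace Frame

variable {G : Type*} [Group G] [Finite G] {F : Frame G} {m : Fin 4}

namespace IsCase

variable (h : F.IsCase m)
include h

theorem mem_normalizer_of_pair {a e : Fin 27} (ha0 : a ≠ 0) (ha : xType m a = false) (he : e ∉ mult a) {g : G}
    (hga : g⁻¹ * F.v a * g ∈ F.J) (hge : g⁻¹ * F.v e * g ∈ F.J) : g ∈ normalizer (F.J : Set G) := by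
  refine Fusion.le_normalizer_of_conj_mem fun j hj => ?_
  have key : ∀ b, g⁻¹ * F.v b * g ∈ F.J → g * j * g⁻¹ * F.v b = F.v b * (g * j * g⁻¹) := by
    intro b hb
    obtain ⟨c, hc⟩ := hb
    obtain ⟨d, rfl⟩ := hj
    calc g * F.v d * g⁻¹ * F.v b = g * (F.v d * (g⁻¹ * F.v b * g)) * g⁻¹ := by group
      _ = g * ((g⁻¹ * F.v b * g) * F.v d) * g⁻¹ := by rw [← hc, (F.v_comm d c).eq]
      _ = F.v b * (g * F.v d * g⁻¹) := by group
  refine h.act_trivial ha0 ha (h.cent_pair ha0 ha he (key a hga) (key e hge)) (key a hga) fun b => ?_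
  rw [conj_pow, F.J_cube hj, mul_one, mul_inv_cancel, one_mul, mul_one]

/-- The centralizer of an involution with two fixed axes lies in the normalizer of `J`. -/
theorem cent_inv_le {t : G} (ht : t * t = 1) (C : Subgroup G) (hCt : ∀ c ∈ C, c * t = t * c) (htC : t ∈ C)
    {a e : Fin 27} (ha0 : a ≠ 0) (ha : xType m a = false) (he : e ∉ mult a)
    (haC : F.v a ∈ C) (heC : F.v e ∈ C)
    (hE : ∀ y, F.v y * t = t * F.v y → ∃ i j : ℕ, F.v y = F.v a ^ i * F.v e ^ j)
    (hcount : Nat.card {y : Fin 27 // F.v y * t = t * F.v y} = 9)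
    (hcent : ∀ y, y ≠ 0 → F.v y * t = t * F.v y → ∀ g, g * F.v y = F.v y * g → g ∈ normalizer (F.J : Set G))
    (hact : ∀ n ∈ C, n ∈ normalizer (F.J : Set G) →
      (n * F.v a * n⁻¹ = F.v a ∨ n * F.v a * n⁻¹ = (F.v a)⁻¹) ∧
      (n * F.v e * n⁻¹ = F.v e ∨ n * F.v e * n⁻¹ = (F.v e)⁻¹))
    (hker : ∀ n ∈ C, n ∈ normalizer (F.J : Set G) → n * F.v a = F.v a * n → n * F.v e = F.v e * n →
      n ∈ F.J ∨ t * n ∈ F.J) : C ≤ normalizer (F.J : Set G) := by
  classical
  haveI : Fact (Nat.Prime 3) := ⟨Nat.prime_three⟩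
  set W := zpowers (⟨t, htC⟩ : C) with hW
  have hWc : ∀ w ∈ W, ∀ y : C, y * w = w * y := by
    rintro _ ⟨q, rfl⟩ y
    exact ((show Commute y ⟨t, htC⟩ from Subtype.ext (hCt y y.2)).zpow_right q).eq
  haveI : W.Normal := ⟨fun w hw y => by rw [hWc w hw y, mul_inv_cancel_right]; exact hw⟩
  have hWel : ∀ w ∈ W, (w : G) = 1 ∨ (w : G) = t := by
    rintro _ ⟨q, rfl⟩
    show ((⟨t, htC⟩ : C) ^ q : C).1 = 1 ∨ _
    rw [Subgroup.coe_zpow]
    rcases Int.even_or_odd' q with ⟨r, rfl | rfl⟩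
    · exact Or.inl (by rw [zpow_mul, zpow_two, ht, one_zpow])
    · exact Or.inr (by rw [zpow_add, zpow_mul, zpow_two, ht, one_zpow, one_mul, zpow_one])
  have hWcop : (Nat.card W).Coprime 3 := by
    rw [hW, Nat.card_zpowers]
    exact Nat.Coprime.coprime_dvd_left (orderOf_dvd_of_pow_eq_one (show (⟨t, htC⟩ : C) ^ 2 = 1 from
      Subtype.ext (by simp [pow_two, ht]))) (by norm_num)
  have hE3 : IsPGroup 3 (F.J.subgroupOf C) := fun y => ⟨1, Subtype.ext (Subtype.ext (by
    simpa using F.J_cube y.2))⟩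
  have haJ : (⟨F.v a, haC⟩ : C) ∈ F.J.subgroupOf C := F.v_mem a
  have heJ : (⟨F.v e, heC⟩ : C) ∈ F.J.subgroupOf C := F.v_mem e
  have hN : ∀ c : C, c ∈ normalizer ((F.J.subgroupOf C : Subgroup C) : Set C) →
      (c : G) ∈ normalizer (F.J : Set G) := fun c hc => by
    refine h.mem_normalizer_of_pair ha0 ha he ?_ ?_
    · simpa [mem_subgroupOf] using (mem_normalizer_iff.1 (inv_mem hc) _).1 haJ
    · simpa [mem_subgroupOf] using (mem_normalizer_iff.1 (inv_mem hc) _).1 heJ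
  obtain ⟨R, hR⟩ := hE3.exists_le_sylow
  have hRE : (R : Subgroup C) = F.J.subgroupOf C := by
    by_contra hne
    haveI : Group.IsNilpotent (R : Subgroup C) := R.isPGroup'.isNilpotent
    have hlt : (F.J.subgroupOf C).subgroupOf (R : Subgroup C) < ⊤ := by
      rw [lt_top_iff_ne_top, Ne, subgroupOf_eq_top]
      exact fun h' => hne (le_antisymm h' hR)
    obtain ⟨y, hy, hyJ⟩ := SetLike.exists_of_lt (Group.normalizerCondition_of_isNilpotent _ hlt)
    refine hyJ (mem_subgroupOf.2 ?_)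
    have hyN : ((y : C) : C) ∈ normalizer ((F.J.subgroupOf C : Subgroup C) : Set C) :=
      Fusion.le_normalizer_of_conj_mem fun b hb => (mem_normalizer_iff.1 hy ⟨b, hR hb⟩).1 hb
    have hyN' := hN _ hyN
    obtain ⟨n, hn⟩ := R.isPGroup' y
    have hn' : (((y : C) : G)) ^ 3 ^ n = 1 := by
      have := congrArg (fun z : (R : Subgroup C) => (((z : C) : G))) hn
      simpa using this
    obtain ⟨h1, h2⟩ := hact _ (y : C).2 hyN'
    rcases hker _ (y : C).2 hyN' (mul_inv_eq_iff_eq_mul.1 (commute_of_conj_inv h1 hn'))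
      (mul_inv_eq_iff_eq_mul.1 (commute_of_conj_inv h2 hn')) with hj | hj
    · exact hj
    · have hcomm : Commute t (t * ((y : C) : G)) := by
        show t * (t * ((y : C) : G)) = t * ((y : C) : G) * t
        rw [mul_assoc t ((y : C) : G), hCt _ (y : C).2]
      have e1 : ((y : C) : G) = t * (t * ((y : C) : G)) := by rw [← mul_assoc, ht, one_mul]
      rw [e1, hcomm.mul_pow] at hn'
      rcases n with _ | n
      · rw [pow_zero, pow_one, pow_one, ← e1] at hn'
        show ((y : C) : G) ∈ F.J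
        rw [hn']; exact one_mem _
      · have h3 : (t * ((y : C) : G)) ^ 3 ^ (n + 1) = 1 := by
          rw [pow_succ', pow_mul, F.J_cube hj, one_pow]
        have ht1 : t ^ 3 ^ (n + 1) = t := by
          obtain ⟨q, hq⟩ := Nat.odd_iff.2 (show 3 ^ (n + 1) % 2 = 1 by rw [Nat.pow_mod]; simp)
          rw [hq, pow_succ, pow_mul, pow_two, ht, one_pow, one_mul]
        rw [h3, mul_one, ht1] at hn'
        show ((y : C) : G) ∈ F.J
        rw [e1, hn', one_mul, one_mul]
        rw [hn', one_mul] at hj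
        exact hj
  have hmem : ∀ c : C, c ∈ (R : Subgroup C) ↔ (c : G) ∈ F.J := fun c => by rw [hRE, mem_subgroupOf]
  have hRgen : ∀ c ∈ (R : Subgroup C), ∃ i j : ℕ, c = ⟨F.v a, haC⟩ ^ i * ⟨F.v e, heC⟩ ^ j := fun c hc => by
    obtain ⟨y, hy⟩ := (hmem c).1 hc
    obtain ⟨i, j, hij⟩ := hE y (by rw [hy]; exact hCt c c.2)
    exact ⟨i, j, Subtype.ext (by simpa [hy] using hij)⟩
  have hRcard : Nat.card (R : Subgroup C) = 9 := by
    rw [← hcount]
    refine (Nat.card_eq_of_bijective (fun y : {y : Fin 27 // F.v y * t = t * F.v y} =>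
      (⟨⟨F.v y.1, ?_⟩, ?_⟩ : (R : Subgroup C))) ⟨fun y y' hyy => ?_, fun c => ?_⟩).symm
    · obtain ⟨i, j, hij⟩ := hE y.1 y.2
      rw [hij]
      exact mul_mem (pow_mem haC i) (pow_mem heC j)
    · exact (hmem _).2 (F.v_mem _)
    · exact Subtype.ext (F.vinj (congrArg (fun z : (R : Subgroup C) => ((z : C) : G)) hyy))
    · obtain ⟨y, hy⟩ := (hmem c).1 c.2
      exact ⟨⟨y, by rw [hy]; exact hCt _ (c : C).2⟩, Subtype.ext (Subtype.ext hy)⟩
  haveI : IsMulCommutative (R : Subgroup C) := ⟨⟨fun p q => Subtype.ext (Subtype.ext (by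
    obtain ⟨i, hi⟩ := (hmem _).1 p.2
    obtain ⟨j, hj⟩ := (hmem _).1 q.2
    simp only [Subgroup.coe_mul]
    rw [← hi, ← hj, (F.v_comm i j).eq]))⟩⟩
  have hRcube : ∀ c ∈ (R : Subgroup C), c ^ 3 = 1 := fun c hc =>
    Subtype.ext (by simpa using F.J_cube ((hmem c).1 hc))
  -- subgroups of order prime to three
  have hnone : ∀ K : Subgroup C, (Nat.card K).Coprime 3 →
      (∀ s ∈ (R : Subgroup C), K.map (MulAut.conj s).toMonoidHom = K) → K ≤ W := by
    intro K hK hinv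
    have hAK : (R : Subgroup C) ≤ normalizer (K : Set C) := fun s hs =>
      Fusion.le_normalizer_of_conj_mem fun k hk => by
        rw [← hinv s hs]; exact ⟨k, hk, rfl⟩
    have hnc : ¬ IsCyclic (R : Subgroup C) := fun hcyc => by
      obtain ⟨w, hw⟩ := hcyc.exists_generator
      have h1 : orderOf w = 9 := by rw [orderOf_eq_card_of_forall_mem_zpowers hw]; exact hRcard
      have h2 : orderOf w ∣ 3 := orderOf_dvd_of_pow_eq_one (Subtype.ext (by simpa using hRcube _ w.2))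
      rw [h1] at h2
      exact absurd h2 (by decide)
    refine (Coprime.le_iSup_centralizer_of_not_isCyclic hnc hAK (by
      rw [hRcard, show (9 : ℕ) = 3 ^ 2 by rfl]; exact (hK.pow_right 2).symm)).trans (iSup_le fun b => ?_)
    rintro k ⟨hkK, hkb⟩
    obtain ⟨y, hy⟩ := (hmem _).1 b.2.1
    have hy0 : y ≠ 0 := fun e' => b.2.2 (Subtype.ext (by rw [← hy, e', F.v0]; rfl))
    have hkN : (k : G) ∈ normalizer (F.J : Set G) := hcent y hy0 (by rw [hy]; exact hCt _ (b.1).2) _ (by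
      rw [hy]; exact congrArg Subtype.val (mem_centralizer_singleton_iff.1 hkb))
    have hfix : ∀ r ∈ (R : Subgroup C), k * r = r * k := fun r hr => by
      have h1 : k * r * k⁻¹ * r⁻¹ ∈ K := by
        rw [show k * r * k⁻¹ * r⁻¹ = k * (r * k⁻¹ * r⁻¹) by group]
        exact mul_mem hkK ((mem_normalizer_iff.1 (hAK hr) _).1 (inv_mem hkK))
      have h2 : ((k * r * k⁻¹ * r⁻¹ : C) : G) ∈ F.J := by
        simp only [Subgroup.coe_mul, InvMemClass.coe_inv]
        exact mul_mem ((mem_normalizer_iff.1 hkN _).1 ((hmem r).1 hr)) (inv_mem ((hmem r).1 hr))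
      have h3 := eq_one_of_mem_of_pow hK h1 (n := 1) (Subtype.ext (by
        rw [SubmonoidClass.coe_pow]; exact F.J_cube h2))
      rwa [mul_inv_eq_one, mul_inv_eq_iff_eq_mul] at h3
    rcases hker _ k.2 hkN (congrArg Subtype.val (hfix ⟨F.v a, haC⟩ ((hmem _).2 (F.v_mem a))) :)
      (congrArg Subtype.val (hfix ⟨F.v e, heC⟩ ((hmem _).2 (F.v_mem e))) :) with hj | hj
    · rw [eq_one_of_mem_of_pow hK hkK (n := 1) (Subtype.ext (by
        rw [SubmonoidClass.coe_pow]; exact F.J_cube hj))]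
      exact one_mem _
    · set j := (⟨t, htC⟩ : C) * k with hjdef
      have hjc : Commute (⟨t, htC⟩ : C) j := ((Commute.refl _).mul_right (hWc _ (mem_zpowers _) k).symm)
      have htt : (⟨t, htC⟩ : C) * ⟨t, htC⟩ = 1 := Subtype.ext ht
      have hk : k = ⟨t, htC⟩ * j := by rw [hjdef, ← mul_assoc, htt, one_mul]
      have hj3 : j ^ 3 = 1 := Subtype.ext (by rw [SubmonoidClass.coe_pow]; exact F.J_cube hj)
      have hk2 : k ^ 2 = j ^ 2 := by rw [hk, hjc.mul_pow, pow_two (⟨t, htC⟩ : C), htt, one_mul]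
      have hj2 : j ^ 2 = 1 := eq_one_of_mem_of_pow hK (hk2 ▸ pow_mem hkK 2) (n := 1) (by
        rw [pow_one, ← pow_mul, mul_comm, pow_mul, hj3, one_pow])
      rw [pow_succ, hj2, one_mul] at hj3
      rw [hk, hj3, mul_one]
      exact mem_zpowers _
  obtain ⟨X, hX⟩ := exists_sig hWc R (fun p hp q hq => congrArg Subtype.val
    (mul_comm' (⟨p, hp⟩ : (R : Subgroup C)) ⟨q, hq⟩)) (Or.inr hWcop) hnone
  set π := QuotientGroup.mk' W with hπ
  have hπ1 : ∀ r ∈ (R : Subgroup C), π r = 1 → r = 1 := fun r hr hr1 =>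
    eq_one_of_mem_of_pow hWcop ((QuotientGroup.eq_one_iff r).1 hr1) (n := 1) (hRcube r hr)
  have hXcard : Nat.card (X.S : Subgroup (C ⧸ W)) = 9 := by
    rw [hX, ← hRcard]
    refine (Nat.card_eq_of_bijective (fun r : (R : Subgroup C) => (⟨π r, mem_map_of_mem _ r.2⟩ :
      (R : Subgroup C).map π)) ⟨fun p q hpq => ?_, ?_⟩).symm
    · have h1 := hπ1 ((p : C)⁻¹ * q) (mul_mem (inv_mem p.2) q.2) (by
        rw [map_mul, map_inv, show π p = π q from congrArg Subtype.val hpq, inv_mul_cancel])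
      exact Subtype.ext (inv_mul_eq_one.1 h1)
    · rintro ⟨_, r, hr, rfl⟩
      exact ⟨⟨r, hr⟩, rfl⟩
  set A : C := ⟨F.v a, haC⟩ with hA
  set E : C := ⟨F.v e, heC⟩ with hEdef
  have hAR : A ∈ (R : Subgroup C) := (hmem _).2 (F.v_mem a)
  have hER : E ∈ (R : Subgroup C) := (hmem _).2 (F.v_mem e)
  have hNX : ∀ c : C, π c ∈ normalizer ((X.S : Subgroup (C ⧸ W)) : Set (C ⧸ W)) →
      (c : G) ∈ normalizer (F.J : Set G) := fun c hc => by
    rw [hX, mk_mem_normalizer_iff hWc R, hRE] at hc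
    exact hN c hc
  have hNc : ∀ c : C, (c : G) ∈ normalizer (F.J : Set G) →
      π c ∈ normalizer ((X.S : Subgroup (C ⧸ W)) : Set (C ⧸ W)) := fun c hc => by
    rw [hX, mk_mem_normalizer_iff hWc R]
    exact Fusion.le_normalizer_of_conj_mem fun r hr => (hmem _).2
      ((mem_normalizer_iff.1 hc _).1 ((hmem r).1 hr))
  have hA1 : A ≠ 1 := fun e' => ha0 (F.v_eq_one.1 (congrArg Subtype.val e'))
  have hea : π E ∉ zpowers (π A) := by
    rintro ⟨q, hq⟩
    refine he ?_
    have h1 := hπ1 ((A ^ q)⁻¹ * E) (mul_mem (inv_mem (zpow_mem hAR q)) hER) (by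
      rw [map_mul, map_inv, map_zpow, ← hq, inv_mul_cancel])
    have h2 : F.v e ∈ zpowers (F.v a) := ⟨q, by
      have := congrArg Subtype.val (inv_mul_eq_one.1 h1)
      simpa [hA, hEdef] using this⟩
    obtain ⟨w, hw, hwe⟩ := mem_zpowers_v.1 h2
    exact F.vinj hwe ▸ hw
  have htop := X.normal_of_diag (a := π A) (e := π E) (hX ▸ mem_map_of_mem _ hAR) (hX ▸ mem_map_of_mem _ hER)
    hXcard ?_ ?_ (fun e' => hA1 (hπ1 A hAR e')) hea ?_ ?_ ?_
  · intro c hc
    exact hNX ⟨c, hc⟩ (htop ▸ mem_top _)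
  · intro s hs
    rw [hX] at hs
    obtain ⟨r, hr, rfl⟩ := hs
    rw [← map_pow, hRcube r hr, map_one]
  · intro s hs
    rw [hX] at hs
    obtain ⟨r, hr, rfl⟩ := hs
    obtain ⟨i, j, rfl⟩ := hRgen r hr
    exact ⟨i, j, by rw [map_mul, map_pow, map_pow]⟩
  · refine le_antisymm (fun q hq => ?_) fun q hq => mem_centralizer_iff.2 fun z hz => X.comm z hz q hq
    obtain ⟨c, rfl⟩ := QuotientGroup.mk'_surjective W q
    have hcN := hNX c (Subgroup.centralizer_le_normalizer (s := ((X.S : Subgroup (C ⧸ W)) : Set (C ⧸ W))) hq)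
    have hex : ∀ b : C, b ∈ (R : Subgroup C) → ((c : G) * (b : G) * (c : G)⁻¹ = (b : G) ∨
        (c : G) * (b : G) * (c : G)⁻¹ = (b : G)⁻¹) → (c : G) * (b : G) = (b : G) * (c : G) := fun b hb hb2 => by
      rcases hb2 with h1 | h1
      · exact mul_inv_eq_iff_eq_mul.1 h1
      · have h2 : π (c * b * c⁻¹) = π b := by
          rw [map_mul, map_mul, map_inv, ← mem_centralizer_iff.1 hq _ (hX ▸ mem_map_of_mem _ hb),
            mul_inv_cancel_right]
        have h3 : c * b * c⁻¹ = b⁻¹ := Subtype.ext (by simpa using h1)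
        rw [h3, map_inv] at h2
        have h4 := hπ1 (b * b) (mul_mem hb hb) (by rw [map_mul]; nth_rewrite 1 [← h2]; exact inv_mul_cancel _)
        have h5 := hRcube b hb
        rw [pow_succ, pow_two, h4, one_mul] at h5
        rw [h5, OneMemClass.coe_one, mul_one, one_mul]
    obtain ⟨h1, h2⟩ := hact _ c.2 hcN
    rcases hker _ c.2 hcN (hex A hAR h1) (hex E hER h2) with hj | hj
    · exact hX ▸ mem_map_of_mem _ ((hmem c).2 hj)
    · rw [hX]
      refine ⟨⟨t, htC⟩ * c, (hmem _).2 hj, ?_⟩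
      rw [map_mul, show π ⟨t, htC⟩ = 1 from (QuotientGroup.eq_one_iff _).2 (mem_zpowers _), one_mul]
  · intro s hs hs1
    rw [hX] at hs
    obtain ⟨r, hr, rfl⟩ := hs
    intro q hq
    obtain ⟨c, rfl⟩ := QuotientGroup.mk'_surjective W q
    have h1 : π (c * r * c⁻¹ * r⁻¹) = 1 := by
      rw [map_mul, map_mul, map_mul, map_inv, map_inv, show π c * π r = π r * π c from mem_centralizer_singleton_iff.1 hq]
      group
    obtain ⟨y, hy⟩ := (hmem r).1 hr
    refine hNc c (hcent y (fun e' => hs1 ?_) (by rw [hy]; exact hCt r r.2) _ ?_)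
    · rw [show r = 1 from Subtype.ext (by rw [← hy, e', F.v0]; rfl), map_one]
    · rcases hWel _ ((QuotientGroup.eq_one_iff _).1 h1) with hw | hw
      · simp only [Subgroup.coe_mul, InvMemClass.coe_inv] at hw
        rw [hy]
        exact mul_inv_eq_iff_eq_mul.1 (mul_inv_eq_one.1 hw)
      · simp only [Subgroup.coe_mul, InvMemClass.coe_inv] at hw
        rw [hy]
        have hw' : (c : G) * (r : G) * (c : G)⁻¹ = t * (r : G) := by rw [← hw]; group
        have hcr : Commute t (r : G) := (hCt r r.2).symm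
        have h3 : ((c : G) * (r : G) * (c : G)⁻¹) ^ 3 = (t * (r : G)) ^ 3 := by rw [hw']
        rw [conj_pow, F.J_cube ((hmem r).1 hr), mul_one, mul_inv_cancel, hcr.mul_pow,
          F.J_cube ((hmem r).1 hr), mul_one, pow_succ, pow_two, ht, one_mul] at h3
        rw [← h3, one_mul] at hw'
        exact mul_inv_eq_iff_eq_mul.1 hw'
  · intro q hq
    obtain ⟨c, rfl⟩ := QuotientGroup.mk'_surjective W q
    obtain ⟨h1, h2⟩ := hact _ c.2 (hNX c hq)
    have hmap : ∀ b : C, ((c : G) * (b : G) * (c : G)⁻¹ = (b : G) ∨ (c : G) * (b : G) * (c : G)⁻¹ = (b : G)⁻¹) →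
        π c * π b * (π c)⁻¹ = π b ∨ π c * π b * (π c)⁻¹ = (π b)⁻¹ := fun b hb => by
      rw [← map_mul, ← map_inv, ← map_mul, ← map_inv]
      exact hb.imp (fun e' => congrArg π (Subtype.ext (by simpa using e')))
        (fun e' => congrArg π (Subtype.ext (by simpa using e')))
    exact ⟨hmap A h1, hmap E h2⟩

/-- Commuting lifts of the action. -/
theorem exists_commuting_lift {t : G} (ht : t * t = 1) {s s' : Fin 8} {k k' : Fin 6} (hts : F.ActsAs t s k)
    (hs' : signSets m s' = true) (hc : ∀ i, act s' k' (act s k i) = act s k (act s' k' i)) :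
    ∃ n ∈ normalizer (F.J : Set G), F.ActsAs n s' k' ∧ n * t = t * n := by
  obtain ⟨n, hn, ha⟩ := h.exists_of_act hs' k'
  have hj : t⁻¹ * (n * t * n⁻¹) ∈ F.J := by
    refine mem_J_of_act fun i => ?_
    show _ = F.v (act 0 0 i)
    rw [act_facts.1]
    calc t⁻¹ * (n * t * n⁻¹) * F.v i * (t⁻¹ * (n * t * n⁻¹))⁻¹
        = t⁻¹ * (n * (t * (n⁻¹ * F.v i * n) * t⁻¹) * n⁻¹) * t := by group
      _ = F.v i := by
          obtain ⟨b, hb⟩ := (mem_normalizer_iff.1 (inv_mem hn) _).1 (F.v_mem i)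
          rw [inv_inv] at hb
          rw [← hb, actsAs_act hts, actsAs_act ha, hc, ← actsAs_act hts (act s' k' b), ← actsAs_act ha b, hb]
          group
  obtain ⟨b, hb⟩ := hj
  set j := F.v b with hjdef
  have hnt : n * t * n⁻¹ = t * j := by rw [hb]; group
  have hinv : j * (t * j) = t := by
    have h1 : t * (j * (t * j)) = 1 := by
      rw [← mul_assoc, ← hnt, show n * t * n⁻¹ * (n * t * n⁻¹) = n * (t * t) * n⁻¹ by group, ht, mul_one,
        mul_inv_cancel]
    rw [eq_inv_of_mul_eq_one_right h1, inv_eq_of_mul_eq_one_right ht]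
  have h3 : j * j * j = 1 := by rw [← F.v_cube b, pow_succ, pow_two, hjdef]
  have h4 : j⁻¹ * j⁻¹ = j := by
    rw [← mul_inv_rev, inv_eq_iff_mul_eq_one]; exact h3
  have h5 : t * j = j⁻¹ * t := by rw [eq_inv_mul_iff_mul_eq]; exact hinv
  have h6 : j * t = t * j⁻¹ := by
    rw [eq_mul_inv_iff_mul_eq, mul_assoc]; exact hinv
  refine ⟨j⁻¹ * n, mul_mem (inv_mem (v_mem_normalizer _ _)) hn, fun i => ?_, ?_⟩
  · rw [show j⁻¹ * n * F.v i * (j⁻¹ * n)⁻¹ = j⁻¹ * (n * F.v i * n⁻¹) * j by group, actsAs_act ha, mul_assoc,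
      hjdef, (F.v_comm (act s' k' i) b).eq, ← mul_assoc, inv_mul_cancel, one_mul]
    rfl
  · calc j⁻¹ * n * t = j⁻¹ * (n * t * n⁻¹) * n := by group
      _ = j⁻¹ * (j⁻¹ * t) * n := by rw [hnt, h5]
      _ = j * t * n := by rw [← mul_assoc j⁻¹ j⁻¹, h4]
      _ = t * (j⁻¹ * n) := by rw [h6, mul_assoc]

end IsCase

end Frame

end Cfsg.Lib.SymNine
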