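import Cfsg.Agent.Lib.SymNine.CentData

/-!
# Centralizers of elements of `J`

The centralizer of two independent elements of `J` lies in `N(J)`, and so does the centralizer of one element
whose stabiliser is trivial, a reflection, an inversion or a four-group of two reflections.
-/

set_option autoImplicit false
set_option maxHeartbeats 1600000
set_option maxRecDepth 100000
set_option synthInstance.maxSize 4000
set_option synthInstance.maxHeartbeats 400000
set_option linter.unusedSectionVars false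
set_option linter.style.haveILetI false

namespace Cfsg.Lib.SymNine

open Subgroup

theorem code_cancel : (∀ t l : Fin 27, vAdd t (vAdd l (vSmul 2 t)) = l) ∧
    (∀ i w : Fin 27, w ∈ mult i → vSmul 2 w ∈ mult i) := by
  refine ⟨?_, ?_⟩ <;> decide +kernel

namespace Frame

variable {G : Type*} [Group G] [Finite G] {F : Frame G} {m : Fin 4}

theorem mem_zpowers_v {i : Fin 27} {y : G} :
    y ∈ zpowers (F.v i) ↔ ∃ w ∈ mult i, y = F.v w := by
  constructor
  · intro hy
    obtain ⟨e, rfl⟩ := hy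
    show ∃ w ∈ mult i, F.v i ^ e = F.v w
    have h3 : F.v i ^ (3 : ℤ) = 1 := by rw [show (3 : ℤ) = ((3 : ℕ) : ℤ) from rfl, zpow_natCast, F.v_cube]
    have e1 : F.v i ^ e = F.v i ^ (e % 3) := by
      conv_lhs => rw [← Int.emod_add_mul_ediv e 3]
      rw [zpow_add, zpow_mul, h3, one_zpow, mul_one]
    rw [e1]
    rcases (show e % 3 = 0 ∨ e % 3 = 1 ∨ e % 3 = 2 by omega) with h | h | h <;> rw [h]
    · exact ⟨0, by simp [mult], by rw [F.v0, zpow_zero]⟩
    · exact ⟨i, by simp [mult], by rw [zpow_one]⟩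
    · exact ⟨vSmul 2 i, by simp [mult], by
        rw [← F.v_inv]
        refine eq_inv_of_mul_eq_one_left ?_
        rw [← zpow_add_one, show (2 : ℤ) + 1 = 3 by norm_num, h3]⟩
  · rintro ⟨w, hw, rfl⟩
    simp only [mult, List.mem_cons, List.not_mem_nil, or_false] at hw
    rcases hw with rfl | rfl | rfl
    · rw [F.v0]; exact one_mem _
    · exact mem_zpowers _
    · rw [← F.v_inv]; exact inv_mem (mem_zpowers _)

theorem zpowers_v_le (i : Fin 27) : zpowers (F.v i) ≤ F.J := zpowers_le.2 (F.v_mem i)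

theorem card_zpowers_v {i : Fin 27} (hi0 : i ≠ 0) : Nat.card (zpowers (F.v i)) = 3 := by
  haveI : Fact (Nat.Prime 3) := ⟨Nat.prime_three⟩
  rw [Nat.card_zpowers, orderOf_eq_prime (F.v_cube i) fun e => hi0 (F.v_eq_one.1 e)]

theorem mem_cent_zpowers {i : Fin 27} {g : G} (hg : g * F.v i = F.v i * g) :
    g ∈ centralizer ((zpowers (F.v i) : Subgroup G) : Set G) := by
  refine mem_centralizer_iff.2 fun y hy => ?_
  obtain ⟨e, rfl⟩ := hy
  exact ((show Commute g (F.v i) from hg).zpow_right e).eq.symm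

theorem comm_v_of_mem {i : Fin 27} (c : centralizer ((zpowers (F.v i) : Subgroup G) : Set G)) :
    (c : G) * F.v i = F.v i * (c : G) := (mem_centralizer_iff.1 c.2 _ (mem_zpowers (F.v i))).symm

theorem img_mult {i a w : Fin 27} (hw : w ∈ mult i) :
    img (zpowers_v_le (F := F) i) (vAdd a w) = img (zpowers_v_le i) a := by
  rw [img_add, (img_eq_one (zpowers_v_le i) (a := w)).2 (mem_zpowers_v.2 ⟨w, hw, rfl⟩), mul_one]

namespace IsCase

variable (h : F.IsCase m)
include h

/-- The centralizer of two independent elements lies in the normalizer of `J`. -/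
theorem cent_pair {i p : Fin 27} (hi0 : i ≠ 0) (hi : xType m i = false) (hp : p ∉ mult i) {g : G}
    (hgi : g * F.v i = F.v i * g) (hgp : g * F.v p = F.v p * g) : g ∈ normalizer (F.J : Set G) := by
  haveI : Fact (Nat.Prime 3) := ⟨Nat.prime_three⟩
  set W := closure ({F.v i, F.v p} : Set G) with hW
  have hWJ : W ≤ F.J := by
    rw [hW, closure_le]
    rintro y (rfl | rfl) <;> exact F.v_mem _
  have hiW : F.v i ∈ W := subset_closure (by simp)
  have hpW : F.v p ∈ W := subset_closure (by simp)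
  have hgW : g ∈ centralizer (W : Set G) := by
    rw [hW, centralizer_closure, mem_centralizer_iff]
    rintro y (rfl | rfl)
    exacts [hgi.symm, hgp.symm]
  obtain ⟨r, -, hr⟩ := span_facts i p hi0 hp
  have hspan : ∀ t, ∃ e ∈ [(0 : Fin 27), r, vSmul 2 r], ∃ w, F.v w ∈ W ∧ t = vAdd e w := by
    refine code_ind ⟨0, by simp, 0, by rw [F.v0]; exact one_mem _, rfl⟩ ?_ ?_
    · rintro a b ⟨e, he, w, hw, rfl⟩ ⟨e', he', w', hw', rfl⟩
      refine ⟨vAdd e e', multiples_add r e he e' he', vAdd w w', by rw [F.vmul]; exact mul_mem hw hw', ?_⟩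
      refine F.vinj ?_
      simp only [F.vmul, mul_assoc]
      congr 1
      rw [← mul_assoc, (F.v_comm w e').eq, mul_assoc]
    intro t ht
    obtain ⟨e, he, c, hc, w, hw, rfl⟩ := hr t ht
    refine ⟨e, he, vAdd c w, ?_, F.vinj (by simp only [F.vmul, mul_assoc])⟩
    rw [F.vmul]
    refine mul_mem ?_ ((zpowers_le.2 hiW) (mem_zpowers_v.2 ⟨w, hw, rfl⟩))
    simp only [List.mem_cons, List.not_mem_nil, or_false] at hc
    rcases hc with rfl | rfl | rfl
    · rw [F.v0]; exact one_mem _
    · exact hpW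
    · rw [← F.v_inv]; exact inv_mem hpW
  by_cases hrW : F.v r ∈ W
  · have hJW : F.J ≤ W := by
      rintro _ ⟨t, rfl⟩
      obtain ⟨e, he, w, hw, rfl⟩ := hspan t
      rw [F.vmul]
      refine mul_mem ?_ hw
      simp only [List.mem_cons, List.not_mem_nil, or_false] at he
      rcases he with rfl | rfl | rfl
      · rw [F.v0]; exact one_mem _
      · exact hrW
      · rw [← F.v_inv]; exact inv_mem hrW
    have hgJ : g ∈ F.J := cent_J (F := F) ▸ mem_centralizer_iff.2 fun y hy => mem_centralizer_iff.1 hgW y (hJW hy)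
    exact Subgroup.le_normalizer hgJ
  obtain ⟨X, hXS, hXN, -⟩ := h.exists_quot hWJ hi0 hi hiW
  have hC := h.centralizer_quot hWJ hi0 hi hiW hXS hXN
  have hS : (X.S : Subgroup (CQ W)) = zpowers (img hWJ r) := by
    refine le_antisymm (fun q hq => ?_) (zpowers_le.2 ((hXS _).2 ⟨r, rfl⟩))
    obtain ⟨t, rfl⟩ := (hXS q).1 hq
    obtain ⟨e, he, w, hw, rfl⟩ := hspan t
    rw [img_add, (img_eq_one hWJ).2 hw, mul_one]
    simp only [List.mem_cons, List.not_mem_nil, or_false] at he
    rcases he with rfl | rfl | rfl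
    · rw [(img_eq_one hWJ (a := 0)).2 (by rw [F.v0]; exact one_mem _)]; exact one_mem _
    · exact mem_zpowers _
    · rw [img_neg]; exact inv_mem (mem_zpowers _)
  have hcard : Nat.card (X.S : Subgroup (CQ W)) = 3 := by
    rw [hS, Nat.card_zpowers, orderOf_eq_prime (img_cube hWJ r) fun e => hrW ((img_eq_one hWJ).1 e)]
  have h6 := X.card_le_six ⊤ (X.S : Subgroup (CQ W)) le_top hcard (by rw [top_inf_eq, hC])
  rw [card_top, ← card_mul_index (X.S : Subgroup (CQ W)), hcard, show (6 : ℕ) = 3 * 2 by rfl] at h6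
  have hnorm : (X.S : Subgroup (CQ W)).Normal := by
    rcases (Nat.dvd_prime Nat.prime_two).1 (Nat.dvd_of_mul_dvd_mul_left (by norm_num) h6) with hi' | hi'
    · rw [index_eq_one.1 hi']; infer_instance
    · exact normal_of_index_eq_two hi'
  exact (hXN ⟨g, hgW⟩).1 (by rw [normalizer_eq_top_iff.2 hnorm]; exact mem_top _)

variable {i : Fin 27} (hi0 : i ≠ 0) (hi : xType m i = false)

theorem exists_stab {g : G} (hg : g ∈ normalizer (F.J : Set G)) (hgi : g * F.v i = F.v i * g) :
    ∃ s k, inStab m i s k ∧ F.ActsAs g s k := by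
  obtain ⟨s, k, hs, hsk⟩ := h.exists_act hg
  exact ⟨s, k, ⟨hs, F.vinj ((actsAs_act hsk i).symm.trans (by rw [hgi, mul_inv_cancel_right]))⟩, hsk⟩

theorem exists_lift {s : Fin 8} {k : Fin 6} (hsk : inStab m i s k) :
    ∃ c : centralizer ((zpowers (F.v i) : Subgroup G) : Set G),
      (c : G) ∈ normalizer (F.J : Set G) ∧ F.ActsAs (c : G) s k := by
  obtain ⟨n, hn, ha⟩ := h.exists_of_act hsk.1 k
  refine ⟨⟨n, mem_cent_zpowers ?_⟩, hn, ha⟩
  have h1 := actsAs_act ha i
  rw [hsk.2] at h1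
  exact mul_inv_eq_iff_eq_mul.1 h1

include hi0 hi in
theorem stab_of_cent_img (hh : m ≠ 3 ∨ heavy i) {l : Fin 27} (hl : l ∉ mult i)
    {c : centralizer ((zpowers (F.v i) : Subgroup G) : Set G)}
    (hc : QuotientGroup.mk' _ c * img (zpowers_v_le i) l = img (zpowers_v_le i) l * QuotientGroup.mk' _ c) :
    (c : G) ∈ normalizer (F.J : Set G) ∧ ∃ s k, inStab m i s k ∧ act s k l = l ∧ F.ActsAs (c : G) s k := by
  rw [img, ← map_mul, ← map_mul, QuotientGroup.mk'_apply, QuotientGroup.mk'_apply, eq_comm, QuotientGroup.eq,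
    mem_subgroupOf] at hc
  simp only [Subgroup.coe_mul, InvMemClass.coe_inv] at hc
  obtain ⟨w, hw, hwe⟩ := mem_zpowers_v.1 hc
  have hcw : (c : G) * F.v w = F.v w * (c : G) := by
    obtain hm := mem_zpowers_v (F := F).2 ⟨w, hw, rfl⟩
    exact (mem_centralizer_iff.1 c.2 _ hm).symm
  have h1 : (c : G) * F.v l * (c : G)⁻¹ = F.v (vAdd l w) := by
    rw [F.vmul]
    calc (c : G) * F.v l * (c : G)⁻¹
        = F.v l * ((c : G) * ((F.v l * (c : G))⁻¹ * ((c : G) * F.v l)) * (c : G)⁻¹) := by group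
      _ = F.v l * F.v w := by rw [hwe, hcw, mul_inv_cancel_right]
  obtain ⟨n, hn, hnW, hnl⟩ := exists_normalizer_conj (F := F) (W := {F.v i})
    (by simp [F.v_mem i]) (g := (c : G)) (by simpa using comm_v_of_mem c) h1
  obtain ⟨s, k, hst, hsk⟩ := h.exists_stab hn (hnW _ rfl)
  have h2 : act s k l = vAdd l w := F.vinj ((actsAs_act hsk l).symm.trans hnl)
  obtain rfl := stab_rigid m i hi0 hi hh s k hst l w hw h2
  rw [(code_facts.1 l).1] at h1
  have hcl := mul_inv_eq_iff_eq_mul.1 h1
  have hcN := h.cent_pair hi0 hi hl (comm_v_of_mem c) hcl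
  obtain ⟨s', k', hst', hsk'⟩ := h.exists_stab hcN (comm_v_of_mem c)
  exact ⟨hcN, s', k', hst', F.vinj ((actsAs_act hsk' l).symm.trans h1), hsk'⟩

include hi0 hi in
/-- The centralizer of an element with a small stabiliser lies in the normalizer of `J`. -/
theorem cent_le_of_small (hh : m ≠ 3 ∨ heavy i) {g : G} (hgi : g * F.v i = F.v i * g) :
    g ∈ normalizer (F.J : Set G) := by
  haveI : Fact (Nat.Prime 3) := ⟨Nat.prime_three⟩
  set hWJ := zpowers_v_le (F := F) i
  obtain ⟨X, hXS, hXN, hXc⟩ := h.exists_quot hWJ hi0 hi (mem_zpowers _)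
  rw [card_zpowers_v hi0] at hXc
  have hC := h.centralizer_quot hWJ hi0 hi (mem_zpowers _) hXS hXN
  suffices htop : normalizer ((X.S : Subgroup (CQ (zpowers (F.v i)))) : Set (CQ (zpowers (F.v i)))) = ⊤ from
    (hXN ⟨g, mem_cent_zpowers hgi⟩).1 (htop ▸ mem_top _)
  have hnot : ∀ {a}, img hWJ a ≠ 1 → a ∉ mult i := fun {a} ha hm =>
    ha ((img_eq_one hWJ).2 (mem_zpowers_v.2 ⟨a, hm, rfl⟩))
  have hne : ∀ {a}, a ∉ mult i → img hWJ a ≠ 1 := fun {a} ha e => by
    obtain ⟨w, hw, e'⟩ := mem_zpowers_v.1 ((img_eq_one hWJ).1 e)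
    exact ha (F.vinj e' ▸ hw)
  have hord : ∀ {a}, a ∉ mult i → orderOf (img hWJ a) = 3 := fun {a} ha =>
    orderOf_eq_prime (img_cube hWJ a) (hne ha)
  have htriv : ∀ {c : centralizer ((zpowers (F.v i) : Subgroup G) : Set G)},
      F.ActsAs (c : G) 0 0 → QuotientGroup.mk' _ c ∈ (X.S : Subgroup (CQ (zpowers (F.v i)))) := fun {c} hc => by
    obtain ⟨a, ha⟩ := mem_J_of_act hc
    exact (hXS _).2 ⟨a, congrArg _ (Subtype.ext ha.symm)⟩
  have hN : ∀ q ∈ normalizer ((X.S : Subgroup (CQ (zpowers (F.v i)))) : Set (CQ (zpowers (F.v i)))),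
      ∃ s k, inStab m i s k ∧ (∀ a, q * img hWJ a * q⁻¹ = img hWJ (act s k a)) ∧
        (s = 0 ∧ k = 0 → q ∈ (X.S : Subgroup (CQ (zpowers (F.v i))))) := by
    intro q hq
    obtain ⟨c, rfl⟩ := QuotientGroup.mk'_surjective _ q
    obtain ⟨s, k, hst, hsk⟩ := h.exists_stab ((hXN c).1 hq) (comm_v_of_mem c)
    exact ⟨s, k, hst, conj_img hWJ hsk, fun e => htriv (by rw [e.1, e.2] at hsk; exact hsk)⟩
  have hlift : ∀ {s k}, inStab m i s k →
      ∃ q ∈ normalizer ((X.S : Subgroup (CQ (zpowers (F.v i)))) : Set (CQ (zpowers (F.v i)))),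
        ∀ a, q * img hWJ a * q⁻¹ = img hWJ (act s k a) := fun {s k} hsk => by
    obtain ⟨c, hcN, hc⟩ := h.exists_lift hsk
    exact ⟨_, (hXN c).2 hcN, conj_img hWJ hc⟩
  have hcentN : ∀ {l}, l ∉ mult i → ∀ q ∈ centralizer ({img hWJ l} : Set (CQ (zpowers (F.v i)))),
      q ∈ normalizer ((X.S : Subgroup (CQ (zpowers (F.v i)))) : Set (CQ (zpowers (F.v i)))) ∧
      ∃ s k, inStab m i s k ∧ act s k l = l ∧ (∀ a, q * img hWJ a * q⁻¹ = img hWJ (act s k a)) ∧
        (s = 0 ∧ k = 0 → q ∈ (X.S : Subgroup (CQ (zpowers (F.v i))))) := by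
    intro l hl q hq
    obtain ⟨c, rfl⟩ := QuotientGroup.mk'_surjective _ q
    obtain ⟨hcN, s, k, hst, hfix, hsk⟩ :=
      h.stab_of_cent_img hi0 hi hh hl (mem_centralizer_singleton_iff.1 hq)
    exact ⟨(hXN c).2 hcN, s, k, hst, hfix, conj_img hWJ hsk, fun e => htriv (by rw [e.1, e.2] at hsk; exact hsk)⟩
  have hlc : ∀ {l}, l ∉ mult i → (∀ s k, inStab m i s k → act s k l = l → s = 0 ∧ k = 0) →
      centralizer ({img hWJ l} : Set (CQ (zpowers (F.v i)))) ≤ (X.S : Subgroup (CQ (zpowers (F.v i)))) := by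
    intro l hl hfix q hq
    obtain ⟨-, s, k, hst, hf, -, hq'⟩ := hcentN hl q hq
    exact hq' (hfix s k hst hf)
  rcases stab_cases m i hi0 hi hh with hT | hR | hM | hK
  · have hcen : normalizer ((X.S : Subgroup (CQ (zpowers (F.v i)))) : Set (CQ (zpowers (F.v i)))) ≤
        centralizer ((X.S : Subgroup (CQ (zpowers (F.v i)))) : Set (CQ (zpowers (F.v i)))) := fun q hq => by
      obtain ⟨s, k, hst, -, hq'⟩ := hN q hq
      rw [hC]
      exact hq' (hT s k hst)
    have hS := X.eq_top_of_central hcen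
    exact eq_top_iff.2 (hS ▸ Subgroup.le_normalizer)
  · obtain ⟨s, k, l, e, hst, hne0, hall, hl, hlm, he, hbasis⟩ := hR
    obtain ⟨t, htN, ht⟩ := hlift hst
    have hflip : act s k l ≠ l := fun e1 => by
      rw [hl] at e1
      have key : ∀ y : Fin 27, vSmul 2 y = y → y = 0 := by decide +kernel
      exact hlm (by rw [key l e1]; simp [mult])
    refine X.normal_of_reflection htN (fun q hq => ?_) hC ((hXS _).2 ⟨l, rfl⟩) (hord hlm) ?_ ?_ ?_ ?_
    · obtain ⟨s', k', hst', hq', hq''⟩ := hN q hq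
      rcases hall s' k' hst' with e1 | ⟨e1, e2⟩
      · exact Or.inl (hC.symm ▸ hq'' e1)
      · refine Or.inr (mem_centralizer_iff.2 fun z hz => ?_)
        obtain ⟨a, rfl⟩ := (hXS z).1 hz
        have h2 := ht a
        rw [← e1, ← e2, ← hq' a] at h2
        rw [eq_comm, ← mul_inv_eq_iff_eq_mul]
        calc t⁻¹ * q * img hWJ a * (t⁻¹ * q)⁻¹ = t⁻¹ * (q * img hWJ a * q⁻¹) * t := by group
          _ = img hWJ a := by rw [← h2]; group
    · rw [ht, hl, img_neg]
    · intro z hz
      obtain ⟨a, rfl⟩ := (hXS z).1 hz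
      obtain ⟨e', he', c, hc, w, hw, rfl⟩ := hbasis a
      refine ⟨img hWJ e', (hXS _).2 ⟨e', rfl⟩, ?_, ?_⟩
      · simp only [List.mem_cons, List.not_mem_nil, or_false] at he'
        rw [ht]
        rcases he' with rfl | rfl | rfl
        · have key : ∀ s k, act s k 0 = 0 := by decide +kernel
          rw [key]
        · rw [he]
        · have key : ∀ s k y, act s k (vSmul 2 y) = vSmul 2 (act s k y) := by decide +kernel
          rw [key, he]
      · rw [img_mult hw, img_add]
        simp only [List.mem_cons, List.not_mem_nil, or_false] at hc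
        rcases hc with rfl | rfl | rfl
        · exact ⟨0, by rw [pow_zero, (img_eq_one hWJ (a := 0)).2 (by rw [F.v0]; exact one_mem _)]⟩
        · exact ⟨1, by rw [pow_one]⟩
        · refine ⟨2, ?_⟩
          rw [img_neg, mul_right_inj, inv_eq_iff_mul_eq_one, ← pow_succ', img_cube]
    · refine inf_le_left.trans (hlc hlm fun s' k' hst' hf => ?_)
      rcases hall s' k' hst' with e1 | ⟨rfl, rfl⟩
      · exact e1
      · exact absurd hf hflip
    · exact fun q hq => (hcentN hlm q hq).1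
  · obtain ⟨s, k, hst, hne0, hall, hinv⟩ := hM
    obtain ⟨t, htN, ht⟩ := hlift hst
    have hinv' : ∀ a, img hWJ (act s k a) = (img hWJ a)⁻¹ := fun a => by
      obtain ⟨w, hw, e⟩ := hinv a
      rw [e, img_mult hw, img_neg]
    refine X.normal_of_inversion (fun hcyc => ?_) htN (fun q hq => ?_) hC ?_ ?_
    · obtain ⟨z, hz⟩ := hcyc.exists_generator
      have h1 : orderOf z = 9 := by rw [orderOf_eq_card_of_forall_mem_zpowers hz]; omega
      obtain ⟨a, ha⟩ := (hXS _).1 z.2
      have h2 : orderOf z ∣ 3 := orderOf_dvd_of_pow_eq_one (Subtype.ext (by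
        simp only [SubmonoidClass.coe_pow, OneMemClass.coe_one, ha, img_cube]))
      rw [h1] at h2
      exact absurd h2 (by decide)
    · obtain ⟨s', k', hst', hq', hq''⟩ := hN q hq
      rcases hall s' k' hst' with e1 | ⟨e1, e2⟩
      · exact Or.inl (hC.symm ▸ hq'' e1)
      · refine Or.inr (mem_centralizer_iff.2 fun z hz => ?_)
        obtain ⟨a, rfl⟩ := (hXS z).1 hz
        have h2 := ht a
        rw [← e1, ← e2, ← hq' a] at h2
        rw [eq_comm, ← mul_inv_eq_iff_eq_mul]
        calc t⁻¹ * q * img hWJ a * (t⁻¹ * q)⁻¹ = t⁻¹ * (q * img hWJ a * q⁻¹) * t := by group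
          _ = img hWJ a := by rw [← h2]; group
    · intro z hz
      obtain ⟨a, rfl⟩ := (hXS z).1 hz
      rw [ht, hinv']
    · intro z hz hz1
      obtain ⟨a, rfl⟩ := (hXS z).1 hz
      refine hlc (hnot hz1) fun s' k' hst' hf => ?_
      rcases hall s' k' hst' with e1 | ⟨rfl, rfl⟩
      · exact e1
      · exfalso
        have e := hinv' a
        rw [hf] at e
        refine hz1 ?_
        have h3 := img_cube hWJ a
        rw [pow_succ, pow_two] at h3
        nth_rewrite 2 [e] at h3
        rwa [mul_inv_cancel, one_mul] at h3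
  · obtain ⟨a, e, ham, hem, hall, ⟨s₁, k₁, hst₁, ha₁, he₁⟩, ⟨s₂, k₂, hst₂, ha₂, he₂⟩,
      ⟨s₀, k₀, hst₀, ha₀, he₀, hinv⟩⟩ := hK
    obtain ⟨z, hzN, hz⟩ := hlift hst₀
    obtain ⟨r₁, hr₁N, hr₁⟩ := hlift hst₁
    obtain ⟨r₂, hr₂N, hr₂⟩ := hlift hst₂
    let L : Recog.NineSC.Loose (CQ (zpowers (F.v i))) :=
      { S := X.S
        card_S := by omega
        cube := fun q hq => by obtain ⟨b, rfl⟩ := (hXS q).1 hq; exact img_cube hWJ b
        comm := fun {p q} hp hq => X.comm p hp q hq
        cent_le := fun q hq hq1 y hy => by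
          obtain ⟨b, rfl⟩ := (hXS q).1 hq
          exact (hcentN (hnot hq1) y hy).1 }
    have hneg : ∀ y : Fin 27, vSmul 2 y = y → y = 0 := by decide +kernel
    have hem' : e ∉ mult i := fun hm => hem 0 (by simp) e hm ((code_facts.1 e).2.1).symm
    have hem'' : ∀ c ∈ [(0 : Fin 27), a, vSmul 2 a], img hWJ e ≠ img hWJ c := by
      intro c hc heq
      have h1 : img hWJ (vAdd e (vSmul 2 c)) = 1 := by rw [img_add, img_neg, heq, mul_inv_cancel]
      obtain ⟨w, hw, hw'⟩ := mem_zpowers_v.1 ((img_eq_one hWJ).1 h1)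
      refine hem c hc w hw ?_
      rw [← F.vinj hw']
      have key : ∀ e c : Fin 27, e = vAdd c (vAdd e (vSmul 2 c)) := by decide +kernel
      exact key e c
    have haem : vAdd a e ∉ mult i := by
      intro hm
      refine hem (vSmul 2 a) (by simp) (vAdd a e) hm ?_
      have key : ∀ a e : Fin 27, e = vAdd (vSmul 2 a) (vAdd a e) := by decide +kernel
      exact key a e
    have hcard18 : ∀ {b : Fin 27} {r : CQ (zpowers (F.v i))} {s k}, b ∉ mult i →
        r ∈ normalizer ((X.S : Subgroup (CQ (zpowers (F.v i)))) : Set (CQ (zpowers (F.v i)))) →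
        (∀ y, r * img hWJ y * r⁻¹ = img hWJ (act s k y)) → act s k b = b →
        (∃ y, img hWJ (act s k y) ≠ img hWJ y) →
        (∀ s' k', inStab m i s' k' → act s' k' b = b → s' = 0 ∧ k' = 0 ∨ s' = s ∧ k' = k) →
        Nat.card (centralizer ({img hWJ b} : Set (CQ (zpowers (F.v i))))) = 18 := by
      intro b r s k hb hrN hr hrb hry hfix
      have hSC : (X.S : Subgroup (CQ (zpowers (F.v i)))) ≤ centralizer ({img hWJ b} : Set _) := fun q hq =>
        mem_centralizer_singleton_iff.2 (X.comm q hq _ ((hXS _).2 ⟨b, rfl⟩))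
      have hrC : r ∈ centralizer ({img hWJ b} : Set (CQ (zpowers (F.v i)))) := by
        have h1 := hr b
        rw [hrb] at h1
        exact mem_centralizer_singleton_iff.2 (mul_inv_eq_iff_eq_mul.1 h1)
      have hidx : (X.S : Subgroup (CQ (zpowers (F.v i)))).relIndex (centralizer ({img hWJ b} : Set _)) = 2 := by
        rw [relIndex, index_eq_two_iff_exists_notMem_and]
        refine ⟨⟨r⁻¹, inv_mem hrC⟩, fun hrS => ?_, fun q => ?_⟩
        · obtain ⟨y, hy⟩ := hry
          have hrS' : r ∈ (X.S : Subgroup (CQ (zpowers (F.v i)))) := inv_mem_iff.1 (mem_subgroupOf.1 hrS)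
          exact hy (by rw [← hr, X.comm _ hrS' _ ((hXS _).2 ⟨y, rfl⟩), mul_inv_cancel_right])
        · simp only [mem_subgroupOf, Subgroup.coe_mul]
          obtain ⟨-, s', k', hst', hf, hqa, hq'⟩ := hcentN hb q q.2
          rcases hfix s' k' hst' hf with e1 | ⟨e1, e2⟩
          · exact Or.inr (hq' e1)
          · refine Or.inl ?_
            have h3 : r⁻¹ * (q : CQ (zpowers (F.v i))) ∈ (X.S : Subgroup (CQ (zpowers (F.v i)))) := by
              rw [← hC]
              refine mem_centralizer_iff.2 fun w hw => ?_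
              obtain ⟨y, rfl⟩ := (hXS w).1 hw
              have h4 := hr y
              rw [← e1, ← e2, ← hqa y] at h4
              rw [eq_comm, ← mul_inv_eq_iff_eq_mul]
              calc r⁻¹ * q * img hWJ y * (r⁻¹ * q)⁻¹ = r⁻¹ * ((q : CQ (zpowers (F.v i))) * img hWJ y * (q : CQ (zpowers (F.v i)))⁻¹) * r := by group
                _ = img hWJ y := by rw [← h4]; group
            have := (mem_normalizer_iff.1 hrN _).1 h3
            rwa [show r * (r⁻¹ * (q : CQ (zpowers (F.v i)))) * r⁻¹ = (q : CQ (zpowers (F.v i))) * r⁻¹ by group] at this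
      have h2 : Nat.card (X.S : Subgroup (CQ (zpowers (F.v i)))) *
          (X.S : Subgroup (CQ (zpowers (F.v i)))).relIndex (centralizer ({img hWJ b} : Set _)) =
          Nat.card (centralizer ({img hWJ b} : Set (CQ (zpowers (F.v i))))) := by
        rw [← relIndex_bot_left (H := (X.S : Subgroup (CQ (zpowers (F.v i))))),
          relIndex_mul_relIndex _ _ _ bot_le hSC, relIndex_bot_left]
      rw [hidx] at h2
      omega
    have hnfix : ∀ {y : Fin 27} {s k}, y ∉ mult i → act s k y = vSmul 2 y → img hWJ (act s k y) ≠ img hWJ y := by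
      intro y s k hy hf heq
      rw [hf, img_neg] at heq
      refine hne hy ?_
      have h3 := img_cube hWJ y
      rw [pow_succ, pow_two] at h3
      nth_rewrite 2 [← heq] at h3
      rwa [mul_inv_cancel, one_mul] at h3
    have hca := hcard18 ham hr₁N hr₁ ha₁ ⟨e, hnfix hem' he₁⟩ fun s k hst hf => by
      obtain ⟨-, hce, hid, -, huniq⟩ := hall s k hst
      rcases hce with h' | h'
      · exact Or.inl (hid hf h')
      · refine Or.inr ?_
        exact huniq _ _ hst₁ (hf.trans ha₁.symm) (h'.trans he₁.symm)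
    have hce := hcard18 hem' hr₂N hr₂ he₂ ⟨a, hnfix ham ha₂⟩ fun s k hst hf => by
      obtain ⟨hca', -, hid, -, huniq⟩ := hall s k hst
      rcases hca' with h' | h'
      · exact Or.inl (hid h' hf)
      · refine Or.inr ?_
        exact huniq _ _ hst₂ (h'.trans ha₂.symm) (hf.trans he₂.symm)
    have hcb : Nat.card (centralizer ({img hWJ a * img hWJ e} : Set (CQ (zpowers (F.v i))))) = 9 := by
      rw [← img_add]
      have hle := hlc haem fun s k hst hf => by
        exact (hall s k hst).2.2.2.1 hf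
      rw [show centralizer ({img hWJ (vAdd a e)} : Set (CQ (zpowers (F.v i)))) =
        (X.S : Subgroup (CQ (zpowers (F.v i)))) from le_antisymm hle fun q hq =>
          mem_centralizer_singleton_iff.2 (X.comm q hq _ ((hXS _).2 ⟨_, rfl⟩))]
      omega
    have h36 : 36 ≤ Nat.card L.N := by
      have hlt : Nat.card (centralizer ({img hWJ a} : Set (CQ (zpowers (F.v i))))) <
          Nat.card (normalizer ((X.S : Subgroup (CQ (zpowers (F.v i)))) : Set (CQ (zpowers (F.v i))))) := by
        refine Nat.lt_of_le_of_ne (card_le_of_le fun q hq => (hcentN ham q hq).1) fun heq => ?_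
        have h1 := eq_of_le_of_card_ge (fun q hq => (hcentN ham q hq).1) heq.ge
        have h2 : r₂ ∈ centralizer ({img hWJ a} : Set (CQ (zpowers (F.v i)))) := by rw [h1]; exact hr₂N
        have h3 := hr₂ a
        rw [mem_centralizer_singleton_iff.1 h2, mul_inv_cancel_right] at h3
        exact hnfix ham ha₂ h3.symm
      have hdvd : Nat.card (centralizer ({img hWJ a} : Set (CQ (zpowers (F.v i))))) ∣
          Nat.card (normalizer ((X.S : Subgroup (CQ (zpowers (F.v i)))) : Set (CQ (zpowers (F.v i))))) :=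
        card_dvd_of_le fun q hq => (hcentN ham q hq).1
      rw [hca] at hlt hdvd
      obtain ⟨d, hd⟩ := hdvd
      show 36 ≤ Nat.card (normalizer ((X.S : Subgroup (CQ (zpowers (F.v i)))) : Set (CQ (zpowers (F.v i)))))
      omega
    refine Sig.normal_of_klein L (a := img hWJ a) (e := img hWJ e) (z := z) (r₁ := r₁) (r₂ := r₂)
      ((hXS _).2 ⟨a, rfl⟩) (hne ham) ((hXS _).2 ⟨e, rfl⟩) ?_ ?_ ?_ ?_ ?_ ?_ ?_ hca hce hcb h36
    · intro hmem
      obtain ⟨d, hd⟩ := hmem
      have h3 : img hWJ a ^ (3 : ℤ) = 1 := by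
        rw [show (3 : ℤ) = ((3 : ℕ) : ℤ) from rfl, zpow_natCast, img_cube]
      have e1 : img hWJ a ^ d = img hWJ a ^ (d % 3) := by
        conv_lhs => rw [← Int.emod_add_mul_ediv d 3]
        rw [zpow_add, zpow_mul, h3, one_zpow, mul_one]
      have hd' : img hWJ a ^ (d % 3) = img hWJ e := e1.symm.trans hd
      rcases (show d % 3 = 0 ∨ d % 3 = 1 ∨ d % 3 = 2 by omega) with h' | h' | h' <;> rw [h'] at hd'
      · refine hem'' 0 (by simp) ?_
        rw [← hd', zpow_zero, (img_eq_one hWJ (a := 0)).2 (by rw [F.v0]; exact one_mem _)]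
      · exact hem'' a (by simp) (by rw [← hd', zpow_one])
      · refine hem'' (vSmul 2 a) (by simp) ?_
        rw [← hd', img_neg]
        refine eq_inv_of_mul_eq_one_left ?_
        rw [← zpow_add_one, show (2 : ℤ) + 1 = 3 by norm_num, h3]
    · intro q hq
      obtain ⟨y, rfl⟩ := (hXS q).1 hq
      obtain ⟨w, hw, hy⟩ := hinv y
      rw [hz, hy, img_mult hw, img_neg]
    · rw [hr₁, ha₁]
    · rw [hr₁, he₁, img_neg]
    · rw [hr₂, ha₂, img_neg]
    · rw [hr₂, he₂]
    · intro q hq
      obtain ⟨s, k, hst, hqa, -⟩ := hN q hq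
      obtain ⟨h1, h2, -⟩ := hall s k hst
      rw [hqa, hqa]
      exact ⟨h1.imp (fun e => by rw [e]) (fun e => by rw [e, img_neg]),
        h2.imp (fun e => by rw [e]) (fun e => by rw [e, img_neg])⟩

end IsCase

end Frame

end Cfsg.Lib.SymNine
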