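import Cfsg.Agent.Lib.SymNine.Sigma
import Cfsg.Agent.Lib.SymNine.Embed

/-!
# All signs

The centralizer of an inversion of `J` in `N(J)` is a group of signed permutations; coordinates are chosen in which
it contains the permutations.
-/

set_option autoImplicit false
set_option maxHeartbeats 1600000
set_option maxRecDepth 100000
set_option linter.unusedSectionVars false
set_option linter.style.haveILetI false

namespace Cfsg.Lib.SymNine

open Subgroup

theorem full_facts :
    (∀ i, act 7 0 i = i → i = 0) ∧ (∀ i, act 7 0 (act 7 0 i) = i) ∧ signSets 3 7 = true ∧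
    (∀ s k i, act s k (act 7 0 i) = act 7 0 (act s k i)) ∧ (∀ s, signSets 3 s = true) ∧
    (∀ i, i ≠ 0 → ¬ heavy i → ∃ s k, act s k i = 1) ∧ (∀ k : Fin 6, kmul 0 k = k) ∧ sComp 0 0 0 = 0 := by
  refine ⟨?_, ?_, ?_, ?_, ?_, ?_, ?_, ?_⟩ <;> decide +kernel

namespace Frame

variable {G : Type*} [Group G] [Finite G] {F : Frame G}

/-- An inversion of `J` centralising the permutations, with all signs present. -/
structure Full (F : Frame G) where
  /-- All signs are present. -/
  isCase : F.IsCase 3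
  /-- The inversion. -/
  inv : G
  inv_sq : inv * inv = 1
  inv_act : F.ActsAs inv 7 0
  inv_p : ∀ k, F.p k * inv = inv * F.p k

theorem exists_full (h : F.IsCase 3) : ∃ F' : Frame G, F'.J = F.J ∧ Nonempty F'.Full := by
  have hid : F.ActsAs (1 : G) 0 0 := fun i => by
    show _ = F.v (act 0 0 i)
    rw [act_facts.1]; group
  have c0 : ∀ i, act 0 0 i = i := act_facts.1
  obtain ⟨ι, -, hιa, -, hιι⟩ := h.exists_inv_lift (one_mul 1) hid full_facts.2.2.1
    (fun i => by rw [c0, c0]) full_facts.2.1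
  have hex : ∀ k, ∃ n ∈ normalizer (F.J : Set G), F.ActsAs n 0 k ∧ n * ι = ι * n := fun k =>
    h.exists_commuting_lift hιι hιa (full_facts.2.2.2.2.1 0) (full_facts.2.2.2.1 0 k)
  choose p hpN hpa hpι using hex
  have huniq : ∀ {n n' : G} {s : Fin 8} {k : Fin 6}, F.ActsAs n s k → F.ActsAs n' s k → n * ι = ι * n →
      n' * ι = ι * n' → n = n' := by
    intro n n' s k h1 h2 h3 h4
    obtain ⟨i, hi⟩ := inv_mul_mem_J h1 h2
    have h5 : F.v i * ι = ι * F.v i := by
      rw [hi]
      exact ((show Commute n ι from h3).inv_left.mul_left (show Commute n' ι from h4)).eq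
    rw [full_facts.1 i ((comm_v_iff hιa i).1 h5), F.v0] at hi
    exact inv_mul_eq_one.1 hi.symm
  have hp0 : p 0 = 1 := huniq (hpa 0) hid (hpι 0) (by rw [one_mul, mul_one])
  have hold : ∀ k, ∃ c, F.p k = F.v c * p k := fun k => by
    obtain ⟨c, hc⟩ := inv_mul_mem_J (F.actsAs_p k) (hpa k)
    obtain ⟨c', hc'⟩ := (mem_normalizer_iff.1 (F.p_mem_normalizer k) _).1 (F.v_mem c)
    refine ⟨vSmul 2 c', ?_⟩
    have e1 : p k = F.p k * F.v c := by rw [hc]; group
    have e2 : p k = F.v c' * F.p k := by rw [e1, hc']; group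
    rw [e2, ← F.v_inv, inv_mul_cancel_left]
  let F' : Frame G := {
    v := F.v
    p := p
    vinj := F.vinj
    vmul := F.vmul
    pmul := fun k l => by
      have key : ∀ k, sComp 0 k 0 = 0 := by decide +kernel
      refine huniq (hpa _) ?_ (hpι _) ?_
      · have := (hpa k).comp (hpa l)
        rwa [key] at this
      · exact ((show Commute (p k) ι from hpι k).mul_left (show Commute (p l) ι from hpι l)).eq
    pv := fun k i => by
      have key : ∀ k i, act 0 k i = lap (lperm k) i := by decide +kernel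
      rw [← key, ← actsAs_act (hpa k)]
      group
    free := fun i k e => by
      have h1 := (F.actsAs_v i).comp (hpa k)
      rw [e] at h1
      obtain ⟨-, h2⟩ := F.actsAs_unique hid h1
      rw [full_facts.2.2.2.2.2.2.1] at h2
      subst h2
      rw [hp0, mul_one, F.v_eq_one] at e
      exact ⟨e, rfl⟩
    cent := fun g => by
      rw [F.cent]
      constructor
      · rintro ⟨i, k, rfl⟩
        obtain ⟨c, hc⟩ := hold k
        exact ⟨vAdd i c, k, by rw [F.vmul, hc, mul_assoc]⟩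
      · rintro ⟨i, k, rfl⟩
        obtain ⟨c, hc⟩ := hold k
        refine ⟨vAdd i (vSmul 2 c), k, ?_⟩
        rw [F.vmul, ← F.v_inv, hc]
        group
    sig := F.sig }
  exact ⟨F', rfl, ⟨{
    isCase := ⟨h.mono, h.sign⟩
    inv := ι
    inv_sq := hιι
    inv_act := hιa
    inv_p := hpι }⟩⟩

namespace Full

variable (D : F.Full)

theorem sign_true (s : Fin 8) : signSets 3 s = true := full_facts.2.2.2.2.1 s

/-- The element centralising the inversion with the given action. -/
noncomputable def w (s : Fin 8) (k : Fin 6) : G :=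
  (D.isCase.exists_commuting_lift D.inv_sq D.inv_act (sign_true s) (full_facts.2.2.2.1 s k)).choose

theorem w_spec (s : Fin 8) (k : Fin 6) :
    D.w s k ∈ normalizer (F.J : Set G) ∧ F.ActsAs (D.w s k) s k ∧ D.w s k * D.inv = D.inv * D.w s k :=
  (D.isCase.exists_commuting_lift D.inv_sq D.inv_act (sign_true s) (full_facts.2.2.2.1 s k)).choose_spec

theorem w_eq {g : G} {s : Fin 8} {k : Fin 6} (hg : F.ActsAs g s k) (hgi : g * D.inv = D.inv * g) :
    g = D.w s k := by
  obtain ⟨-, h2, h3⟩ := D.w_spec s k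
  obtain ⟨i, hi⟩ := inv_mul_mem_J hg h2
  have h5 : F.v i * D.inv = D.inv * F.v i := by
    rw [hi]
    exact ((show Commute g D.inv from hgi).inv_left.mul_left (show Commute (D.w s k) D.inv from h3)).eq
  rw [full_facts.1 i ((comm_v_iff D.inv_act i).1 h5), F.v0] at hi
  exact inv_mul_eq_one.1 hi.symm

theorem w_mul (s t : Fin 8) (k l : Fin 6) : D.w s k * D.w t l = D.w (sComp s k t) (kmul k l) :=
  D.w_eq ((D.w_spec s k).2.1.comp (D.w_spec t l).2.1)
    ((show Commute (D.w s k) D.inv from (D.w_spec s k).2.2).mul_left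
      (show Commute (D.w t l) D.inv from (D.w_spec t l).2.2)).eq

theorem w_p (k : Fin 6) : D.w 0 k = F.p k := (D.w_eq (F.actsAs_p k) (D.inv_p k)).symm

theorem w_one : D.w 0 0 = 1 := by rw [w_p, F.p0]

theorem w_inv : D.w 7 0 = D.inv := (D.w_eq D.inv_act rfl).symm

theorem exists_eq {g : G} (hg : g ∈ normalizer (F.J : Set G)) :
    ∃ i s k, g = F.v i * D.w s k ∧ F.ActsAs g s k := by
  obtain ⟨s, k, -, hsk⟩ := D.isCase.exists_act hg
  obtain ⟨-, hwa, -⟩ := D.w_spec s k
  have h1 := inv_mul_mem_J hwa hsk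
  have h2 := (mem_normalizer_iff.1 (D.w_spec s k).1 _).1 h1
  rw [show D.w s k * ((D.w s k)⁻¹ * g) * (D.w s k)⁻¹ = g * (D.w s k)⁻¹ by group] at h2
  obtain ⟨i, hi⟩ := h2
  exact ⟨i, s, k, by rw [hi]; group, hsk⟩

theorem w_ne_one {s : Fin 8} {k : Fin 6} (h : ¬ (s = 0 ∧ k = 0)) : D.w s k ≠ 1 := fun e => h (by
  have h1 := (D.w_spec s k).2.1
  rw [e, ← D.w_one] at h1
  exact F.actsAs_unique h1 (D.w_spec 0 0).2.1)

theorem w_sq {s : Fin 8} {k : Fin 6} (hs : sComp s k s = 0) (hk : kmul k k = 0) : D.w s k * D.w s k = 1 := by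
  rw [w_mul, hs, hk, w_one]

include D in
/-- The centralizers of the elements of weight at least two lie in the normalizer. -/
theorem cent_heavy {y : Fin 27} (hy : y ≠ 0) (hh : heavy y) {g : G} (hg : g * F.v y = F.v y * g) :
    g ∈ normalizer (F.J : Set G) := by
  by_cases hx : xType 3 y = true
  · obtain ⟨n, hn, hn'⟩ := D.isCase.conj_x_cases hx
    have hc : n * g * n⁻¹ ∈ centralizer ({F.x} : Set G) := by
      refine mem_centralizer_singleton_iff.2 ?_
      have h1 : n * g * n⁻¹ * (n * F.v y * n⁻¹) = n * F.v y * n⁻¹ * (n * g * n⁻¹) := by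
        rw [conj_mul, conj_mul, hg]
      rcases hn' with e | e <;> rw [e] at h1
      · exact h1
      · exact Commute.inv_right_iff.1 (show Commute (n * g * n⁻¹) F.x⁻¹ from h1)
    have h2 := mul_mem (mul_mem (inv_mem hn) (cent_x_le hc)) hn
    rwa [show n⁻¹ * (n * g * n⁻¹) * n = g by group] at h2
  · exact D.isCase.cent_le_of_small hy (by simpa using hx) (Or.inr hh) hg

include D in
theorem smallCent_of_one (h1 : ∀ g, g * F.v 1 = F.v 1 * g → g ∈ normalizer (F.J : Set G)) : F.SmallCent := by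
  intro y hy g hg
  by_cases hh : heavy y
  · exact D.cent_heavy hy hh hg
  · obtain ⟨s, k, e⟩ := full_facts.2.2.2.2.2.1 y hy hh
    obtain ⟨hn, hna, -⟩ := D.w_spec s k
    have h2 : (D.w s k * g * (D.w s k)⁻¹) * F.v 1 = F.v 1 * (D.w s k * g * (D.w s k)⁻¹) := by
      rw [← e, ← actsAs_act hna y, conj_mul, conj_mul, hg]
    have h3 := mul_mem (mul_mem (inv_mem hn) (h1 _ h2)) hn
    rwa [show (D.w s k)⁻¹ * (D.w s k * g * (D.w s k)⁻¹) * D.w s k = g by group] at h3

end Full

/-- A 3-element of `N(J)` is conjugate there into the Sylow subgroup. -/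
theorem exists_conj_mem_P {z : G} (hz : z ∈ normalizer (F.J : Set G)) {e : ℕ} (he : z ^ 3 ^ e = 1) :
    ∃ n ∈ normalizer (F.J : Set G), n * z * n⁻¹ ∈ F.P := by
  haveI : Fact (Nat.Prime 3) := ⟨Nat.prime_three⟩
  set N := normalizer (F.J : Set G)
  obtain ⟨S, hS⟩ := F.exists_sylow
  have hPN : F.P ≤ N := fun y hy => cent_x_le (P_le_cent hy)
  let SN : Sylow 3 N := S.subtype (hS ▸ hPN)
  have hp : IsPGroup 3 (zpowers (⟨z, hz⟩ : N)) := by
    rintro ⟨y, i, rfl⟩
    exact ⟨e, Subtype.ext (by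
      show ((⟨z, hz⟩ : N) ^ i) ^ 3 ^ e = 1
      rw [← zpow_natCast, ← zpow_mul, mul_comm, zpow_mul, zpow_natCast,
        show (⟨z, hz⟩ : N) ^ 3 ^ e = 1 from Subtype.ext (by simpa using he), one_zpow])⟩
  obtain ⟨Q, hQ⟩ := hp.exists_le_sylow
  obtain ⟨c, hc⟩ := MulAction.exists_smul_eq N Q SN
  refine ⟨c, c.2, ?_⟩
  rw [← hS]
  have h1 : c * ⟨z, hz⟩ * c⁻¹ ∈ (SN : Subgroup N) := by
    rw [← hc, Sylow.coe_subgroup_smul, mem_pointwise_smul_iff_inv_smul_mem]
    simpa [MulAut.smul_def, mul_assoc] using hQ (mem_zpowers _)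
  exact h1

end Frame

end Cfsg.Lib.SymNine
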