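import Cfsg.Agent.S3331
import Cfsg.Agent.Lib.SmithTyrer.Reduction
import Cfsg.Agent.Lib.Recog.NineSC.KleinMain
import Cfsg.Agent.Lib.Fusion.Abelian
import Cfsg.Agent.Lib.Linear.PSLSmall

/-!
# An abelian Sylow 3-subgroup normalising no nontrivial subgroup of order prime to three

Four cases in which it is normal: no inertia, a reflection, an inversion, and the four-group generated by two
reflections.
-/

set_option autoImplicit false
set_option linter.style.haveILetI false
set_option linter.unusedSectionVars false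
set_option maxHeartbeats 1600000

namespace Cfsg.Lib.SymNine

open Cfsg Subgroup
open scoped IsMulCommutative

universe u

/-- An abelian Sylow 3-subgroup normalising no nontrivial subgroup of order prime to three. -/
structure Sig (Y : Type u) [Group Y] where
  /-- The Sylow subgroup. -/
  S : Sylow 3 Y
  comm : ∀ a ∈ (S : Subgroup Y), ∀ b ∈ (S : Subgroup Y), a * b = b * a
  none : ∀ K : Subgroup Y, (Nat.card K).Coprime 3 →
    (∀ s ∈ (S : Subgroup Y), K.map (MulAut.conj s).toMonoidHom = K) → K = ⊥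

namespace Sig

variable {Y : Type u} [Group Y] [Finite Y] (X : Sig Y)

theorem isMulCommutative : IsMulCommutative (X.S : Subgroup Y) :=
  ⟨⟨fun a b => Subtype.ext (X.comm a a.2 b b.2)⟩⟩

theorem map_normal {K : Subgroup Y} [hK : K.Normal] (s : Y) : K.map (MulAut.conj s).toMonoidHom = K := by
  ext y
  constructor
  · rintro ⟨k, hk, rfl⟩
    exact hK.conj_mem k hk s
  · intro hy
    exact ⟨s⁻¹ * y * s, by simpa using hK.conj_mem y hy s⁻¹, by simp [mul_assoc]⟩

include X in
theorem normal_eq_bot (K : Subgroup Y) [K.Normal] (h : (Nat.card K).Coprime 3) : K = ⊥ :=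
  X.none K h fun s _ => map_normal s

/-- No inertia. -/
theorem eq_top_of_central (h : normalizer ((X.S : Subgroup Y) : Set Y) ≤
    centralizer ((X.S : Subgroup Y) : Set Y)) : (X.S : Subgroup Y) = ⊤ := by
  haveI : Fact (Nat.Prime 3) := ⟨Nat.prime_three⟩
  have hker := X.normal_eq_bot (MonoidHom.transferSylow X.S h).ker
    ((Nat.Prime.coprime_iff_not_dvd Nat.prime_three).2
      (MonoidHom.not_dvd_card_ker_transferSylow X.S h)).symm
  have hc := MonoidHom.ker_transferSylow_isComplement' X.S h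
  rw [hker] at hc
  exact isComplement'_bot_left.1 hc

include X in
/-- A normal subgroup contains no Sylow subgroup for another prime whose number is prime to three. -/
theorem not_dvd_of_sylow (K : Subgroup Y) [K.Normal] {q : ℕ} [Fact q.Prime] (hq : q ≠ 3)
    (hcard : ∀ Q : Sylow q K, ¬ 3 ∣ Nat.card (Sylow q K)) : ¬ q ∣ Nat.card K := by
  haveI : Fact (Nat.Prime 3) := ⟨Nat.prime_three⟩
  intro hdvd
  obtain ⟨Q⟩ : Nonempty (Sylow q K) := inferInstance
  let φ : ↥(X.S : Subgroup Y) →* MulAut K := (MulAut.conjNormal).comp (X.S : Subgroup Y).subtype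
  letI : MulDistribMulAction ↥(X.S : Subgroup Y) K := MulDistribMulAction.compHom K φ
  have hfix : (MulAction.fixedPoints ↥(X.S : Subgroup Y) (Sylow q K)).Nonempty := by
    refine IsPGroup.nonempty_fixed_point_of_prime_not_dvd_card X.S.isPGroup' (Sylow q K) ?_
    exact hcard Q
  obtain ⟨Q', hQ'⟩ := hfix
  have hne : ((Q' : Subgroup K).map K.subtype) = ⊥ := by
    refine X.none _ ?_ fun s hs => ?_
    · rw [card_map_of_injective K.subtype_injective]
      obtain ⟨k, hk⟩ := Q'.isPGroup'.exists_card_eq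
      rw [hk]
      exact ((Nat.coprime_primes (Fact.out : q.Prime) Nat.prime_three).2 hq).pow_left k
    · have h1 : (⟨s, hs⟩ : ↥(X.S : Subgroup Y)) • Q' = Q' := hQ' ⟨s, hs⟩
      conv_rhs => rw [← h1]
      ext y
      constructor
      · rintro ⟨_, ⟨k, hk, rfl⟩, rfl⟩
        refine ⟨φ ⟨s, hs⟩ k, ?_, ?_⟩
        · show φ ⟨s, hs⟩ k ∈ ((⟨s, hs⟩ : ↥(X.S : Subgroup Y)) • Q' : Sylow q K)
          exact ⟨k, hk, rfl⟩
        · simp [φ, MulAut.conjNormal_apply]
      · rintro ⟨_, ⟨k, hk, rfl⟩, rfl⟩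
        refine ⟨K.subtype k, ⟨k, hk, rfl⟩, ?_⟩
        show s * (k : Y) * s⁻¹ = (φ ⟨s, hs⟩ k : Y)
        simp [φ, MulAut.conjNormal_apply]
  rw [map_eq_bot_iff_of_injective _ K.subtype_injective] at hne
  exact Q'.ne_bot_of_dvd_card hdvd hne

end Sig

theorem alt5_two : ∃ V : Subgroup (alternatingGroup (Fin 5)), Nat.card V = 4 ∧
    12 ≤ Nat.card (normalizer (V : Set (alternatingGroup (Fin 5)))) ∧
    3 ∣ Nat.card (normalizer (V : Set (alternatingGroup (Fin 5)))) := by
  classical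
  let V : Subgroup (alternatingGroup (Fin 5)) :=
    { carrier := {σ | (σ : Equiv.Perm (Fin 5)) 4 = 4 ∧ σ * σ = 1}
      one_mem' := ⟨rfl, one_mul 1⟩
      mul_mem' := by
        have key : ∀ σ τ : alternatingGroup (Fin 5), ((σ : Equiv.Perm (Fin 5)) 4 = 4 ∧ σ * σ = 1) →
            ((τ : Equiv.Perm (Fin 5)) 4 = 4 ∧ τ * τ = 1) →
            ((σ * τ : alternatingGroup (Fin 5)) : Equiv.Perm (Fin 5)) 4 = 4 ∧ σ * τ * (σ * τ) = 1 := by
          decide +kernel
        exact fun {σ τ} h h' => key σ τ h h'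
      inv_mem' := fun {σ} h => by
        have e : σ⁻¹ = σ := inv_eq_of_mul_eq_one_right h.2
        rw [e]; exact h }
  have key : ∀ s v : alternatingGroup (Fin 5), (s : Equiv.Perm (Fin 5)) 4 = 4 →
      ((v : Equiv.Perm (Fin 5)) 4 = 4 ∧ v * v = 1 ↔
        (((s * v * s⁻¹ : alternatingGroup (Fin 5))) : Equiv.Perm (Fin 5)) 4 = 4 ∧
          s * v * s⁻¹ * (s * v * s⁻¹) = 1) := by decide +kernel
  refine ⟨V, ?_, ?_, ?_⟩
  · have e : (Finset.univ.filter fun σ : alternatingGroup (Fin 5) =>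
        (σ : Equiv.Perm (Fin 5)) 4 = 4 ∧ σ * σ = 1).card = 4 := by decide +kernel
    rw [← e, ← Fintype.card_subtype, ← Nat.card_eq_fintype_card]
    exact Nat.card_congr (Equiv.subtypeEquivRight fun _ => Iff.rfl)
  · have e : (Finset.univ.filter fun σ : alternatingGroup (Fin 5) => (σ : Equiv.Perm (Fin 5)) 4 = 4).card = 12 := by
      decide +kernel
    rw [← e, ← Fintype.card_subtype, ← Nat.card_eq_fintype_card]
    refine Nat.card_le_card_of_injective (fun σ => (⟨σ.1, ?_⟩ : normalizer (V : Set (alternatingGroup (Fin 5)))))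
      fun a b h => Subtype.ext (congrArg (fun w : normalizer (V : Set (alternatingGroup (Fin 5))) => w.1) h)
    exact mem_normalizer_iff.2 fun v => key σ.1 v σ.2
  · let w : alternatingGroup (Fin 5) := ⟨Equiv.swap 0 1 * Equiv.swap 1 2, by
      rw [Equiv.Perm.mem_alternatingGroup, map_mul, Equiv.Perm.sign_swap (by decide), Equiv.Perm.sign_swap (by decide)]
      rfl⟩
    have hw : (w : Equiv.Perm (Fin 5)) 4 = 4 := by decide +kernel
    have h3 : orderOf (⟨w, mem_normalizer_iff.2 fun v => key w v hw⟩ :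
        normalizer (V : Set (alternatingGroup (Fin 5)))) = 3 := by
      rw [orderOf_mk]
      exact orderOf_eq_prime (by decide +kernel) (by decide +kernel)
    exact h3 ▸ orderOf_dvd_natCard _

theorem sylow_two_alt5 {K : Type u} [Group K] [Finite K] (e : K ≃* alternatingGroup (Fin 5))
    (Q : Sylow 2 K) : ¬ 3 ∣ Nat.card (Sylow 2 K) := by
  haveI : Fact (Nat.Prime 2) := ⟨Nat.prime_two⟩
  obtain ⟨V, hV, hN, hN3⟩ := alt5_two
  have h60 : Nat.card (alternatingGroup (Fin 5)) = 60 := by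
    rw [nat_card_alternatingGroup, Nat.card_fin]; rfl
  have hP : Nat.card V = 2 ^ (Nat.card (alternatingGroup (Fin 5))).factorization 2 := by
    rw [hV, h60, show (60 : ℕ) = 2 ^ 2 * 15 from rfl, Nat.factorization_mul (by norm_num) (by norm_num),
      Finsupp.add_apply, Nat.Prime.factorization_pow Nat.prime_two, Finsupp.single_eq_same,
      Nat.factorization_eq_zero_of_not_dvd (show ¬ 2 ∣ 15 by norm_num)]
    rfl
  have hdiv : Nat.card (Sylow 2 (alternatingGroup (Fin 5))) ∣ 5 := by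
    have h := card_mul_index (normalizer (V : Set (alternatingGroup (Fin 5))))
    rw [h60] at h
    have hV4 := (Sylow.ofCard V hP).card_eq_index_normalizer
    rw [hV4, show (normalizer ((Sylow.ofCard V hP : Sylow 2 _) : Set (alternatingGroup (Fin 5)))) =
      normalizer (V : Set (alternatingGroup (Fin 5))) from rfl]
    set i := (normalizer (V : Set (alternatingGroup (Fin 5)))).index
    have hi : i ∣ Nat.card (alternatingGroup (Fin 5)) := index_dvd_card _
    have hodd := (Sylow.ofCard V hP).not_dvd_index'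
    have hi2 : ¬ 2 ∣ i := by
      intro h2
      have hle : V ≤ normalizer (V : Set (alternatingGroup (Fin 5))) := Subgroup.le_normalizer
      have := Sylow.not_dvd_index (Sylow.ofCard V hP)
      exact this (h2.trans (index_dvd_of_le hle))
    have hle5 : i ≤ 5 := by nlinarith
    rw [h60] at hi
    have hi0 : i ≠ 0 := fun h0 => by rw [h0] at hi; norm_num at hi
    obtain ⟨c, hc⟩ := hN3
    interval_cases i <;> first | omega | (norm_num at hi) | (norm_num at hi hi2 ⊢)
  have hcongr : Nat.card (Sylow 2 K) = Nat.card (Sylow 2 (alternatingGroup (Fin 5))) := by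
    rw [Q.card_eq_index_normalizer,
      (Q.mapSurjective (f := e.toMonoidHom) e.surjective).card_eq_index_normalizer]
    rw [← index_map_of_bijective (f := e.toMonoidHom) e.bijective]
    refine congrArg index ?_
    exact map_equiv_normalizer_eq _ e
  rw [hcongr]
  exact fun h => absurd (h.trans hdiv) (by norm_num)

theorem sylow_seven_psl {K : Type u} [Group K] [Finite K]
    (e : K ≃* Matrix.ProjectiveSpecialLinearGroup (Fin 2) (ZMod 7)) (Q : Sylow 7 K) :
    7 ∣ Nat.card K ∧ ¬ 3 ∣ Nat.card (Sylow 7 K) := by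
  haveI : Fact (Nat.Prime 7) := ⟨by norm_num⟩
  have hcard : Nat.card K = 168 := by
    rw [Nat.card_congr e.toEquiv]
    have h := Cfsg.Lib.Linear.Two.card_PSL_two (F := ZMod 7)
    rw [ZMod.card] at h
    norm_num [show Nat.gcd 2 (7 - 1) = 2 by rfl, -Nat.card_eq_fintype_card] at h
    omega
  refine ⟨by rw [hcard]; norm_num, ?_⟩
  have h1 := card_sylow_modEq_one 7 K
  have h2 : Nat.card (Sylow 7 K) ∣ (Q : Subgroup K).index := Q.card_dvd_index
  have h3 : (Q : Subgroup K).index ∣ 24 := by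
    have hQ := Q.card_eq_multiplicity
    rw [hcard, show (168 : ℕ) = 7 ^ 1 * 24 from rfl, Nat.factorization_mul (by norm_num) (by norm_num),
      Finsupp.add_apply, Nat.Prime.factorization_pow (Fact.out : Nat.Prime 7), Finsupp.single_eq_same,
      Nat.factorization_eq_zero_of_not_dvd (show ¬ 7 ∣ 24 by norm_num)] at hQ
    have := card_mul_index (Q : Subgroup K)
    rw [hQ, hcard] at this
    norm_num at this
    rw [show (Q : Subgroup K).index = 24 by omega]
  have hle := Nat.le_of_dvd (by norm_num) (h2.trans h3)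
  intro hd
  have h4 := h2.trans h3
  unfold Nat.ModEq at h1
  interval_cases (Nat.card (Sylow 7 K)) <;> omega

namespace Sig

variable {Y : Type u} [Group Y] [Finite Y] (X : Sig Y)

theorem mem_S_of_three {K : Subgroup Y} [K.Normal] {w : Y} (hw : w ∈ K) (h3 : ∃ n, w ^ 3 ^ n = 1) :
    ∃ g : Y, g * w * g⁻¹ ∈ (X.S : Subgroup Y) ∧ g * w * g⁻¹ ∈ K := by
  haveI : Fact (Nat.Prime 3) := ⟨Nat.prime_three⟩
  obtain ⟨n, hn⟩ := h3
  have hp : IsPGroup 3 (zpowers w) := by
    rintro ⟨y, i, rfl⟩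
    exact ⟨n, Subtype.ext (by
      show (w ^ i) ^ 3 ^ n = 1
      rw [← zpow_natCast, ← zpow_mul, mul_comm, zpow_mul, zpow_natCast, hn, one_zpow])⟩
  obtain ⟨R, hR⟩ := hp.exists_le_sylow
  obtain ⟨g, hg⟩ := MulAction.exists_smul_eq Y R X.S
  refine ⟨g, ?_, (inferInstance : K.Normal).conj_mem w hw g⟩
  rw [← hg, Sylow.coe_subgroup_smul, mem_pointwise_smul_iff_inv_smul_mem]
  simpa [MulAut.smul_def, mul_assoc] using hR (mem_zpowers w)

include X in
/-- A normal subgroup with a self-centralising part of order three is that part or twice it. -/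
theorem card_le_six (K : Subgroup Y) [K.Normal] (L : Subgroup Y) (hLK : L ≤ K) (hL : Nat.card L = 3)
    (hLc : K ⊓ centralizer (L : Set Y) = L) : Nat.card K ∣ 6 := by
  haveI : Fact (Nat.Prime 3) := ⟨Nat.prime_three⟩
  haveI : Fact (Nat.Prime 2) := ⟨Nat.prime_two⟩
  haveI : Fact (Nat.Prime 7) := ⟨by norm_num⟩
  have hLK' : Nat.card (L.subgroupOf K) = 3 := by
    rw [Nat.card_congr (subgroupOfEquivOfLe hLK).toEquiv, hL]
  have hC : centralizer ((L.subgroupOf K : Subgroup K) : Set K) = L.subgroupOf K := by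
    ext k
    rw [mem_centralizer_iff, mem_subgroupOf]
    constructor
    · intro h
      rw [← hLc]
      exact mem_inf.2 ⟨k.2, mem_centralizer_iff.2 fun l hl => congrArg Subtype.val (h ⟨l, hLK hl⟩ hl)⟩
    · intro hk l hl
      have h1 : (k : Y) ∈ K ⊓ centralizer (L : Set Y) := hLc.symm ▸ hk
      exact Subtype.ext (mem_centralizer_iff.1 (mem_inf.1 h1).2 l hl)
  have hodd : ∀ N : Subgroup K, N.Normal → (Nat.card N).Coprime 3 → N = ⊥ := by
    intro N hN hc
    have hle : N ≤ pPrimeCore 3 K := Core.le_pPrimeCore' hN hc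
    haveI : (pPrimeCore 3 K).Characteristic := Core.pPrimeCore_characteristic
    haveI : ((pPrimeCore 3 K).map K.subtype).Normal := inferInstance
    have h0 : (pPrimeCore 3 K).map K.subtype = ⊥ := X.normal_eq_bot _ (by
      rw [card_map_of_injective K.subtype_injective]; exact Core.pPrimeCore_coprime 3 K)
    rw [map_eq_bot_iff_of_injective _ K.subtype_injective] at h0
    exact le_bot_iff.1 (h0 ▸ hle)
  rcases Cfsg.Agent.S3331.result (L.subgroupOf K) hLK' hC with ⟨N, hN, -, hco, hq⟩ | ⟨N, hN, -, hexp, ⟨e⟩⟩ | ⟨⟨e⟩⟩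
  · have hb := hodd N hN hco
    subst hb
    have hcq : Nat.card (K ⧸ (⊥ : Subgroup K)) = Nat.card K :=
      Nat.card_congr QuotientGroup.quotientBot.toEquiv
    rcases hq with h | ⟨⟨e⟩⟩
    · rw [← hcq, h]; norm_num
    · rw [← hcq, Nat.card_congr e.toEquiv, Nat.card_perm, Nat.card_fin]; rfl
  · exfalso
    have hb : N = ⊥ := hodd N hN (by
      have hp : IsPGroup 2 N := fun n => ⟨1, Subtype.ext (hexp n n.2)⟩
      obtain ⟨j, hj⟩ := hp.exists_card_eq
      rw [hj]
      exact (show Nat.Coprime 2 3 by norm_num).pow_left j)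
    subst hb
    let e' : K ≃* alternatingGroup (Fin 5) := QuotientGroup.quotientBot.symm.trans e
    refine X.not_dvd_of_sylow K (q := 2) (by norm_num) (sylow_two_alt5 e') ?_
    rw [Nat.card_congr e'.toEquiv, nat_card_alternatingGroup, Nat.card_fin]
    norm_num [Nat.factorial]
  · exfalso
    obtain ⟨Q⟩ : Nonempty (Sylow 7 K) := inferInstance
    exact X.not_dvd_of_sylow K (q := 7) (by norm_num) (fun Q => (sylow_seven_psl e Q).2) (sylow_seven_psl e Q).1

/-- A reflection: it inverts one factor of order three and centralises the complement. -/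
theorem normal_of_reflection {τ : Y} (hτ : τ ∈ normalizer ((X.S : Subgroup Y) : Set Y))
    (hN : ∀ n ∈ normalizer ((X.S : Subgroup Y) : Set Y),
      n ∈ centralizer ((X.S : Subgroup Y) : Set Y) ∨ τ⁻¹ * n ∈ centralizer ((X.S : Subgroup Y) : Set Y))
    (hC : centralizer ((X.S : Subgroup Y) : Set Y) = (X.S : Subgroup Y))
    {l : Y} (hl : l ∈ (X.S : Subgroup Y)) (hl3 : orderOf l = 3) (hlinv : τ * l * τ⁻¹ = l⁻¹)
    (hdec : ∀ s ∈ (X.S : Subgroup Y), ∃ e ∈ (X.S : Subgroup Y), τ * e * τ⁻¹ = e ∧ ∃ i : ℕ, s = e * l ^ i)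
    (hlc : centralizer ({l} : Set Y) ⊓ normalizer ((X.S : Subgroup Y) : Set Y) ≤ (X.S : Subgroup Y))
    (hcl : centralizer ({l} : Set Y) ≤ normalizer ((X.S : Subgroup Y) : Set Y)) :
    normalizer ((X.S : Subgroup Y) : Set Y) = ⊤ := by
  classical
  haveI : Fact (Nat.Prime 3) := ⟨Nat.prime_three⟩
  haveI := X.isMulCommutative
  set S := (X.S : Subgroup Y) with hS
  set T : Y →* S := MonoidHom.transfer (MonoidHom.id S) with hT
  -- the transfer on fixed elements is a power
  have hfixpow : ∀ e ∈ S, τ * e * τ⁻¹ = e → ((T e : S) : Y) = e ^ S.index := by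
    intro e he hfix
    have key : ∀ (k : ℕ) (g₀ : Y), g₀⁻¹ * e ^ k * g₀ ∈ S → g₀⁻¹ * e ^ k * g₀ = e ^ k := by
      intro k g₀ hmem
      obtain ⟨n, hn, h⟩ := Fusion.exists_normalizer_conj_of_abelian X.S (pow_mem he k) (g := g₀⁻¹)
        (by rw [inv_inv]; exact hmem)
      rw [inv_inv] at h
      rw [← h]
      rcases hN n hn with hc | hc
      · rw [← mem_centralizer_iff.1 hc _ (pow_mem he k), mul_inv_cancel_right]
      · have h1 : (τ⁻¹ * n) * e ^ k * (τ⁻¹ * n)⁻¹ = e ^ k := by
          rw [← mem_centralizer_iff.1 hc _ (pow_mem he k), mul_inv_cancel_right]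
        calc n * e ^ k * n⁻¹ = τ * ((τ⁻¹ * n) * e ^ k * (τ⁻¹ * n)⁻¹) * τ⁻¹ := by group
          _ = (τ * e * τ⁻¹) ^ k := by rw [h1, conj_pow]
          _ = e ^ k := by rw [hfix]
    rw [hT, MonoidHom.transfer_eq_pow _ e key]
    rfl
  have hTl : T l = 1 := by
    have h1 : T (τ * l * τ⁻¹) = T l := by
      rw [map_mul, map_mul, map_inv, mul_comm (T τ), mul_inv_cancel_right]
    rw [hlinv, map_inv] at h1
    have h2 : T l * T l = 1 := by rw [← inv_eq_iff_mul_eq_one]; exact h1
    have h3 : T l ^ 3 = 1 := by rw [← map_pow, ← hl3, pow_orderOf_eq_one, map_one]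
    rw [pow_succ, pow_two, h2, one_mul] at h3
    exact h3
  have hS3 : ∀ a ∈ S, ∀ n : ℕ, a ^ n = 1 → ¬ 3 ∣ n → a = 1 := by
    intro a ha n hn hnd
    obtain ⟨j, hj⟩ := IsPGroup.iff_orderOf.1 X.S.isPGroup' ⟨a, ha⟩
    rw [orderOf_mk] at hj
    exact orderOf_eq_one_iff.1 (Nat.eq_one_of_dvd_coprimes
      (((Nat.Prime.coprime_iff_not_dvd Nat.prime_three).2 hnd).pow_left j) (hj ▸ dvd_rfl)
      (orderOf_dvd_of_pow_eq_one hn))
  set K := T.ker with hK
  set L := zpowers l with hL
  have hLK : L ≤ K := zpowers_le.2 hTl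
  have hLcard : Nat.card L = 3 := by rw [hL, Nat.card_zpowers, hl3]
  have hKS : ∀ s ∈ S, s ∈ K → s ∈ L := by
    intro s hs hsK
    obtain ⟨e, he, hef, i, rfl⟩ := hdec s hs
    have h1 : T e = 1 := by
      rw [MonoidHom.mem_ker, map_mul, map_pow, hTl, one_pow, mul_one] at hsK
      exact hsK
    have h2 := hfixpow e he hef
    rw [h1] at h2
    rw [hS3 e he _ h2.symm X.S.not_dvd_index, one_mul]
    exact pow_mem (mem_zpowers l) i
  have hLc : K ⊓ centralizer (L : Set Y) = L := by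
    refine le_antisymm (fun k hk => ?_) (le_inf hLK fun y hy => mem_centralizer_iff.2 fun z hz => ?_)
    · have hkl : k ∈ centralizer ({l} : Set Y) :=
        mem_centralizer_singleton_iff.2 (mem_centralizer_iff.1 hk.2 l (mem_zpowers l)).symm
      exact hKS k (hlc ⟨hkl, hcl hkl⟩) hk.1
    · exact X.comm z ((zpowers_le.2 hl) hz) y ((zpowers_le.2 hl) hy)
  have h6 := X.card_le_six K L hLK hLcard hLc
  -- the kernel and the Sylow subgroup together
  have hle : S ≤ S ⊔ K := le_sup_left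
  have hd1 : (S ⊔ K).index ∣ K.index := index_dvd_of_le le_sup_right
  have hd2 : ¬ 3 ∣ (S ⊔ K).index := fun h => X.S.not_dvd_index (h.trans (index_dvd_of_le hle))
  have hKidx : ∃ j, K.index = 3 ^ j := by
    obtain ⟨j, hj⟩ := (X.S.isPGroup'.to_subgroup T.range).exists_card_eq
    refine ⟨j, ?_⟩
    rw [hK, Subgroup.index_ker]
    exact hj
  obtain ⟨j, hj⟩ := hKidx
  have htop : S ⊔ K = ⊤ := by
    rw [← index_eq_one]
    exact Nat.eq_one_of_dvd_coprimes (((Nat.Prime.coprime_iff_not_dvd Nat.prime_three).2 hd2).pow_left j)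
      (hj ▸ hd1) dvd_rfl
  have hidx : S.index ∣ 2 := by
    have h1 : Nat.card ↥(S ⊔ K : Subgroup Y) ∣ Nat.card S * 2 := by
      have hprod : Nat.card ↥(S ⊔ K : Subgroup Y) * Nat.card ↥(S ⊓ K : Subgroup Y) = Nat.card S * Nat.card K := by
        have e1 : Nat.card K * K.relIndex (S ⊔ K) = Nat.card ↥(S ⊔ K : Subgroup Y) := by
          rw [← relIndex_bot_left (H := K), relIndex_mul_relIndex _ _ _ bot_le le_sup_right, relIndex_bot_left]
        have e2 : Nat.card ↥(S ⊓ K : Subgroup Y) * K.relIndex S = Nat.card S := by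
          rw [← inf_relIndex_left S K, ← relIndex_bot_left (H := (S ⊓ K : Subgroup Y)),
            relIndex_mul_relIndex _ _ _ bot_le inf_le_left, relIndex_bot_left]
        rw [← e1, ← e2, relIndex_sup_right]
        ring
      have hSK : S ⊓ K = L := le_antisymm (fun y hy => hKS y hy.1 hy.2) (le_inf ((zpowers_le).2 hl) hLK)
      rw [hSK, hLcard] at hprod
      obtain ⟨c, hc⟩ := h6
      refine ⟨c, Nat.eq_of_mul_eq_mul_left (show 0 < 3 by norm_num) ?_⟩
      rw [show 3 * (Nat.card S * 2) = Nat.card S * 6 by ring, hc,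
        show 3 * (Nat.card ↥(S ⊔ K : Subgroup Y) * c) = Nat.card ↥(S ⊔ K : Subgroup Y) * 3 * c by ring, hprod]
      ring
    rw [htop, card_top, ← card_mul_index S] at h1
    exact Nat.dvd_of_mul_dvd_mul_left Nat.card_pos h1
  rcases (Nat.dvd_prime Nat.prime_two).1 hidx with h | h
  · rw [index_eq_one] at h
    exact eq_top_iff.2 (h ▸ Subgroup.le_normalizer)
  · haveI := normal_of_index_eq_two h
    exact normalizer_eq_top_iff.2 inferInstance

/-- An inversion. -/
theorem normal_of_inversion (hcard : ¬ IsCyclic (X.S : Subgroup Y)) {τ : Y}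
    (hτ : τ ∈ normalizer ((X.S : Subgroup Y) : Set Y))
    (hN : ∀ n ∈ normalizer ((X.S : Subgroup Y) : Set Y),
      n ∈ centralizer ((X.S : Subgroup Y) : Set Y) ∨ τ⁻¹ * n ∈ centralizer ((X.S : Subgroup Y) : Set Y))
    (hC : centralizer ((X.S : Subgroup Y) : Set Y) = (X.S : Subgroup Y))
    (hinv : ∀ s ∈ (X.S : Subgroup Y), τ * s * τ⁻¹ = s⁻¹)
    (hcl : ∀ s ∈ (X.S : Subgroup Y), s ≠ 1 → centralizer ({s} : Set Y) ≤ (X.S : Subgroup Y)) :
    normalizer ((X.S : Subgroup Y) : Set Y) = ⊤ := by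
  classical
  haveI : Fact (Nat.Prime 3) := ⟨Nat.prime_three⟩
  haveI := X.isMulCommutative
  set S := (X.S : Subgroup Y) with hS
  have hτS : τ ∉ S := by
    intro h
    refine hcard ?_
    have h1 : S = ⊥ := eq_bot_iff.2 fun s hs => by
      have e := hinv s hs
      rw [X.comm τ h s hs, mul_inv_cancel_right] at e
      obtain ⟨j, hj⟩ := IsPGroup.iff_orderOf.1 X.S.isPGroup' ⟨s, hs⟩
      rw [orderOf_mk] at hj
      refine mem_bot.2 (orderOf_eq_one_iff.1 (Nat.eq_one_of_dvd_coprimes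
        ((show Nat.Coprime 3 2 by norm_num).pow_left j) (hj ▸ dvd_rfl) (orderOf_dvd_of_pow_eq_one ?_)))
      rw [pow_two]
      conv_lhs => arg 1; rw [e]
      exact inv_mul_cancel s
    rw [h1]
    exact isCyclic_of_subsingleton
  have hfree : Block.FreeAction X.S := fun v hv hv1 => by
    rw [hC]
    exact le_antisymm (inf_le_left.trans (hcl v hv hv1)) (le_inf (fun s hs =>
      mem_centralizer_singleton_iff.2 (X.comm s hs v hv)) Subgroup.le_normalizer)
  have hCN : (centralizer ((X.S : Subgroup Y) : Set Y)).relIndex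
      (normalizer ((X.S : Subgroup Y) : Set Y)) = 2 := by
    rw [relIndex, index_eq_two_iff_exists_notMem_and]
    refine ⟨⟨τ⁻¹, inv_mem hτ⟩, ?_, fun n => ?_⟩
    · rw [mem_subgroupOf, hC]
      exact fun h => hτS (inv_mem_iff.1 h)
    · simp only [mem_subgroupOf, Subgroup.coe_mul, ← hS, hC] at *
      rcases hN n n.2 with hn | hn
      · exact Or.inr hn
      · refine Or.inl ?_
        have h := (mem_normalizer_iff.1 hτ _).1 hn
        rwa [show τ * (τ⁻¹ * (n : Y)) * τ⁻¹ = (n : Y) * τ⁻¹ by group] at h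
  obtain ⟨K, hK, hSK, hKN⟩ := SmithTyrer.exists_normal (P := X.S) (by norm_num) hcard hfree hCN
  let SK : Sylow 3 K := X.S.subtype hSK
  have hcen : normalizer ((SK : Subgroup K) : Set K) ≤ centralizer ((SK : Subgroup K) : Set K) := by
    intro k hk
    have hk' : (k : Y) ∈ normalizer (S : Set Y) := by
      refine mem_normalizer_iff.2 fun y => ⟨fun hy => ?_, fun hy => ?_⟩
      · have := (mem_normalizer_iff.1 hk ⟨y, hSK hy⟩).1 hy
        exact this
      · have hyK : y ∈ K := by simpa [mul_assoc] using hK.conj_mem _ (hSK hy) (k : Y)⁻¹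
        exact (mem_normalizer_iff.1 hk ⟨y, hyK⟩).2 hy
    exact mem_centralizer_iff.2 fun y hy =>
      Subtype.ext (mem_centralizer_iff.1 (hKN ⟨k.2, hk'⟩) y hy)
  have hkerK := MonoidHom.ker_transferSylow_isComplement' SK hcen
  have hker : (MonoidHom.transferSylow SK hcen).ker.map K.subtype = ⊥ := by
    refine X.none _ ?_ fun s hs => ?_
    · rw [card_map_of_injective K.subtype_injective]
      exact ((Nat.Prime.coprime_iff_not_dvd Nat.prime_three).2
        (MonoidHom.not_dvd_card_ker_transferSylow SK hcen)).symm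
    · have hMn : (MonoidHom.transferSylow SK hcen).ker.Normal := MonoidHom.normal_ker _
      generalize (MonoidHom.transferSylow SK hcen).ker = M at hMn ⊢
      have hsK : s ∈ K := hSK hs
      ext y
      constructor
      · rintro ⟨_, ⟨m, hm, rfl⟩, rfl⟩
        refine Subgroup.mem_map.2 ⟨⟨s, hsK⟩ * m * ⟨s, hsK⟩⁻¹, hMn.conj_mem m hm _, ?_⟩
        simp only [Subgroup.coe_subtype, Subgroup.coe_mul, InvMemClass.coe_inv, MulEquiv.coe_toMonoidHom,
          MulAut.conj_apply]
      · rintro ⟨m, hm, rfl⟩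
        refine Subgroup.mem_map.2 ⟨s⁻¹ * (m : Y) * s, Subgroup.mem_map.2
          ⟨⟨s, hsK⟩⁻¹ * m * ⟨s, hsK⟩, ?_, ?_⟩, ?_⟩
        · have h := hMn.conj_mem m hm ⟨s, hsK⟩⁻¹
          rwa [inv_inv] at h
        · simp only [Subgroup.coe_subtype, Subgroup.coe_mul, InvMemClass.coe_inv]
        · simp only [MulEquiv.coe_toMonoidHom, MulAut.conj_apply, Subgroup.coe_subtype]
          group
  rw [map_eq_bot_iff_of_injective _ K.subtype_injective] at hker
  rw [hker, isComplement'_bot_left] at hkerK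
  have hSeq : K = S := le_antisymm (fun y hy => by
    have : (⟨y, hy⟩ : K) ∈ (SK : Subgroup K) := hkerK ▸ mem_top _
    exact this) hSK
  rw [← hSeq]
  exact normalizer_eq_top_iff.2 hK

/-- The four-group generated by two reflections. -/
theorem normal_of_klein (L : Recog.NineSC.Loose Y) {a e z r₁ r₂ : Y}
    (ha : a ∈ (L.S : Subgroup Y)) (ha1 : a ≠ 1) (he : e ∈ (L.S : Subgroup Y)) (hea : e ∉ Subgroup.zpowers a)
    (hz : ∀ s ∈ (L.S : Subgroup Y), z * s * z⁻¹ = s⁻¹)
    (hr₁a : r₁ * a * r₁⁻¹ = a) (hr₁e : r₁ * e * r₁⁻¹ = e⁻¹)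
    (hr₂a : r₂ * a * r₂⁻¹ = a⁻¹) (hr₂e : r₂ * e * r₂⁻¹ = e)
    (hact : ∀ n ∈ L.N, (n * a * n⁻¹ = a ∨ n * a * n⁻¹ = a⁻¹) ∧ (n * e * n⁻¹ = e ∨ n * e * n⁻¹ = e⁻¹))
    (hca : Nat.card (Subgroup.centralizer ({a} : Set Y)) = 18)
    (hce : Nat.card (Subgroup.centralizer ({e} : Set Y)) = 18)
    (hcb : Nat.card (Subgroup.centralizer ({a * e} : Set Y)) = 9) (hN : 36 ≤ Nat.card L.N) :
    normalizer ((L.S : Subgroup Y) : Set Y) = ⊤ := by
  refine eq_top_of_le_card _ ?_
  rw [L.card_eq_of_klein ha ha1 he hea hz hr₁a hr₁e hr₂a hr₂e hact hca hce hcb]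
  exact hN

end Sig

end Cfsg.Lib.SymNine
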