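import Cfsg.Agent.Lib.SymNine.Basic
import Cfsg.Agent.Lib.SymNine.Small

/-!
# Quotients by central subgroups

A quotient by a central subgroup keeps an abelian Sylow 3-subgroup free of invariant subgroups of order prime to
three. This is applied to the centralizer of a subgroup of `J`.
-/

set_option autoImplicit false
set_option maxHeartbeats 1600000
set_option linter.unusedSectionVars false
set_option linter.style.haveILetI false

namespace Cfsg.Lib.SymNine

open Subgroup

universe u

section Generic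

variable {Y : Type u} [Group Y] [Finite Y] {W : Subgroup Y} (hW : ∀ w ∈ W, ∀ y : Y, y * w = w * y)
  (S : Sylow 3 Y)

theorem mem_sylow_of_central {w : Y} (hc : ∀ y : Y, y * w = w * y) {n : ℕ} (hn : w ^ 3 ^ n = 1) :
    w ∈ (S : Subgroup Y) := by
  haveI : Fact (Nat.Prime 3) := ⟨Nat.prime_three⟩
  haveI : (zpowers w).Normal := ⟨fun a ha g => by
    obtain ⟨e, rfl⟩ := ha
    rw [(show Commute g w from hc g).zpow_right e, mul_inv_cancel_right]
    exact zpow_mem (mem_zpowers w) e⟩
  have hp : IsPGroup 3 (zpowers w) := by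
    rintro ⟨y, i, rfl⟩
    exact ⟨n, Subtype.ext (by
      show (w ^ i) ^ 3 ^ n = 1
      rw [← zpow_natCast, ← zpow_mul, mul_comm, zpow_mul, zpow_natCast, hn, one_zpow])⟩
  have he := S.is_maximal' (S.isPGroup'.to_sup_of_normal_right hp) le_sup_left
  rw [← he]
  exact le_sup_right (a := (S : Subgroup Y)) (mem_zpowers w)

include hW in
theorem mem_sylow_of_mk [W.Normal] {y : Y} {n : ℕ} (hn : y ^ 3 ^ n = 1)
    (hy : (QuotientGroup.mk' W y) ∈ (S : Subgroup Y).map (QuotientGroup.mk' W)) : y ∈ (S : Subgroup Y) := by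
  obtain ⟨t, ht, hty⟩ := hy
  obtain ⟨w, hw, rfl⟩ : ∃ w ∈ W, t * w = y := by
    rw [QuotientGroup.mk'_apply, QuotientGroup.mk'_apply, QuotientGroup.eq] at hty
    exact ⟨_, hty, by group⟩
  refine mul_mem ht ?_
  obtain ⟨e, he⟩ := S.isPGroup' ⟨t, ht⟩
  have ht' : t ^ 3 ^ e = 1 := congrArg Subtype.val he
  refine mem_sylow_of_central S (hW w hw) (n := e + n) ?_
  have h1 : ((t * w) ^ 3 ^ n) ^ 3 ^ e = 1 := by rw [hn, one_pow]
  rw [← pow_mul, (show Commute t w from hW w hw t).mul_pow, mul_comm (3 ^ n), pow_mul t, ht', one_pow,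
    one_mul] at h1
  rw [pow_add]
  exact h1

include hW in
theorem mk_mem_normalizer_iff [W.Normal] (g : Y) :
    QuotientGroup.mk' W g ∈ normalizer (((S : Subgroup Y).map (QuotientGroup.mk' W) : Subgroup (Y ⧸ W)) : Set (Y ⧸ W))
      ↔ g ∈ normalizer ((S : Subgroup Y) : Set Y) := by
  constructor
  · intro h
    refine Fusion.le_normalizer_of_conj_mem fun a ha => ?_
    obtain ⟨e, he⟩ := S.isPGroup' ⟨a, ha⟩
    refine mem_sylow_of_mk hW S (n := e) ?_ ?_
    · rw [conj_pow, show a ^ 3 ^ e = 1 from congrArg Subtype.val he, mul_one, mul_inv_cancel]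
    · rw [map_mul, map_mul, map_inv]
      exact (mem_normalizer_iff.1 h _).1 ⟨a, ha, rfl⟩
  · intro h
    refine Fusion.le_normalizer_of_conj_mem ?_
    rintro _ ⟨a, ha, rfl⟩
    exact ⟨g * a * g⁻¹, (mem_normalizer_iff.1 h _).1 ha, by simp⟩

include hW in
theorem exists_sig [W.Normal] (hcomm : ∀ a ∈ (S : Subgroup Y), ∀ b ∈ (S : Subgroup Y), a * b = b * a)
    (hsplit : IsPGroup 3 W ∨ (Nat.card W).Coprime 3)
    (hnone : ∀ K : Subgroup Y, (Nat.card K).Coprime 3 →
      (∀ s ∈ (S : Subgroup Y), K.map (MulAut.conj s).toMonoidHom = K) → K ≤ W) :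
    ∃ X : Sig (Y ⧸ W), (X.S : Subgroup (Y ⧸ W)) = (S : Subgroup Y).map (QuotientGroup.mk' W) := by
  haveI : Fact (Nat.Prime 3) := ⟨Nat.prime_three⟩
  let π := QuotientGroup.mk' W
  refine ⟨{
    S := S.mapSurjective (f := π) (QuotientGroup.mk'_surjective W)
    comm := by
      rintro _ ⟨a, ha, rfl⟩ _ ⟨b, hb, rfl⟩
      rw [← map_mul, ← map_mul, hcomm a ha b hb]
    none := fun K hK hinv => ?_ }, rfl⟩
  set L := K.comap π with hL
  have hWL : W ≤ L := fun w hw => by
    rw [hL, mem_comap, show π w = 1 from (QuotientGroup.eq_one_iff w).2 hw]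
    exact one_mem _
  have hconj : ∀ s ∈ (S : Subgroup Y), ∀ y ∈ L, s * y * s⁻¹ ∈ L := fun s hs y hy => by
    rw [hL, mem_comap, map_mul, map_mul, map_inv, ← hinv (π s) ⟨s, hs, rfl⟩]
    exact ⟨π y, hy, rfl⟩
  have hconj' : ∀ s ∈ (S : Subgroup Y), ∀ y ∈ L, s⁻¹ * y * s ∈ L := fun s hs y hy => by
    simpa using hconj s⁻¹ (inv_mem hs) y hy
  have hcardL : W.relIndex L = Nat.card K := by
    have e := Subgroup.relIndex_ker (K := L) π
    rw [QuotientGroup.ker_mk', hL, map_comap_eq_self_of_surjective (QuotientGroup.mk'_surjective W)] at e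
    exact e
  have hLW : L ≤ W := by
    rcases hsplit with hp | hc
    · set Wl := W.subgroupOf L with hWl
      have hWlp : IsPGroup 3 Wl := hp.of_equiv (subgroupOfEquivOfLe hWL).symm
      have hidx : ¬ 3 ∣ Wl.index := by
        rw [show Wl.index = W.relIndex L from rfl, hcardL]
        exact (Nat.Prime.coprime_iff_not_dvd Nat.prime_three).1 hK.symm
      let P : Sylow 3 L := hWlp.toSylow hidx
      have hPW : ∀ y ∈ (P : Subgroup L), (y : Y) ∈ W := fun y hy => hy
      have hcen : normalizer ((P : Subgroup L) : Set L) ≤ centralizer ((P : Subgroup L) : Set L) := fun y _ =>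
        mem_centralizer_iff.2 fun z hz => Subtype.ext (hW _ (hPW z hz) y).symm
      have hcop : (Nat.card (MonoidHom.transferSylow P hcen).ker).Coprime 3 :=
        ((Nat.Prime.coprime_iff_not_dvd Nat.prime_three).2
          (MonoidHom.not_dvd_card_ker_transferSylow P hcen)).symm
      have hker : (MonoidHom.transferSylow P hcen).ker.map L.subtype = ⊥ := by
        have hK' := hnone ((MonoidHom.transferSylow P hcen).ker.map L.subtype) (by
          rw [card_map_of_injective L.subtype_injective]; exact hcop) fun s hs => ?_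
        · refine eq_bot_iff.2 fun y hy => ?_
          obtain ⟨e, he⟩ := hp ⟨y, hK' hy⟩
          have he' : y ^ 3 ^ e = 1 := congrArg Subtype.val he
          have h1 : orderOf y ∣ Nat.card (MonoidHom.transferSylow P hcen).ker := by
            rw [← card_map_of_injective (K := (MonoidHom.transferSylow P hcen).ker) L.subtype_injective,
              ← orderOf_mk y hy]
            exact orderOf_dvd_natCard _
          exact mem_bot.2 (orderOf_eq_one_iff.1 (Nat.eq_one_of_dvd_coprimes (hcop.pow_right e) h1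
            (orderOf_dvd_of_pow_eq_one he')))
        · have key : ∀ s ∈ (S : Subgroup Y), ∀ y ∈ (MonoidHom.transferSylow P hcen).ker.map L.subtype,
              s * y * s⁻¹ ∈ (MonoidHom.transferSylow P hcen).ker.map L.subtype := by
            rintro s hs _ ⟨a, ha, rfl⟩
            refine ⟨⟨s * (a : Y) * s⁻¹, hconj s hs _ a.2⟩, ?_, rfl⟩
            set b : L := ⟨s * (a : Y) * s⁻¹, hconj s hs _ a.2⟩
            have hb : b ^ Nat.card (MonoidHom.transferSylow P hcen).ker = 1 := by
              refine Subtype.ext ?_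
              have h1 := congrArg (fun z : (MonoidHom.transferSylow P hcen).ker => ((z : L) : Y))
                (pow_card_eq_one' (x := (⟨a, ha⟩ : (MonoidHom.transferSylow P hcen).ker)))
              simp only [SubmonoidClass.coe_pow, OneMemClass.coe_one] at h1
              rw [SubmonoidClass.coe_pow, OneMemClass.coe_one]
              show (s * (a : Y) * s⁻¹) ^ _ = 1
              rw [conj_pow, h1, mul_one, mul_inv_cancel]
            obtain ⟨e, he⟩ := P.isPGroup' (MonoidHom.transferSylow P hcen b)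
            exact MonoidHom.mem_ker.2 (orderOf_eq_one_iff.1 (Nat.eq_one_of_dvd_coprimes (hcop.pow_right e)
              (orderOf_dvd_of_pow_eq_one (by rw [← map_pow, hb, map_one])) (orderOf_dvd_of_pow_eq_one he)))
          ext y
          constructor
          · rintro ⟨a, ha, rfl⟩; exact key s hs a ha
          · exact fun hy => ⟨s⁻¹ * y * s, by simpa using key s⁻¹ (inv_mem hs) y hy, by simp [mul_assoc]⟩
      rw [map_eq_bot_iff_of_injective _ L.subtype_injective] at hker
      have htop := MonoidHom.ker_transferSylow_isComplement' P hcen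
      rw [hker, isComplement'_bot_left] at htop
      intro y hy
      exact hPW ⟨y, hy⟩ (htop ▸ mem_top _)
    · refine hnone L ?_ fun s hs => ?_
      · have h : Nat.card W * W.relIndex L = Nat.card L := by
          rw [← relIndex_bot_left (H := W), relIndex_mul_relIndex _ _ _ bot_le hWL, relIndex_bot_left]
        rw [← h, hcardL]
        exact hc.mul_left hK
      · ext y
        constructor
        · rintro ⟨a, ha, rfl⟩; exact hconj s hs a ha
        · exact fun hy => ⟨s⁻¹ * y * s, hconj' s hs y hy, by simp [mul_assoc]⟩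
  refine eq_bot_iff.2 fun q hq => ?_
  obtain ⟨y, rfl⟩ := QuotientGroup.mk'_surjective W q
  exact mem_bot.2 ((QuotientGroup.eq_one_iff y).2 (hLW hq))

end Generic

namespace Frame

variable {G : Type*} [Group G] {F : Frame G}

theorem J_le_centralizer {W : Subgroup G} (hWJ : W ≤ F.J) : F.J ≤ centralizer (W : Set G) := by
  intro y hy
  refine mem_centralizer_iff.2 fun z hz => ?_
  obtain ⟨i, rfl⟩ := hy
  obtain ⟨j, rfl⟩ := hWJ hz
  exact (F.v_comm j i).eq

/-- The quotient of the centralizer of a subgroup by that subgroup. -/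
abbrev CQ (W : Subgroup G) : Type _ :=
  ↥(centralizer (W : Set G)) ⧸ W.subgroupOf (centralizer (W : Set G))

instance subgroupOf_centralizer_normal (W : Subgroup G) : (W.subgroupOf (centralizer (W : Set G))).Normal :=
  ⟨fun w hw g => by
    rw [mem_subgroupOf] at hw ⊢
    rw [Subgroup.coe_mul, Subgroup.coe_mul, InvMemClass.coe_inv,
      ← mem_centralizer_iff.1 g.2 _ hw, mul_inv_cancel_right]
    exact hw⟩

/-- The image in the quotient of a code. -/
def img {W : Subgroup G} (hWJ : W ≤ F.J) (a : Fin 27) : CQ W :=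
  QuotientGroup.mk' _ ⟨F.v a, J_le_centralizer hWJ (F.v_mem a)⟩

theorem img_add {W : Subgroup G} (hWJ : W ≤ F.J) (a b : Fin 27) :
    img hWJ (vAdd a b) = img hWJ a * img hWJ b := by
  rw [img, img, img, ← map_mul]
  exact congrArg _ (Subtype.ext (F.vmul a b))

theorem img_neg {W : Subgroup G} (hWJ : W ≤ F.J) (a : Fin 27) : img hWJ (vSmul 2 a) = (img hWJ a)⁻¹ := by
  rw [img, img, ← map_inv]
  exact congrArg _ (Subtype.ext (F.v_inv a).symm)

theorem img_cube {W : Subgroup G} (hWJ : W ≤ F.J) (a : Fin 27) : img hWJ a ^ 3 = 1 := by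
  rw [img, ← map_pow, show (⟨F.v a, J_le_centralizer hWJ (F.v_mem a)⟩ : centralizer (W : Set G)) ^ 3 = 1 from
    Subtype.ext (F.v_cube a), map_one]

theorem img_eq_one {W : Subgroup G} (hWJ : W ≤ F.J) {a : Fin 27} : img hWJ a = 1 ↔ F.v a ∈ W :=
  (QuotientGroup.eq_one_iff _).trans mem_subgroupOf

theorem conj_img {W : Subgroup G} (hWJ : W ≤ F.J) {c : centralizer (W : Set G)} {s : Fin 8} {k : Fin 6}
    (h : F.ActsAs (c : G) s k) (a : Fin 27) :
    QuotientGroup.mk' _ c * img hWJ a * (QuotientGroup.mk' _ c)⁻¹ = img hWJ (act s k a) := by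
  rw [img, img, ← map_inv, ← map_mul, ← map_mul]
  exact congrArg _ (Subtype.ext (h a))

variable [Finite G] {m : Fin 4}

namespace IsCase

variable (h : F.IsCase m)
include h

theorem exists_quot {W : Subgroup G} (hWJ : W ≤ F.J) {i : Fin 27} (hi0 : i ≠ 0) (hi : xType m i = false)
    (hiW : F.v i ∈ W) :
    ∃ X : Sig (CQ W), (∀ q, q ∈ (X.S : Subgroup (CQ W)) ↔ ∃ a, q = img hWJ a) ∧
      (∀ c, QuotientGroup.mk' _ c ∈ normalizer ((X.S : Subgroup (CQ W)) : Set (CQ W)) ↔
        (c : G) ∈ normalizer (F.J : Set G)) ∧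
      Nat.card (X.S : Subgroup (CQ W)) * Nat.card W = 27 := by
  haveI : Fact (Nat.Prime 3) := ⟨Nat.prime_three⟩
  set C := centralizer (W : Set G) with hC
  have hJC : F.J ≤ C := J_le_centralizer hWJ
  have hp : IsPGroup 3 F.J := IsPGroup.of_card (n := 3) (by rw [F.card_J]; rfl)
  obtain ⟨R, hR⟩ := (hp.of_equiv (subgroupOfEquivOfLe hJC).symm).exists_le_sylow
  have hRJ : (R : Subgroup C).map C.subtype = F.J := h.eq_J_of_le_cent hi0 hi (R.isPGroup'.map C.subtype)
    (fun a ha => ⟨⟨a, hJC ha⟩, hR ha, rfl⟩) (by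
      rintro _ ⟨r, -, rfl⟩; exact (mem_centralizer_iff.1 r.2 _ hiW).symm)
  have hmem : ∀ c : C, c ∈ (R : Subgroup C) ↔ (c : G) ∈ F.J := fun c =>
    ⟨fun hc => hRJ ▸ ⟨c, hc, rfl⟩, fun hc => hR (mem_subgroupOf.2 hc)⟩
  have hW' : ∀ w ∈ W.subgroupOf C, ∀ y : C, y * w = w * y := fun w hw y =>
    Subtype.ext (mem_centralizer_iff.1 y.2 _ hw).symm
  obtain ⟨X, hX⟩ := exists_sig hW' R
    (fun a ha b hb => Subtype.ext (by
      obtain ⟨i, hi⟩ := (hmem a).1 ha
      obtain ⟨j, hj⟩ := (hmem b).1 hb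
      rw [Subgroup.coe_mul, Subgroup.coe_mul, ← hi, ← hj, (F.v_comm i j).eq]))
    (Or.inl ((hp.to_le hWJ).of_equiv (subgroupOfEquivOfLe (hWJ.trans hJC)).symm))
    (fun K hK hinv y hy => by
      have hb := F.sig (K.map C.subtype) (by rw [card_map_of_injective C.subtype_injective]; exact hK)
        fun a => by
          conv_rhs => rw [← hinv ⟨F.v a, hJC (F.v_mem a)⟩ ((hmem _).2 (F.v_mem a))]
          rw [map_map, map_map]
          rfl
      rw [map_eq_bot_iff_of_injective _ C.subtype_injective] at hb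
      rw [hb, mem_bot] at hy
      rw [hy]
      exact one_mem _)
  refine ⟨X, fun q => ?_, fun c => ?_, ?_⟩
  · rw [hX]
    constructor
    · rintro ⟨c, hc, rfl⟩
      obtain ⟨a, ha⟩ := (hmem c).1 hc
      exact ⟨a, congrArg _ (Subtype.ext ha.symm)⟩
    · rintro ⟨a, rfl⟩
      exact ⟨_, (hmem _).2 (F.v_mem a), rfl⟩
  · rw [hX, mk_mem_normalizer_iff hW' R]
    constructor
    · intro hc
      refine Fusion.le_normalizer_of_conj_mem fun a ha => ?_
      exact (hmem _).1 ((mem_normalizer_iff.1 hc ⟨a, hJC ha⟩).1 ((hmem _).2 ha))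
    · intro hc
      exact Fusion.le_normalizer_of_conj_mem fun a ha => (hmem _).2
        ((mem_normalizer_iff.1 hc _).1 ((hmem a).1 ha))
  · rw [hX]
    have hR' : (R : Subgroup C) = F.J.subgroupOf C := Subgroup.ext hmem
    have h1 : (W.subgroupOf C).relIndex (F.J.subgroupOf C) = Nat.card ((R : Subgroup C).map (QuotientGroup.mk' (W.subgroupOf C))) := by
      conv_lhs => rw [show W.subgroupOf C = (QuotientGroup.mk' (W.subgroupOf C)).ker from
        (QuotientGroup.ker_mk' _).symm]
      rw [Subgroup.relIndex_ker, hR']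
    rw [← h1, relIndex_subgroupOf hJC, mul_comm, ← relIndex_bot_left (H := W),
      relIndex_mul_relIndex _ _ _ bot_le hWJ, relIndex_bot_left, F.card_J]

theorem centralizer_quot {W : Subgroup G} (hWJ : W ≤ F.J) {i : Fin 27} (hi0 : i ≠ 0) (hi : xType m i = false)
    (hiW : F.v i ∈ W) {X : Sig (CQ W)} (hXS : ∀ q, q ∈ (X.S : Subgroup (CQ W)) ↔ ∃ a, q = img hWJ a)
    (hXN : ∀ c, QuotientGroup.mk' _ c ∈ normalizer ((X.S : Subgroup (CQ W)) : Set (CQ W)) ↔
        (c : G) ∈ normalizer (F.J : Set G)) :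
    centralizer ((X.S : Subgroup (CQ W)) : Set (CQ W)) = (X.S : Subgroup (CQ W)) := by
  refine le_antisymm (fun q hq => ?_) fun q hq => mem_centralizer_iff.2 fun z hz => X.comm z hz q hq
  obtain ⟨c, rfl⟩ := QuotientGroup.mk'_surjective _ q
  have hN : (c : G) ∈ normalizer (F.J : Set G) := (hXN c).1 (Subgroup.centralizer_le_normalizer (s := ((X.S : Subgroup (CQ W)) : Set (CQ W))) hq)
  have hJ : (c : G) ∈ F.J := by
    refine h.act_trivial hi0 hi hN (mem_centralizer_iff.1 c.2 _ hiW).symm fun a => ?_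
    have hc := mem_centralizer_iff.1 hq (img hWJ a) ((hXS _).2 ⟨a, rfl⟩)
    rw [img, ← map_mul, ← map_mul, QuotientGroup.mk'_apply, QuotientGroup.mk'_apply, QuotientGroup.eq,
      mem_subgroupOf] at hc
    simp only [Subgroup.coe_mul, InvMemClass.coe_inv] at hc
    generalize hw : (F.v a * (c : G))⁻¹ * ((c : G) * F.v a) = w at hc
    have h1 : (c : G) * F.v a * (c : G)⁻¹ = F.v a * ((c : G) * w * (c : G)⁻¹) := by rw [← hw]; group
    have h2 : (c : G) * w * (c : G)⁻¹ = w := by
      rw [← mem_centralizer_iff.1 c.2 w hc, mul_inv_cancel_right]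
    rw [h2] at h1
    have h3 : (c : G) ^ 3 * F.v a * ((c : G) ^ 3)⁻¹ = F.v a * (w * w * w) := by
      calc (c : G) ^ 3 * F.v a * ((c : G) ^ 3)⁻¹
          = (c : G) * ((c : G) * ((c : G) * F.v a * (c : G)⁻¹) * (c : G)⁻¹) * (c : G)⁻¹ := by
            rw [pow_succ, pow_two]; group
        _ = (c : G) * ((c : G) * (F.v a * w) * (c : G)⁻¹) * (c : G)⁻¹ := by rw [h1]
        _ = (c : G) * ((c : G) * F.v a * (c : G)⁻¹ * ((c : G) * w * (c : G)⁻¹)) * (c : G)⁻¹ := by group
        _ = (c : G) * (F.v a * w * w) * (c : G)⁻¹ := by rw [h2, h1]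
        _ = (c : G) * F.v a * (c : G)⁻¹ * ((c : G) * w * (c : G)⁻¹) * ((c : G) * w * (c : G)⁻¹) := by group
        _ = F.v a * (w * w * w) := by rw [h2, h1]; group
    rw [← pow_two, ← pow_succ, F.J_cube (hWJ hc), mul_one] at h3
    exact mul_inv_eq_iff_eq_mul.1 h3
  obtain ⟨a, ha⟩ := hJ
  exact (hXS _).2 ⟨a, congrArg _ (Subtype.ext ha.symm)⟩

end IsCase

end Frame

end Cfsg.Lib.SymNine
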