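import Cfsg.Agent.Lib.SymNine.Frame

/-!
# The action of the normalizer of `J`

In suitable coordinates it acts by signed permutations, and the set of signs is one of four.
-/

set_option autoImplicit false
set_option maxHeartbeats 1600000

namespace Cfsg.Lib.SymNine

open Subgroup

theorem lap_facts :
    (∀ i, vAdd (vSmul (i.val / 9) 9) (vAdd (vSmul (i.val / 3 % 3) 3) (vSmul (i.val % 3) 1)) = i) ∧
    (∀ k i, lap (lcomp (lperm 0) (lperm k)) i = lap (lperm k) i) ∧
    (∀ k : ℕ, k < 3 → ∀ i : Fin 27, vSmul k i = if k = 0 then 0 else if k = 1 then i else vAdd i i) ∧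
    (∀ k i, lap (lperm 0) (lap (lperm k) i) = lap (lperm k) i) := by
  refine ⟨?_, ?_, ?_, ?_⟩ <;> decide +kernel

theorem lsgn_facts :
    (∀ s k, ∀ t : Fin 3, ∀ i, lap (lcomp (lcomp (phi t) (lsgn s k)) (phiInv t)) i =
      lap (phi t) (lap (lsgn s k) (lap (phiInv t) i))) ∧
    (∀ s k i, lap (lsgn s k) i = lap (ldiag s) (lap (lperm k) i)) ∧
    (∀ s k t l, lcomp (lsgn s k) (lsgn t l) =
      lsgn (Fin.ofNat 8 (s.val ^^^ ((if t.val.testBit 2 then 2 ^ (2 - (bperm k 0).val) else 0) +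
        (if t.val.testBit 1 then 2 ^ (2 - (bperm k 1).val) else 0) +
        (if t.val.testBit 0 then 2 ^ (2 - (bperm k 2).val) else 0)))) (kmul k l)) ∧
    (∀ s k t l, lsgn s k = lsgn t l → s = t ∧ k = l) ∧
    (∀ k, lsgn 0 k = lperm k) ∧
    (∀ s k, lap (lsgn s k) one1 = one1 → s = 0) := by
  refine ⟨?_, ?_, ?_, ?_, ?_, ?_⟩ <;> decide +kernel

/-- A set of signs which is closed under sums and under permuting the blocks. -/
def okSigns (S : Fin 8 → Bool) : Bool :=
  S 0 && (List.finRange 8).all fun s => !S s || ((List.finRange 8).all fun t => !S t || S (Fin.ofNat 8 (s.val ^^^ t.val))) &&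
    (List.finRange 6).all fun k => S (Fin.ofNat 8 ((if s.val.testBit 2 then 2 ^ (2 - (bperm k 0).val) else 0) +
      (if s.val.testBit 1 then 2 ^ (2 - (bperm k 1).val) else 0) + (if s.val.testBit 0 then 2 ^ (2 - (bperm k 2).val) else 0)))

/-- The four sets of signs. -/
def signSets : Fin 4 → Fin 8 → Bool :=
  ![fun s => decide (s = 0), fun s => decide (s = 0 ∨ s = 7),
    fun s => decide (s = 0 ∨ s = 3 ∨ s = 5 ∨ s = 6), fun _ => true]

theorem okSigns_cases : ∀ S : Fin 8 → Bool, okSigns S = true → ∃ m, S = signSets m := by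
  decide +kernel

namespace Frame

variable {G : Type*} [Group G] (F : Frame G)

/-- The index of an element of `J`. -/
noncomputable def idx (g : G) : Fin 27 := Function.invFun F.v g

theorem idx_v (i : Fin 27) : F.idx (F.v i) = i := Function.leftInverse_invFun F.vinj i

theorem v_idx {g : G} (hg : g ∈ F.J) : F.v (F.idx g) = g := by
  obtain ⟨i, rfl⟩ := hg
  rw [F.idx_v]

/-- The linear map of an element normalising `J`. -/
noncomputable def lin (n : G) : Lin :=
  (F.idx (n * F.v 9 * n⁻¹), F.idx (n * F.v 3 * n⁻¹), F.idx (n * F.v 1 * n⁻¹))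

theorem v_smul {k : ℕ} (hk : k < 3) (i : Fin 27) : F.v (vSmul k i) = F.v i ^ k := by
  rw [lap_facts.2.2.1 k hk i]
  interval_cases k
  · simp [F.v0]
  · simp
  · simp [F.vmul, pow_two]

theorem v_lap (g : Lin) (i : Fin 27) :
    F.v (lap g i) = F.v g.1 ^ (i.val / 9) * (F.v g.2.1 ^ (i.val / 3 % 3) * F.v g.2.2 ^ (i.val % 3)) := by
  rw [lap, F.vmul, F.vmul, F.v_smul (by omega), F.v_smul (by omega), F.v_smul (by omega)]

theorem v_lin {n : G} (hn : n ∈ normalizer (F.J : Set G)) (i : Fin 27) :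
    n * F.v i * n⁻¹ = F.v (lap (F.lin n) i) := by
  have hj : ∀ j, n * F.v j * n⁻¹ ∈ F.J := fun j => (mem_normalizer_iff.1 hn _).1 (F.v_mem j)
  rw [F.v_lap]
  simp only [lin, F.v_idx (hj _), conj_pow]
  conv_lhs => rw [← lap_facts.1 i]
  rw [F.vmul, F.vmul, F.v_smul (by omega), F.v_smul (by omega), F.v_smul (by omega)]
  group

theorem lin_mul {n m : G} (hn : n ∈ normalizer (F.J : Set G)) (hm : m ∈ normalizer (F.J : Set G)) :
    lcomp (F.lin n) (F.lin m) = F.lin (n * m) := by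
  have key : ∀ j, lap (F.lin n) (F.idx (m * F.v j * m⁻¹)) = F.idx (n * m * F.v j * (n * m)⁻¹) := by
    intro j
    apply F.vinj
    rw [← F.v_lin hn, F.v_idx ((mem_normalizer_iff.1 hm _).1 (F.v_mem j)),
      F.v_idx ((mem_normalizer_iff.1 (mul_mem hn hm) _).1 (F.v_mem j))]
    group
  exact Prod.ext (key 9) (Prod.ext (key 3) (key 1))

theorem lap_lin_mul {n m : G} (hn : n ∈ normalizer (F.J : Set G)) (hm : m ∈ normalizer (F.J : Set G)) (i : Fin 27) :
    lap (F.lin (n * m)) i = lap (F.lin n) (lap (F.lin m) i) := by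
  apply F.vinj
  rw [← F.v_lin (mul_mem hn hm), ← F.v_lin hn, ← F.v_lin hm]
  group

theorem p_mem_normalizer (k : Fin 6) : F.p k ∈ normalizer (F.J : Set G) := by
  have h : ∀ l i, F.p l * F.v i * (F.p l)⁻¹ = F.v (lap (lperm l) i) := fun l i => by
    rw [F.pv, mul_inv_cancel_right]
  refine mem_normalizer_iff.2 fun g => ⟨?_, fun hg => ?_⟩
  · rintro ⟨i, rfl⟩
    exact ⟨_, (h k i).symm⟩
  · obtain ⟨i, hi⟩ := hg
    refine ⟨lap (lperm (kinv k)) i, ?_⟩
    rw [← h, ← F.p_inv, hi]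
    group

theorem lin_p (k : Fin 6) : F.lin (F.p k) = lperm k := by
  have h : ∀ j, F.idx (F.p k * F.v j * (F.p k)⁻¹) = lap (lperm k) j := fun j => by
    rw [F.pv, mul_inv_cancel_right, F.idx_v]
  have h2 : ∀ k : Fin 6, (lap (lperm k) 9, lap (lperm k) 3, lap (lperm k) 1) = lperm k := by decide +kernel
  simp only [lin, h, h2]

theorem lin_v (j : Fin 27) : F.lin (F.v j) = lperm 0 := by
  have h : ∀ i, F.idx (F.v j * F.v i * (F.v j)⁻¹) = i := fun i => by
    rw [(F.v_comm j i).eq, mul_inv_cancel_right, F.idx_v]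
  simp only [lin, h]
  rfl

theorem v_mem_normalizer (j : Fin 27) : F.v j ∈ normalizer (F.J : Set G) :=
  Subgroup.le_normalizer (F.v_mem j)

theorem lin_eq_lperm {n : G} {k : Fin 6} (hn : ∃ i, n = F.v i * F.p k) : F.lin n = lperm k := by
  obtain ⟨i, rfl⟩ := hn
  rw [← F.lin_mul (F.v_mem_normalizer i) (F.p_mem_normalizer k), F.lin_v, F.lin_p]
  have key : ∀ k : Fin 6, lcomp (lperm 0) (lperm k) = lperm k := by decide +kernel
  exact key k

theorem groupLike [Finite G] : GroupLike (F.lin '' (normalizer (F.J : Set G) : Set G)) where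
  perm_mem k := ⟨F.p k, F.p_mem_normalizer k, F.lin_p k⟩
  comp_mem := by
    rintro _ ⟨n, hn, rfl⟩ _ ⟨m, hm, rfl⟩
    exact ⟨n * m, mul_mem hn hm, (F.lin_mul hn hm).symm⟩
  lap_comp := by
    rintro _ ⟨n, hn, rfl⟩ _ ⟨m, hm, rfl⟩ i
    rw [F.lin_mul hn hm, F.lap_lin_mul hn hm]
  inj := by
    rintro _ ⟨n, hn, rfl⟩ i j h
    apply F.vinj
    have := congrArg F.v h
    rwa [← F.v_lin hn, ← F.v_lin hn, mul_left_inj, mul_right_inj] at this
  zero := by
    rintro _ ⟨n, hn, rfl⟩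
    apply F.vinj
    rw [← F.v_lin hn, F.v0]
    group
  one := by
    rintro _ ⟨n, hn, rfl⟩ h
    have h1 : n * F.v one1 = F.v one1 * n := by
      have := F.v_lin hn one1
      rw [h] at this
      exact mul_inv_eq_iff_eq_mul.1 this
    obtain ⟨i, k, rfl⟩ := (F.cent n).1 h1
    rw [F.lin_eq_lperm ⟨i, rfl⟩]
    exact List.any_eq_true.2 ⟨k, List.mem_finRange _, by simp⟩
  unit := by
    rintro _ ⟨n, hn, rfl⟩
    rw [← F.lin_p 0, F.lin_mul hn (F.p_mem_normalizer 0), F.p0, mul_one]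

/-- An element acts as a signed permutation. -/
def ActsAs (n : G) (s : Fin 8) (k : Fin 6) : Prop := ∀ i, n * F.v i * n⁻¹ = F.v (lap (lsgn s k) i)

theorem actsAs_unique {n : G} {s t : Fin 8} {k l : Fin 6} (h : F.ActsAs n s k) (h' : F.ActsAs n t l) :
    s = t ∧ k = l := by
  refine lsgn_facts.2.2.2.1 s k t l ?_
  have key : ∀ s k, lsgn s k = (lap (lsgn s k) 9, lap (lsgn s k) 3, lap (lsgn s k) 1) := by decide +kernel
  have e : ∀ i, lap (lsgn s k) i = lap (lsgn t l) i := fun i => F.vinj ((h i).symm.trans (h' i))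
  rw [key s k, key t l, e, e, e]

theorem actsAs_mul {n m : G} {s t : Fin 8} {k l : Fin 6} (h : F.ActsAs n s k) (h' : F.ActsAs m t l) :
    ∀ i, n * m * F.v i * (n * m)⁻¹ = F.v (lap (lcomp (lsgn s k) (lsgn t l)) i) := fun i => by
  rw [show n * m * F.v i * (n * m)⁻¹ = n * (m * F.v i * m⁻¹) * n⁻¹ by group, h', F.v_lap,
    F.v_lap (lcomp _ _), lcomp]
  have h2 : ∀ j, F.v (lap (lsgn s k) j) = n * F.v j * n⁻¹ := fun j => (h j).symm
  simp only [h2, conj_pow]
  group

theorem actsAs_p (k : Fin 6) : F.ActsAs (F.p k) 0 k := fun i => by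
  rw [F.pv, mul_inv_cancel_right, lsgn_facts.2.2.2.2.1]

theorem actsAs_v (j : Fin 27) : F.ActsAs (F.v j) 0 0 := fun i => by
  have key : ∀ i, lap (lsgn 0 0) i = i := by decide +kernel
  rw [(F.v_comm j i).eq, mul_inv_cancel_right, key]

/-- The signs that occur. -/
def Sign (s : Fin 8) : Prop := ∃ n ∈ normalizer (F.J : Set G), ∃ k, F.ActsAs n s k

/-- The action is by signed permutations. -/
def Monomial : Prop := ∀ n ∈ normalizer (F.J : Set G), ∃ s k, F.ActsAs n s k

end Frame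

/-- Coordinates in which the normalizer acts by signed permutations. -/
theorem Frame.exists_monomial {G : Type*} [Group G] [Finite G] (F : Frame G) :
    ∃ F' : Frame G, F'.J = F.J ∧ F'.Monomial := by
  obtain ⟨t, ht⟩ := exists_system F.groupLike
  refine ⟨F.recoord t, F.recoord_J t, fun n hn => ?_⟩
  rw [F.recoord_J] at hn
  have h := ht _ ⟨n, hn, rfl⟩
  simp only [monL, List.mem_flatMap, List.mem_map, List.mem_finRange, true_and] at h
  obtain ⟨s, k, h⟩ := h
  refine ⟨s, k, fun i => ?_⟩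
  show n * F.v (lap (phi t) i) * n⁻¹ = F.v (lap (phi t) (lap (lsgn s k) i))
  rw [F.v_lin hn, ← h, lsgn_facts.1, (mon_facts.2.2.2.1 t i).2]

/-- The four possibilities. -/
theorem Frame.sign_cases {G : Type*} [Group G] [Finite G] (F : Frame G) (hM : F.Monomial) :
    ∃ m, ∀ s, F.Sign s ↔ signSets m s = true := by
  classical
  have h0 : ∀ s, F.Sign s → ∀ l, ∃ n ∈ normalizer (F.J : Set G), F.ActsAs n s l := by
    rintro s ⟨n, hn, k, hk⟩ l
    refine ⟨n * F.p (kmul (kinv k) l), mul_mem hn (F.p_mem_normalizer _), fun i => ?_⟩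
    rw [F.actsAs_mul hk (F.actsAs_p _)]
    have key : ∀ s k l, lcomp (lsgn s k) (lsgn 0 (kmul (kinv k) l)) = lsgn s l := by decide +kernel
    rw [key]
  obtain ⟨m, hm⟩ := okSigns_cases (fun s => decide (F.Sign s)) (by
    simp only [okSigns, Bool.and_eq_true, List.all_eq_true, List.mem_finRange, forall_const, Bool.or_eq_true,
      Bool.not_eq_true', decide_eq_true_eq, decide_eq_false_iff_not]
    refine ⟨⟨F.p 0, F.p_mem_normalizer 0, 0, F.actsAs_p 0⟩, fun s => ?_⟩
    by_cases hs : F.Sign s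
    · refine Or.inr ⟨fun t => ?_, fun k => ?_⟩
      · by_cases ht : F.Sign t
        · refine Or.inr ?_
          obtain ⟨n, hn, hns⟩ := h0 s hs 0
          obtain ⟨m, hm, hmt⟩ := h0 t ht 0
          refine ⟨n * m, mul_mem hn hm, 0, fun i => ?_⟩
          rw [F.actsAs_mul hns hmt]
          have key : ∀ s t, lcomp (lsgn s 0) (lsgn t 0) = lsgn (Fin.ofNat 8 (s.val ^^^ t.val)) 0 := by decide +kernel
          rw [key]
        · exact Or.inl ht
      · obtain ⟨n, hn, hns⟩ := h0 s hs 0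
        refine ⟨F.p k * n, mul_mem (F.p_mem_normalizer _) hn, kmul k 0, fun i => ?_⟩
        rw [F.actsAs_mul (F.actsAs_p k) hns, lsgn_facts.2.2.1]
        simp
    · exact Or.inl hs)
  refine ⟨m, fun s => ?_⟩
  rw [← congrFun hm s]
  simp

end Cfsg.Lib.SymNine
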