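import Cfsg.Agent.Lib.SymNine.AxesData

/-!
# Monomial groups

A set of maps closed under composition in which only the coordinate permutations fix the all-one vector is
monomial for one of the three systems of axes.
-/

set_option autoImplicit false
set_option maxRecDepth 100000

namespace Cfsg.Lib.SymNine

theorem mem_cands {g : Lin} (h12 : g.1 < g.2.1) (h23 : g.2.1 < g.2.2)
    (hinj : ∀ i, lap g i = 0 → i = 0) : g ∈ cands := by
  obtain ⟨a, b, c⟩ := g
  simp only [cands, List.mem_flatMap, List.mem_filterMap, List.mem_finRange, true_and]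
  refine ⟨a, b, c, ?_⟩
  rw [if_pos]
  refine ⟨h12, h23, List.all_eq_true.2 fun i _ => ?_⟩
  rcases eq_or_ne i 0 with h | h
  · simp [h]
  · simp only [Bool.or_eq_true, bne_iff_ne, ne_eq]
    exact Or.inr fun e => h (hinj i e)

theorem checkAll_mem : ∀ (l : List Lin) (n : ℕ), checkAll l n = true → ∀ g ∈ l, ∃ w, checkOne g w = true := by
  intro l
  induction l with
  | nil => intro n _ g hg; simp at hg
  | cons a l ih =>
    intro n h g hg
    simp only [checkAll, Bool.and_eq_true] at h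
    rcases List.mem_cons.1 hg with rfl | hg
    · exact ⟨_, h.1⟩
    · exact ih _ h.2 g hg

variable (A : Set Lin)

/-- The hypotheses on a set of maps. -/
structure GroupLike : Prop where
  perm_mem : ∀ k, lperm k ∈ A
  comp_mem : ∀ g ∈ A, ∀ h ∈ A, lcomp g h ∈ A
  lap_comp : ∀ g ∈ A, ∀ h ∈ A, ∀ i, lap (lcomp g h) i = lap g (lap h i)
  inj : ∀ g ∈ A, Function.Injective (lap g)
  zero : ∀ g ∈ A, lap g 0 = 0
  one : ∀ g ∈ A, lap g one1 = one1 → isPerm g = true
  unit : ∀ g ∈ A, lcomp g (lperm 0) = g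

variable {A}

theorem wordVal_mem (hA : GroupLike A) {g : Lin} (hg : g ∈ A) :
    ∀ (n w : ℕ) (h : Lin), h ∈ A → wordVal g n w h ∈ A
  | 0, _, _, hh => hh
  | n + 1, w, h, hh => by
    rw [wordVal]
    by_cases hw : w = 0
    · rw [if_pos hw]; exact hh
    · rw [if_neg hw]
      exact wordVal_mem hA hg n _ _ (hA.comp_mem _ (hA.comp_mem _ hh _ (hA.perm_mem _)) _ hg)

theorem mem_monL_of_mem (hA : GroupLike A) {g : Lin} (hg : g ∈ A) : ∃ t, g ∈ monL t := by
  -- sort the images
  have hd : g.1 ≠ g.2.1 ∧ g.1 ≠ g.2.2 ∧ g.2.1 ≠ g.2.2 := by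
    have h1 : lap g 9 = g.1 ∧ lap g 3 = g.2.1 ∧ lap g 1 = g.2.2 := by
      have e : ∀ a b c : Fin 27, lap (a, b, c) 9 = vAdd (vSmul 1 a) (vAdd (vSmul 0 b) (vSmul 0 c)) ∧
          lap (a, b, c) 3 = vAdd (vSmul 0 a) (vAdd (vSmul 1 b) (vSmul 0 c)) ∧
          lap (a, b, c) 1 = vAdd (vSmul 0 a) (vAdd (vSmul 0 b) (vSmul 1 c)) := fun a b c => ⟨rfl, rfl, rfl⟩
      have f : ∀ a : Fin 27, vSmul 0 a = 0 ∧ vSmul 1 a = a ∧ vAdd a 0 = a ∧ vAdd 0 a = a := by decide +kernel
      obtain ⟨a, b, c⟩ := g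
      obtain ⟨e1, e2, e3⟩ := e a b c
      rw [e1, e2, e3]
      simp only [(f _).1, (f _).2.1, (f _).2.2.1, (f _).2.2.2, and_self]
    refine ⟨fun e => ?_, fun e => ?_, fun e => ?_⟩
    all_goals
      first
        | exact absurd (hA.inj g hg (h1.1.trans (e.trans h1.2.1.symm))) (by decide)
        | exact absurd (hA.inj g hg (h1.1.trans (e.trans h1.2.2.symm))) (by decide)
        | exact absurd (hA.inj g hg (h1.2.1.trans (e.trans h1.2.2.symm))) (by decide)
  have hunit : lap g 9 = g.1 ∧ lap g 3 = g.2.1 ∧ lap g 1 = g.2.2 := by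
    have h := hA.unit g hg
    exact ⟨congrArg Prod.fst h, congrArg (fun p => p.2.1) h, congrArg (fun p => p.2.2) h⟩
  have hsort : ∃ k, (lcomp g (lperm k)).1 < (lcomp g (lperm k)).2.1 ∧
      (lcomp g (lperm k)).2.1 < (lcomp g (lperm k)).2.2 := by
    obtain ⟨u1, u2, u3⟩ := hunit
    rcases lt_or_gt_of_ne hd.1 with h1 | h1 <;> rcases lt_or_gt_of_ne hd.2.1 with h2 | h2 <;>
      rcases lt_or_gt_of_ne hd.2.2 with h3 | h3
    all_goals
      first
        | exact ⟨0, by simp [lcomp, lperm, u1, u2, u3]; omega⟩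
        | exact ⟨1, by simp [lcomp, lperm, u1, u2, u3]; omega⟩
        | exact ⟨2, by simp [lcomp, lperm, u1, u2, u3]; omega⟩
        | exact ⟨3, by simp [lcomp, lperm, u1, u2, u3]; omega⟩
        | exact ⟨4, by simp [lcomp, lperm, u1, u2, u3]; omega⟩
        | exact ⟨5, by simp [lcomp, lperm, u1, u2, u3]; omega⟩
  obtain ⟨k, hk1, hk2⟩ := hsort
  set g' := lcomp g (lperm k) with hg'
  have hg'A : g' ∈ A := hA.comp_mem _ hg _ (hA.perm_mem k)
  have hc : g' ∈ cands := mem_cands hk1 hk2 fun i hi =>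
    hA.inj _ hg'A (hi.trans (hA.zero _ hg'A).symm)
  obtain ⟨w, hw⟩ := checkAll_mem _ _ checkAll_cands _ hc
  rw [checkOne] at hw
  by_cases hw0 : w = 0
  · rw [if_pos hw0] at hw
    obtain ⟨t, -, ht⟩ := List.any_eq_true.1 hw
    refine ⟨t, ?_⟩
    have h1 := List.all_eq_true.1 cands_mon _ hc
    have h2 := List.all_eq_true.1 h1 t (List.mem_finRange _)
    simp only [ht, Bool.not_true, Bool.false_or] at h2
    obtain ⟨l, -, hl⟩ := mon_facts.2.2.2.2.2.2.2 k
    have h3 := List.all_eq_true.1 h2 l (List.mem_finRange _)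
    rw [List.contains_iff_mem] at h3
    have e : lcomp g' (lperm l) = lcomp g (lcomp (lperm k) (lperm l)) := by
      simp only [hg', lcomp]
      rw [← hA.lap_comp g hg _ (hA.perm_mem k), ← hA.lap_comp g hg _ (hA.perm_mem k),
        ← hA.lap_comp g hg _ (hA.perm_mem k)]
      rfl
    rw [e, hl, hA.unit g hg] at h3
    exact h3
  · rw [if_neg hw0] at hw
    simp only [bad, Bool.and_eq_true, beq_iff_eq, Bool.not_eq_true'] at hw
    have := hA.one _ (wordVal_mem hA hg'A 5 (w - 1) g' hg'A) hw.1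
    rw [this] at hw
    exact absurd hw.2 (by decide)

/-- All maps are monomial for one system. -/
theorem exists_system (hA : GroupLike A) : ∃ t, ∀ g ∈ A, g ∈ monL t := by
  have hscal : ∀ g, isScal g = true → ∀ t, g ∈ monL t := by
    intro g hg t
    obtain ⟨k, -, hk⟩ := List.any_eq_true.1 hg
    simp only [Bool.or_eq_true, beq_iff_eq] at hk
    rcases hk with rfl | rfl
    · exact List.contains_iff_mem.1 (mon_facts.2.1 k t)
    · exact List.contains_iff_mem.1 (mon_facts.2.2.1 k t)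
  by_cases hall : ∀ g ∈ A, isScal g = true
  · exact ⟨0, fun g hg => hscal g (hall g hg) 0⟩
  push Not at hall
  obtain ⟨g, hg, hgs⟩ := hall
  obtain ⟨t, ht⟩ := mem_monL_of_mem hA hg
  refine ⟨t, fun h hh => ?_⟩
  by_cases hhs : isScal h = true
  · exact hscal h hhs t
  obtain ⟨u, hu⟩ := mem_monL_of_mem hA hh
  rcases eq_or_ne t u with rfl | hne
  · exact hu
  exfalso
  obtain ⟨v, hv⟩ := mem_monL_of_mem hA (hA.comp_mem _ hg _ hh)
  have hm := List.all_eq_true.1 (mon_facts.1 v) _ hv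
  have h1 := List.all_eq_true.1 (List.all_eq_true.1 pair_fact t (List.mem_finRange _)) u (List.mem_finRange _)
  rw [Bool.or_eq_true, beq_iff_eq] at h1
  have h2 := List.all_eq_true.1 (h1.resolve_left hne) g ht
  rw [Bool.or_eq_true] at h2
  have h3 := List.all_eq_true.1 (h2.resolve_left hgs) h hu
  rw [Bool.or_eq_true] at h3
  have h4 := List.all_eq_true.1 (h3.resolve_left hhs) v (List.mem_finRange _)
  rw [hm] at h4
  exact absurd h4 (by decide)

end Cfsg.Lib.SymNine
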