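import Cfsg.Agent.Lib.SymNine.Classify

/-!
# The monomial maps of the three systems of axes, tables
-/

set_option autoImplicit false
set_option maxRecDepth 100000

namespace Cfsg.Lib.SymNine

/-- The sign change of a code below eight. -/
def ldiag (s : Fin 8) : Lin :=
  (if s.val / 4 = 1 then 18 else 9, if s.val / 2 % 2 = 1 then 6 else 3, if s.val % 2 = 1 then 2 else 1)

/-- A signed permutation. -/
def lsgn (s : Fin 8) (k : Fin 6) : Lin := lcomp (ldiag s) (lperm k)

/-- The changes of coordinates between the systems. -/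
def phi : Fin 3 → Lin := ![(9, 3, 1), (8, 20, 24), (22, 16, 14)]

/-- Their inverses. -/
def phiInv : Fin 3 → Lin := ![(9, 3, 1), (22, 16, 14), (8, 20, 24)]

/-- The monomial maps of a system. -/
def monL (t : Fin 3) : List Lin :=
  (List.finRange 8).flatMap fun s => (List.finRange 6).map fun k =>
    lcomp (lcomp (phi t) (lsgn s k)) (phiInv t)

theorem cands_mon : cands.all (fun g => (List.finRange 3).all fun t => !isMon t g ||
    (List.finRange 6).all fun k => (monL t).contains (lcomp g (lperm k))) = true := by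
  decide +kernel

theorem pair_fact : ((List.finRange 3).all fun i => (List.finRange 3).all fun j => i == j ||
    (monL i).all fun g => isScal g || (monL j).all fun h => isScal h ||
      (List.finRange 3).all fun t => !isMon t (lcomp g h)) = true := by
  decide +kernel

theorem mon_facts : (∀ t : Fin 3, (monL t).all (fun g => isMon t g) = true) ∧
    (∀ k : Fin 6, ∀ t : Fin 3, (monL t).contains (lperm k) = true) ∧
    (∀ k : Fin 6, ∀ t : Fin 3, (monL t).contains (vSmul 2 (lperm k).1, vSmul 2 (lperm k).2.1, vSmul 2 (lperm k).2.2) = true) ∧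
    (∀ t : Fin 3, ∀ i : Fin 27, lap (phi t) (lap (phiInv t) i) = i ∧ lap (phiInv t) (lap (phi t) i) = i) ∧
    (∀ t : Fin 3, ∀ k : Fin 6, lcomp (phi t) (lperm k) = lcomp (lperm k) (phi t)) ∧
    (∀ t : Fin 3, lap (phi t) one1 = one1) ∧
    (∀ t : Fin 3, ∀ i j : Fin 27, lap (phi t) (vAdd i j) = vAdd (lap (phi t) i) (lap (phi t) j)) ∧
    (∀ k : Fin 6, ∃ l : Fin 6, lcomp (lperm l) (lperm k) = lperm 0 ∧ lcomp (lperm k) (lperm l) = lperm 0) := by
  refine ⟨?_, ?_, ?_, ?_, ?_, ?_, ?_, ?_⟩ <;> decide +kernel

end Cfsg.Lib.SymNine
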