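import Mathlib

/-!
# A 2-group with a fixed-point-free automorphism of order three inverted by an involution with two fixed elements

Such a group has order at most four.
-/

set_option autoImplicit false
set_option linter.unusedSectionVars false
set_option linter.style.haveILetI false

namespace Cfsg.Lib.SymNine

open Subgroup

theorem card_le_four {Q : Type*} [Group Q] [Finite Q] (hQ : IsPGroup 2 Q) (t d : Q →* Q)
    (htt : ∀ q, t (t q) = q) (hd3 : ∀ q, d (d (d q)) = q) (htd : ∀ q, t (d (t q)) = d (d q))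
    (hfree : ∀ q, d q = q → q = 1) (hfix : Nat.card {q : Q // t q = q} ≤ 2) : Nat.card Q ≤ 4 := by
  classical
  haveI : Fact (Nat.Prime 2) := ⟨Nat.prime_two⟩
  by_cases htriv : Nontrivial Q
  swap
  · rw [not_nontrivial_iff_subsingleton] at htriv
    haveI := htriv
    rw [Nat.card_of_subsingleton (1 : Q)]
    norm_num
  haveI := htriv
  have htinj : Function.Injective t := Function.LeftInverse.injective htt
  have hdinj : Function.Injective d := Function.LeftInverse.injective (g := fun q => d (d q)) hd3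
  -- the central involutions
  let V : Subgroup Q :=
    { carrier := {v | v ∈ center Q ∧ v * v = 1}
      one_mem' := ⟨one_mem _, one_mul 1⟩
      mul_mem' := fun {a b} ha hb => ⟨mul_mem ha.1 hb.1, by
        rw [mul_assoc, ← mul_assoc b, (mem_center_iff.1 ha.1 b), mul_assoc, hb.2, mul_one, ha.2]⟩
      inv_mem' := fun {a} ha => ⟨inv_mem ha.1, by rw [← mul_inv_rev, ha.2, inv_one]⟩ }
  have hmap : ∀ f : Q →* Q, Function.Surjective f → ∀ v ∈ V, f v ∈ V := fun f hf v hv =>
    ⟨mem_center_iff.2 fun y => by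
      obtain ⟨y, rfl⟩ := hf y
      rw [← map_mul, ← map_mul, mem_center_iff.1 hv.1 y], by rw [← map_mul, hv.2, map_one]⟩
  have htV := hmap t (Finite.surjective_of_injective htinj)
  have hdV := hmap d (Finite.surjective_of_injective hdinj)
  have hVcomm : ∀ v ∈ V, ∀ y : Q, y * v = v * y := fun v hv => mem_center_iff.1 hv.1
  -- the map into the fixed elements
  let f : V →* Q :=
    { toFun := fun v => v.1 * t v.1
      map_one' := by simp
      map_mul' := fun a b => by
        rw [Subgroup.coe_mul, map_mul, mul_assoc, ← mul_assoc (b : Q), ← hVcomm _ b.2 (t a.1)]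
        simp only [mul_assoc] }
  have hffix : ∀ v : V, t (f v) = f v := fun v => by
    show t (v.1 * t v.1) = v.1 * t v.1
    rw [map_mul, htt, hVcomm _ v.2]
  have hrange : Nat.card f.range ≤ 2 := by
    refine le_trans (Nat.card_le_card_of_injective (fun y => (⟨y.1, ?_⟩ : {q : Q // t q = q})) ?_) hfix
    · obtain ⟨v, hv⟩ := y.2
      rw [← hv, hffix]
    · exact fun a b e => Subtype.ext (congrArg (fun z : {q : Q // t q = q} => z.1) e)
  have hkerfix : ∀ v : V, v ∈ f.ker ↔ t v.1 = v.1 := fun v => by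
    rw [MonoidHom.mem_ker]
    show v.1 * t v.1 = 1 ↔ _
    rw [mul_eq_one_iff_eq_inv', inv_eq_of_mul_eq_one_right v.2.2]
  have hkercard : Nat.card f.ker ≤ 2 := by
    refine le_trans (Nat.card_le_card_of_injective (fun y => (⟨y.1.1, (hkerfix y.1).1 y.2⟩ : {q : Q // t q = q})) ?_) hfix
    exact fun a b e => Subtype.ext (Subtype.ext (congrArg (fun z : {q : Q // t q = q} => z.1) e))
  have hVmul : Nat.card V = Nat.card f.range * Nat.card f.ker := by
    rw [← Subgroup.index_ker, mul_comm, card_mul_index]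
  have hV4 : Nat.card V ≤ 4 := by rw [hVmul]; exact Nat.mul_le_mul hrange hkercard
  -- it has order four
  have hVne : ∃ v ∈ V, v ≠ 1 := by
    obtain ⟨⟨w, hw⟩, hwo⟩ := exists_prime_orderOf_dvd_card' (G := center Q) 2 (by
      haveI := hQ.center_nontrivial
      obtain ⟨n, hn⟩ := (hQ.to_subgroup (center Q)).exists_card_eq
      rw [hn]
      refine dvd_pow_self 2 fun h0 => ?_
      rw [h0, pow_zero] at hn
      exact absurd hn (Finite.one_lt_card.ne'))
    rw [orderOf_mk] at hwo
    refine ⟨w, ⟨hw, ?_⟩, fun h => by rw [h, orderOf_one] at hwo; norm_num at hwo⟩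
    rw [← pow_two, ← hwo, pow_orderOf_eq_one]
  obtain ⟨v₀, hv₀, hv₀1⟩ := hVne
  have hV3 : 2 < Nat.card V := by
    by_contra hle
    push Not at hle
    refine hv₀1 (hfree v₀ ?_)
    by_contra hne
    have h3 : Nat.card ({1, v₀, d v₀} : Finset Q) ≤ 2 := by
      refine le_trans (Nat.card_le_card_of_injective (fun y => (⟨y.1, ?_⟩ : V)) ?_) hle
      · rcases Finset.mem_insert.1 y.2 with h | h
        · rw [h]; exact one_mem _
        rcases Finset.mem_insert.1 h with h | h
        · rw [h]; exact hv₀
        · rw [Finset.mem_singleton.1 h]; exact hdV _ hv₀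
      · exact fun a b e => Subtype.ext (congrArg (fun z : V => z.1) e)
    rw [Nat.card_eq_fintype_card, Fintype.card_coe, Finset.card_eq_three.2 ⟨1, v₀, d v₀, Ne.symm hv₀1,
      fun e => hv₀1 (hdinj (by rw [← e, map_one])), Ne.symm hne, rfl⟩] at h3
    omega
  have hr2 : Nat.card f.range = 2 := by
    have := Nat.mul_le_mul (le_refl (Nat.card f.range)) hkercard
    omega
  -- every fixed element is of that form
  have hfixV : ∀ q, t q = q → ∃ v : V, f v = q := by
    intro q hq
    by_contra hne
    have hlt : Nat.card f.range < Nat.card {q : Q // t q = q} := by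
      haveI := Fintype.ofFinite {q : Q // t q = q}
      haveI := Fintype.ofFinite f.range
      rw [Nat.card_eq_fintype_card, Nat.card_eq_fintype_card]
      refine Fintype.card_lt_of_injective_of_notMem (fun y => (⟨y.1, ?_⟩ : {q : Q // t q = q})) ?_
        (b := ⟨q, hq⟩) ?_
      · obtain ⟨v, hv⟩ := y.2
        rw [← hv, hffix]
      · exact fun a b e => Subtype.ext (congrArg (fun z : {q : Q // t q = q} => z.1) e)
      · rintro ⟨⟨y, v, hv⟩, e⟩
        exact hne ⟨v, hv.trans (congrArg Subtype.val e)⟩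
    omega
  have hfV : ∀ q, t q = q → q ∈ V := fun q hq => by
    obtain ⟨v, rfl⟩ := hfixV q hq
    exact mul_mem v.2 (htV _ v.2)
  have hfree' : ∀ q, ∀ v ∈ V, t q = q * v → q ∈ V := by
    intro q v hv he
    have h1 : t v = v := by
      have h2 : q = q * v * t v := by rw [← he, ← map_mul, ← he, htt]
      rw [mul_assoc, left_eq_mul] at h2
      rw [mul_eq_one_iff_eq_inv'.1 h2, inv_eq_of_mul_eq_one_right hv.2]
    obtain ⟨u, hu⟩ := hfixV v h1
    have hu' : u.1 * t u.1 = v := hu
    have h2 : t (q * u.1) = q * u.1 := by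
      rw [map_mul, he, ← hu', mul_assoc, mul_assoc, (htV _ u.2).2, mul_one]
    have h3 := mul_mem (hfV _ h2) (inv_mem u.2)
    rwa [mul_inv_cancel_right] at h3
  -- the quotient is inverted
  haveI : V.Normal := ⟨fun v hv y => by rw [hVcomm v hv y, mul_inv_cancel_right]; exact hv⟩
  let π := QuotientGroup.mk' V
  have hπt : ∀ {a b}, π a = π b → π (t a) = π (t b) := fun {a b} e => by
    rw [QuotientGroup.mk'_apply, QuotientGroup.mk'_apply, QuotientGroup.eq] at e ⊢
    have := htV _ e
    rwa [map_mul, map_inv] at this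
  have hπd : ∀ {a b}, π a = π b → π (d a) = π (d b) := fun {a b} e => by
    rw [QuotientGroup.mk'_apply, QuotientGroup.mk'_apply, QuotientGroup.eq] at e ⊢
    have := hdV _ e
    rwa [map_mul, map_inv] at this
  let tb : Q ⧸ V →* Q ⧸ V := QuotientGroup.map V V t htV
  have htb : ∀ q, tb (π q) = π (t q) := fun _ => rfl
  have hinv : ∀ q, π (t q) = (π q)⁻¹ := by
    let g : Q ⧸ V → Q ⧸ V := fun z => z⁻¹ * tb z
    have hg : Function.Injective g := by
      intro a b e
      obtain ⟨a, rfl⟩ := QuotientGroup.mk'_surjective V a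
      obtain ⟨b, rfl⟩ := QuotientGroup.mk'_surjective V b
      have e' : (π a)⁻¹ * π (t a) = (π b)⁻¹ * π (t b) := e
      have h1 : π (t (b * a⁻¹)) = π (b * a⁻¹) := by
        rw [map_mul, map_mul, map_inv, map_inv, map_mul, map_inv, show π (t b) = π b * ((π a)⁻¹ * π (t a)) by
          rw [e', mul_inv_cancel_left]]
        group
      rw [eq_comm, QuotientGroup.mk'_apply, QuotientGroup.mk'_apply, QuotientGroup.eq] at h1
      have h2 := hfree' (b * a⁻¹) _ h1 (by group)
      show π a = π b
      have h4 := (inferInstance : V.Normal).conj_mem _ (inv_mem h2) b⁻¹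
      rw [QuotientGroup.mk'_apply, QuotientGroup.mk'_apply, QuotientGroup.eq]
      have h5 : a⁻¹ * b = (b⁻¹ * (b * a⁻¹)⁻¹ * b⁻¹⁻¹)⁻¹ := by group
      rw [h5]
      exact inv_mem h4
    intro q
    obtain ⟨z, hz⟩ := Finite.surjective_of_injective hg (π q)
    obtain ⟨y, rfl⟩ := QuotientGroup.mk'_surjective V z
    have hz' : π q = (π y)⁻¹ * π (t y) := hz.symm
    rw [← htb, hz', map_mul, map_inv, htb, htb, htt]
    group
  have hall : ∀ q, q ∈ V := by
    intro q
    have h1 : π (d (d q)) = π (d q) := by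
      rw [← htd, hinv, ← map_inv π, ← map_inv d]
      refine hπd ?_
      rw [map_inv π, hinv, inv_inv]
    have h2 : π (d q) = π q := by
      have h3 := hπd (hπd h1)
      rwa [hd3, hd3] at h3
    rw [eq_comm, QuotientGroup.mk'_apply, QuotientGroup.mk'_apply, QuotientGroup.eq] at h2
    -- the free automorphism is onto on `V`
    let φ : V → V := fun u => ⟨u.1⁻¹ * d u.1, mul_mem (inv_mem u.2) (hdV _ u.2)⟩
    have hφ : Function.Injective φ := by
      intro a b e
      have e' : a.1⁻¹ * d a.1 = b.1⁻¹ * d b.1 := congrArg Subtype.val e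
      have h4 : d (b.1 * a.1⁻¹) = b.1 * a.1⁻¹ := by
        have h5 : d b.1 = b.1 * (a.1⁻¹ * d a.1) := by rw [e', mul_inv_cancel_left]
        rw [map_mul, map_inv, h5]
        group
      exact Subtype.ext (mul_inv_eq_one.1 (hfree _ h4)).symm
    obtain ⟨u, hu⟩ := Finite.surjective_of_injective hφ ⟨_, h2⟩
    have hu' : u.1⁻¹ * d u.1 = q⁻¹ * d q := congrArg Subtype.val hu
    have h6 : d (u.1 * q⁻¹) = u.1 * q⁻¹ := by
      rw [map_mul, map_inv, show d u.1 = u.1 * (q⁻¹ * d q) by rw [← hu', mul_inv_cancel_left]]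
      group
    rw [← mul_inv_eq_one.1 (hfree _ h6)]
    exact u.2
  rw [← card_top (G := Q), show (⊤ : Subgroup Q) = V from (eq_top_iff.2 fun q _ => hall q).symm]
  exact hV4

end Cfsg.Lib.SymNine
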