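import Cfsg.Agent.Lib.SymNine.Count
import Cfsg.Agent.Lib.SymNine.FourBound

/-!
# The cases without a four-group of signs

When `N(J)/J` is the symmetric group of degree three, or twice it, `J` is normal.
-/

set_option autoImplicit false
set_option maxHeartbeats 1600000
set_option maxRecDepth 100000
set_option linter.unusedSectionVars false
set_option linter.style.haveILetI false

namespace Cfsg.Lib.SymNine

open Subgroup

theorem caseI_facts :
    act 7 2 15 = 15 ∧ act 0 2 15 = vSmul 2 15 ∧ (15 : Fin 27) ≠ 0 ∧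
    ¬ 9 ∣ (Finset.univ.filter fun y : Fin 27 => act 7 2 y = y).card *
      (Finset.univ.filter fun q : Fin 8 × Fin 6 =>
        signSets 1 q.1 = true ∧ ∀ i, act q.1 q.2 (act 7 2 i) = act 7 2 (act q.1 q.2 i)).card ∧
    (∀ s k, signSets 1 s = true → (∀ i, act s k (act 0 2 i) = act 0 2 (act s k i)) →
      (s = 0 ∨ s = 7) ∧ (k = 0 ∨ k = 2)) ∧
    (∀ y, act 0 2 y = y → act 7 2 y = y → y = 0) ∧
    (∀ s k, signSets 1 s = true → (∀ i, act s k (act 7 2 i) = act 7 2 (act s k i)) → act s k 15 = 15 →
      (s = 0 ∧ k = 0) ∨ (s = 7 ∧ k = 2)) ∧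
    (∀ i, act 7 0 (act 0 2 i) = act 0 2 (act 7 0 i)) ∧ (∀ i, act 7 0 (act 7 0 i) = i) ∧
    signSets 1 7 = true ∧ sComp 0 2 7 = 7 ∧ kmul 2 0 = 2 := by
  refine ⟨?_, ?_, ?_, ?_, ?_, ?_, ?_, ?_, ?_, ?_, ?_, ?_⟩ <;> decide +kernel

namespace Frame

variable {G : Type*} [Group G] [Finite G] {F : Frame G}

theorem mem_J_of_J_cube {g : G} (h : g ∈ F.J) : g ^ 3 = 1 := F.J_cube h

theorem J_normal_of_cyclic_two (S : Sylow 2 G)
    (hcen : normalizer ((S : Subgroup G) : Set G) ≤ centralizer ((S : Subgroup G) : Set G)) : F.J.Normal := by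
  haveI : Fact (Nat.Prime 2) := ⟨Nat.prime_two⟩
  have hodd : Odd (Nat.card (MonoidHom.transferSylow S hcen).ker) := by
    rw [← Nat.not_even_iff_odd, even_iff_two_dvd]
    exact MonoidHom.not_dvd_card_ker_transferSylow S hcen
  refine normal_of_odd (MonoidHom.normal_ker _) hodd fun hbot => ?_
  have h1 := MonoidHom.ker_transferSylow_isComplement' S hcen
  rw [hbot, isComplement'_bot_left] at h1
  have h2 : IsPGroup 2 (⊤ : Subgroup G) := h1 ▸ S.isPGroup'
  obtain ⟨n, hn⟩ := h2 ⟨F.x, mem_top _⟩
  have h3 : F.x ^ 2 ^ n = 1 := congrArg Subtype.val hn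
  have h4 : orderOf F.x = 1 := Nat.eq_one_of_dvd_coprimes ((show Nat.Coprime 2 3 by norm_num).pow_left n)
    (orderOf_dvd_of_pow_eq_one h3) (orderOf_dvd_of_pow_eq_one (F.v_cube one1))
  rw [orderOf_eq_one_iff, x, F.v_eq_one] at h4
  exact absurd h4 (by decide)

theorem p2_ne_one (F : Frame G) : F.p 2 ≠ 1 := fun e => by
  obtain ⟨-, h⟩ := F.free 0 2 (by rw [e, F.v0, one_mul])
  exact absurd h (by decide)

theorem p2_sq (F : Frame G) : F.p 2 * F.p 2 = 1 := by
  have : kmul 2 2 = 0 := by decide +kernel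
  rw [← F.pmul, this, F.p0]

theorem orderOf_p2 (F : Frame G) : orderOf (F.p 2) = 2 := by
  haveI : Fact (Nat.Prime 2) := ⟨Nat.prime_two⟩
  exact orderOf_eq_prime (by rw [pow_two, p2_sq]) (p2_ne_one F)

/-- No signs. -/
theorem normal_of_caseZero (h : F.IsCase 0) : F.J.Normal := by
  haveI : Fact (Nat.Prime 2) := ⟨Nat.prime_two⟩
  set τ := F.p 2 with hτ
  have hC : Nat.card (centralizer ({τ} : Set G)) = 18 := by
    rw [h.card_cent_tau (h.smallCent (by decide))]; rfl
  have hz : IsPGroup 2 (zpowers τ) := IsPGroup.of_card (n := 1) (by rw [Nat.card_zpowers, orderOf_p2, pow_one])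
  obtain ⟨S, hS⟩ := hz.exists_le_sylow
  have hSeq : zpowers τ = (S : Subgroup G) := by
    by_contra hne
    haveI : Group.IsNilpotent (S : Subgroup G) := S.isPGroup'.isNilpotent
    have hlt : (zpowers τ).subgroupOf (S : Subgroup G) < ⊤ := by
      rw [lt_top_iff_ne_top, Ne, subgroupOf_eq_top]
      exact fun h' => hne (le_antisymm hS h')
    obtain ⟨y, hy, hyT⟩ := SetLike.exists_of_lt (Group.normalizerCondition_of_isNilpotent _ hlt)
    refine hyT (mem_subgroupOf.2 ?_)
    have h1 := (mem_normalizer_iff.1 hy ⟨τ, hS (mem_zpowers τ)⟩).1 (mem_zpowers τ)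
    obtain ⟨q, hq⟩ := h1
    have hyc : (y : G) ∈ centralizer ({τ} : Set G) := by
      have hq' : τ ^ q = (y : G) * τ * (y : G)⁻¹ := hq
      rcases Int.even_or_odd' q with ⟨r, rfl | rfl⟩
      · rw [zpow_mul, zpow_two, p2_sq, one_zpow, eq_comm, conj_eq_one_iff] at hq'
        exact absurd hq' (p2_ne_one F)
      · rw [zpow_add, zpow_mul, zpow_two, p2_sq, one_zpow, one_mul, zpow_one] at hq'
        exact mem_centralizer_singleton_iff.2 (mul_inv_eq_iff_eq_mul.1 hq'.symm)
    have hle : (S : Subgroup G) ⊓ centralizer ({τ} : Set G) = zpowers τ := by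
      refine (eq_of_le_of_card_ge (le_inf hS (zpowers_le.2 (mem_centralizer_singleton_iff.2 rfl))) ?_).symm
      obtain ⟨a, ha⟩ := (S.isPGroup'.to_le (inf_le_left (b := centralizer ({τ} : Set G)))).exists_card_eq
      rw [Nat.card_zpowers, orderOf_p2, ha]
      have hd := card_dvd_of_le (inf_le_right (a := (S : Subgroup G)) (b := centralizer ({τ} : Set G)))
      rw [ha, hC] at hd
      rcases Nat.lt_or_ge a 2 with ha2 | ha2
      · interval_cases a <;> norm_num
      · exfalso
        exact absurd ((pow_dvd_pow 2 ha2).trans hd) (by norm_num)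
    exact hle ▸ (⟨y.2, hyc⟩ : (y : G) ∈ (S : Subgroup G) ⊓ centralizer ({τ} : Set G))
  refine J_normal_of_cyclic_two S fun n hn => ?_
  rw [← hSeq] at hn ⊢
  have h1 := (mem_normalizer_iff.1 hn τ).1 (mem_zpowers τ)
  obtain ⟨q, hq⟩ := h1
  have hq' : τ ^ q = n * τ * n⁻¹ := hq
  have hnc : n * τ = τ * n := by
    rcases Int.even_or_odd' q with ⟨r, rfl | rfl⟩
    · rw [zpow_mul, zpow_two, p2_sq, one_zpow, eq_comm, conj_eq_one_iff] at hq'
      exact absurd hq' (p2_ne_one F)
    · rw [zpow_add, zpow_mul, zpow_two, p2_sq, one_zpow, one_mul, zpow_one] at hq'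
      exact mul_inv_eq_iff_eq_mul.1 hq'.symm
  exact mem_centralizer_iff.2 fun z hz => by
    obtain ⟨r, rfl⟩ := hz
    exact ((show Commute n τ from hnc).zpow_right r).eq.symm

/-- The signs are scalars. -/
theorem normal_of_caseOne (h : F.IsCase 1) : F.J.Normal := by
  classical
  haveI : Fact (Nat.Prime 2) := ⟨Nat.prime_two⟩
  haveI : Fact (Nat.Prime 3) := ⟨Nat.prime_three⟩
  obtain ⟨c15, c15', c150, c9, ccomm, cfix, cstab, c70, c700, c71, csc, ckm⟩ := caseI_facts
  have hsc := h.smallCent (by decide)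
  set τ := F.p 2 with hτ
  have hττ : τ * τ = 1 := p2_sq F
  have hτ1 : τ ≠ 1 := p2_ne_one F
  obtain ⟨ι, -, hιa, hιτ, hιι⟩ := h.exists_inv_lift hττ (F.actsAs_p 2) c71 c70 c700
  have hzact : F.ActsAs (τ * ι) 7 2 := by
    have := (F.actsAs_p 2).comp hιa
    rwa [csc, ckm] at this
  set z := τ * ι with hzdef
  have hzz : z * z = 1 := by
    rw [hzdef, mul_assoc, ← mul_assoc ι, hιτ, mul_assoc, hιι, mul_one, hττ]
  have hzτ : z * τ = τ * z := by rw [hzdef, mul_assoc, hιτ]
  have hι1 : ι ≠ 1 := fun e => by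
    have hid : F.ActsAs (1 : G) 0 0 := fun i => by
      show _ = F.v (act 0 0 i)
      rw [act_facts.1]; group
    rw [e] at hιa
    exact absurd (F.actsAs_unique hιa hid).1 (by decide)
  have hιne : τ ≠ ι := fun e => by
    rw [← e] at hιa
    exact absurd (F.actsAs_unique hιa (F.actsAs_p 2)).1 (by decide)
  have hz1 : z ≠ 1 := fun e => hιne (by
    rw [hzdef] at e
    rw [← inv_eq_of_mul_eq_one_right hττ]; exact inv_eq_of_mul_eq_one_right e)
  have hτz : τ ≠ z := fun e => hι1 (left_eq_mul.1 e)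
  have hιz : ι ≠ z := fun e => hτ1 (right_eq_mul.1 e)
  have hnotconj : ∀ g : G, g * τ * g⁻¹ ≠ z := h.not_conj_tau hsc hzz hzact c150 c15 c9
  -- the four-group
  let R : Subgroup G :=
    { carrier := {g | g = 1 ∨ g = τ ∨ g = ι ∨ g = z}
      one_mem' := Or.inl rfl
      mul_mem' := by
        have a1 : τ * ι = z := rfl
        have a2 : ι * τ = z := hιτ
        have a3 : τ * z = ι := by rw [hzdef, ← mul_assoc, hττ, one_mul]
        have a4 : z * τ = ι := hzτ.trans a3
        have a5 : ι * z = τ := by rw [← a2, ← mul_assoc, hιι, one_mul]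
        have a6 : z * ι = τ := by rw [hzdef, mul_assoc, hιι, mul_one]
        rintro a b (rfl | rfl | rfl | rfl) (rfl | rfl | rfl | rfl) <;>
          simp [Set.mem_setOf_eq, hττ, hιι, hzz, a1, a2, a3, a4, a5, a6]
      inv_mem' := by
        rintro a (rfl | rfl | rfl | rfl)
        · exact Or.inl inv_one
        · exact Or.inr (Or.inl (inv_eq_of_mul_eq_one_right hττ))
        · exact Or.inr (Or.inr (Or.inl (inv_eq_of_mul_eq_one_right hιι)))
        · exact Or.inr (Or.inr (Or.inr (inv_eq_of_mul_eq_one_right hzz))) }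
  have hτR : τ ∈ R := Or.inr (Or.inl rfl)
  have hιR : ι ∈ R := Or.inr (Or.inr (Or.inl rfl))
  have hzR : z ∈ R := Or.inr (Or.inr (Or.inr rfl))
  have hRel : ∀ r ∈ R, r = 1 ∨ r = τ ∨ r = ι ∨ r = z := fun r hr => hr
  have hRc : R ≤ centralizer ({τ} : Set G) := fun r hr => mem_centralizer_singleton_iff.2 (by
    rcases hRel r hr with rfl | rfl | rfl | rfl
    exacts [by rw [one_mul, mul_one], rfl, hιτ, hzτ])
  have hRcard : Nat.card R = 4 := by
    have e : (R : Set G) = ↑({1, τ, ι, z} : Finset G) := by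
      ext g; simp [R]
    show Nat.card (R : Set G) = 4
    rw [e, Nat.card_coe_set_eq, Set.ncard_coe_finset]
    simp [Finset.card_insert_of_notMem, hτ1.symm, hι1.symm, hz1.symm, hιne, hτz, hιz]
  have hR2 : IsPGroup 2 R := IsPGroup.of_card (n := 2) (by rw [hRcard]; rfl)
  have hC36 : Nat.card (centralizer ({τ} : Set G)) = 36 := by rw [h.card_cent_tau hsc]; rfl
  have twoR : ∀ Q : Subgroup G, IsPGroup 2 Q → R ≤ Q → ∀ y ∈ Q, y * τ = τ * y → y ∈ R := by
    intro Q hQ hRQ y hy hyτ
    have hle : R = Q ⊓ centralizer ({τ} : Set G) := by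
      refine eq_of_le_of_card_ge (le_inf hRQ hRc) ?_
      obtain ⟨a, ha⟩ := (hQ.to_le (inf_le_left (b := centralizer ({τ} : Set G)))).exists_card_eq
      rw [ha, hRcard]
      have hd := card_dvd_of_le (inf_le_right (a := Q) (b := centralizer ({τ} : Set G)))
      rw [ha, hC36] at hd
      rcases Nat.lt_or_ge a 3 with ha2 | ha2
      · interval_cases a <;> norm_num
      · exact absurd ((pow_dvd_pow 2 ha2).trans hd) (by norm_num)
    rw [hle]
    exact ⟨hy, mem_centralizer_singleton_iff.2 hyτ⟩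
  obtain ⟨S, hS⟩ := hR2.exists_le_sylow
  by_cases hSR : (S : Subgroup G) = R
  · refine J_normal_of_cyclic_two S fun n hn => ?_
    rw [hSR] at hn ⊢
    have hm : ∀ w : G, w ∈ normalizer (R : Set G) → w * τ * w⁻¹ = τ → ∀ r ∈ R, w * r * w⁻¹ = r := by
      intro w hw hwτ
      have hwC : w ∈ centralizer ({τ} : Set G) :=
        mem_centralizer_singleton_iff.2 (mul_inv_eq_iff_eq_mul.1 hwτ)
      have hwι : w * ι * w⁻¹ = ι := by
        rcases hRel _ ((mem_normalizer_iff.1 hw ι).1 hιR) with e | e | e | e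
        · exact absurd (conj_eq_one_iff.1 e) hι1
        · rw [← hwτ] at e
          exact absurd (mul_left_cancel (mul_right_cancel e)).symm hιne
        · exact e
        · exfalso
          have hwN := h.cent_tau_le hsc hwC
          obtain ⟨s, k, hs, hsk⟩ := h.exists_act hwN
          have hιconj : F.ActsAs (w * ι * w⁻¹) 7 0 := fun i => by
            obtain ⟨b, hb⟩ := (mem_normalizer_iff.1 (inv_mem hwN) _).1 (F.v_mem i)
            rw [inv_inv] at hb
            have key : ∀ s k b, act s k (act 7 0 b) = act 7 0 (act s k b) := by decide +kernel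
            show _ = F.v (act 7 0 i)
            rw [show w * ι * w⁻¹ * F.v i * (w * ι * w⁻¹)⁻¹ = w * (ι * (w⁻¹ * F.v i * w) * ι⁻¹) * w⁻¹ by group,
              ← hb, actsAs_act hιa, actsAs_act hsk, key]
            refine congrArg (fun c => F.v (act 7 0 c)) (F.vinj ?_)
            rw [← actsAs_act hsk, hb]; group
          rw [e] at hιconj
          exact absurd (F.actsAs_unique hιconj hzact).2 (by decide)
      intro r hr
      rcases hRel r hr with rfl | rfl | rfl | rfl
      · group
      · exact hwτ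
      · exact hwι
      · calc w * (τ * ι) * w⁻¹ = (w * τ * w⁻¹) * (w * ι * w⁻¹) := by group
          _ = τ * ι := by rw [hwτ, hwι]
    have hnτ : n * τ * n⁻¹ = τ := by
      rcases hRel _ ((mem_normalizer_iff.1 hn τ).1 hτR) with e | e | e | e
      · exact absurd (conj_eq_one_iff.1 e) hτ1
      · exact e
      swap
      · exact absurd e (hnotconj n)
      exfalso
      -- `n` swaps `τ` and `ι`, so its square commutes with both
      have hnz : n * z * n⁻¹ = z := by
        rcases hRel _ ((mem_normalizer_iff.1 hn z).1 hzR) with e' | e' | e' | e'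
        · exact absurd (conj_eq_one_iff.1 e') hz1
        · exact absurd (show n⁻¹ * τ * n⁻¹⁻¹ = z by rw [← e']; group) (hnotconj n⁻¹)
        · rw [← e] at e'
          exact absurd (mul_left_cancel (mul_right_cancel e')).symm hτz
        · exact e'
      have hnι : n * ι * n⁻¹ = τ := by
        have e2 : ι = τ * z := by rw [hzdef, ← mul_assoc, hττ, one_mul]
        calc n * ι * n⁻¹ = (n * τ * n⁻¹) * (n * z * n⁻¹) := by rw [e2]; group
          _ = ι * z := by rw [e, hnz]
          _ = τ := by rw [hzdef, ← mul_assoc, hιτ, mul_assoc, hιι, mul_one]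
      obtain ⟨a, b, hb, hab⟩ := Nat.exists_eq_pow_mul_and_not_dvd (orderOf_pos n).ne' 2 (by norm_num)
      have hpw : ∀ j : ℕ, (n ^ (2 * j)) * τ * (n ^ (2 * j))⁻¹ = τ := by
        intro j
        induction j with
        | zero => simp
        | succ j ih =>
          calc n ^ (2 * (j + 1)) * τ * (n ^ (2 * (j + 1)))⁻¹
              = n * (n * (n ^ (2 * j) * τ * (n ^ (2 * j))⁻¹) * n⁻¹) * n⁻¹ := by
                rw [show 2 * (j + 1) = 2 * j + 1 + 1 by ring, pow_succ', pow_succ']; group
            _ = τ := by rw [ih, e, hnι]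
      obtain ⟨j, hj⟩ := Nat.odd_iff.2 (show b % 2 = 1 by omega)
      have hodd : n ^ b * τ * (n ^ b)⁻¹ = ι := by
        rw [hj, pow_succ', show n * n ^ (2 * j) * τ * (n * n ^ (2 * j))⁻¹ =
          n * (n ^ (2 * j) * τ * (n ^ (2 * j))⁻¹) * n⁻¹ by group, hpw, e]
      have hpg : IsPGroup 2 ↥(zpowers (n ^ b)) := by
        refine IsPGroup.of_card (n := a) ?_
        rw [Nat.card_zpowers, orderOf_pow_of_dvd (by omega) ⟨2 ^ a, by rw [hab, mul_comm]⟩, hab,
          Nat.mul_div_cancel _ (by omega)]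
      have hin : n ^ b ∈ (S : Subgroup G) := by
        have h1 : zpowers (n ^ b) ⊓ normalizer ((S : Subgroup G) : Set G) ≤ (S : Subgroup G) :=
          (hpg.inf_normalizer_sylow S).le.trans inf_le_right
        exact h1 ⟨mem_zpowers _, pow_mem (by rw [hSR]; exact hn) b⟩
      rw [hSR] at hin
      rw [mem_centralizer_singleton_iff.1 (hRc hin), mul_inv_cancel_right] at hodd
      exact hιne hodd
    exact mem_centralizer_iff.2 fun r hr => ((mul_inv_eq_iff_eq_mul.1 (hm n hn hnτ r hr))).symm
  · -- a larger Sylow subgroup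
    haveI : Group.IsNilpotent (S : Subgroup G) := S.isPGroup'.isNilpotent
    have hlt : R.subgroupOf (S : Subgroup G) < ⊤ := by
      rw [lt_top_iff_ne_top, Ne, subgroupOf_eq_top]
      exact fun h' => hSR (le_antisymm h' hS)
    obtain ⟨y, hy, hyR⟩ := SetLike.exists_of_lt (Group.normalizerCondition_of_isNilpotent _ hlt)
    rw [mem_subgroupOf] at hyR
    set n := (y : G) with hn
    have hnR : ∀ r ∈ R, n * r * n⁻¹ ∈ R := fun r hr => (mem_normalizer_iff.1 hy ⟨r, hS hr⟩).1 hr
    have hnτ : n * τ * n⁻¹ = ι := by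
      rcases hRel _ (hnR τ hτR) with e | e | e | e
      · exact absurd (conj_eq_one_iff.1 e) hτ1
      · exact absurd (twoR _ S.isPGroup' hS n y.2 (mul_inv_eq_iff_eq_mul.1 e)) hyR
      · exact e
      · exact absurd e (hnotconj n)
    have h8 : 8 ∣ Nat.card G := by
      obtain ⟨a, ha⟩ := S.isPGroup'.exists_card_eq
      have h4 : Nat.card R < Nat.card (S : Subgroup G) := by
        refine Nat.lt_of_le_of_ne (card_le_of_le hS) fun e => hSR (eq_of_le_of_card_ge hS e.ge).symm
      rw [hRcard, ha] at h4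
      have ha3 : 3 ≤ a := by
        by_contra hlt'
        push Not at hlt'
        interval_cases a <;> norm_num at h4
      exact ((pow_dvd_pow 2 ha3).trans (dvd_of_eq ha.symm)).trans (card_subgroup_dvd_card _)
    -- the subgroup of index two
    have h36 : 36 ∣ Nat.card G := hC36 ▸ card_subgroup_dvd_card _
    have hidx : 2 * (zpowers τ).index = Nat.card G := by
      rw [← card_mul_index (zpowers τ), Nat.card_zpowers, orderOf_p2]
    obtain ⟨M, hM, hτM⟩ := exists_index_two (zpowers τ) hττ (mem_zpowers τ)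
      (zpowers_le.2 (mem_centralizer_singleton_iff.2 rfl)) (fun g hg => by
        obtain ⟨q, hq⟩ := hg
        replace hq : τ ^ q = g * τ * g⁻¹ := hq
        rcases Int.even_or_odd' q with ⟨r, rfl | rfl⟩
        · rw [show τ ^ (2 * r) = 1 by rw [zpow_mul, zpow_two, hττ, one_zpow], eq_comm, conj_eq_one_iff] at hq
          exact absurd hq hτ1
        · rw [show τ ^ (2 * r + 1) = τ by rw [zpow_add, zpow_mul, zpow_two, hττ, one_zpow, one_mul, zpow_one]] at hq
          exact hq.symm) (f := 18) (by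
        have h1 := card_mul_index ((zpowers τ).subgroupOf (centralizer ({τ} : Set G)))
        rw [Nat.card_congr (subgroupOfEquivOfLe (zpowers_le.2 (mem_centralizer_singleton_iff.2 rfl))).toEquiv,
          Nat.card_zpowers, orderOf_p2, hC36] at h1
        show ((zpowers τ).subgroupOf (centralizer ({τ} : Set G))).index = 18
        omega) (by
        obtain ⟨q, hq⟩ := Nat.dvd_trans (show 72 ∣ Nat.lcm 8 36 by decide) (Nat.lcm_dvd h8 h36)
        have hpos : 0 < Nat.card G := Nat.card_pos
        rw [Nat.odd_iff]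
        omega)
    haveI hMn : M.Normal := normal_of_index_eq_two hM
    have hιM : ι ∉ M := fun hm => hτM (by
      have h1 := hMn.conj_mem ι hm n⁻¹
      rwa [← hnτ, show n⁻¹ * (n * τ * n⁻¹) * n⁻¹⁻¹ = τ by group] at h1)
    have hzM : z ∈ M := by
      rw [hzdef, mul_mem_iff_of_index_two hM]
      exact iff_of_false hτM hιM
    have h3M : ∀ {g : G}, g ^ 3 = 1 → g ∈ M := fun {g} hg => by
      rw [show g = (g ^ 2) ^ 2 by
        rw [← pow_mul, show 2 * 2 = 3 + 1 by rfl, pow_add, hg, one_mul, pow_one]]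
      exact pow_mem (sq_mem_of_index_two hM g) 2
    set d := F.v 15 with hd
    have hzd : z * d = d * z := ((comm_v_iff hzact 15).2 c15).symm
    have hd3 : d ^ 3 = 1 := F.v_cube 15
    have hd1 : d ≠ 1 := fun e => c150 (F.v_eq_one.1 e)
    set X := centralizer ({z} : Set G) ⊓ M with hX
    have hdX : d ∈ X := ⟨mem_centralizer_singleton_iff.2 hzd.symm, h3M hd3⟩
    have hzX : z ∈ X := ⟨mem_centralizer_singleton_iff.2 rfl, hzM⟩
    have hτd : τ * d * τ⁻¹ = d⁻¹ := by rw [hd, hτ, actsAs_act (F.actsAs_p 2), c15', F.v_inv]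
    have hτX : ∀ g ∈ X, τ * g * τ⁻¹ ∈ X := fun g hg => by
      refine ⟨mem_centralizer_singleton_iff.2 ?_, hMn.conj_mem g hg.2 τ⟩
      have e : τ * z * τ⁻¹ = z := by rw [← hzτ, mul_inv_cancel_right]
      conv_lhs => arg 2; rw [← e]
      conv_rhs => arg 1; rw [← e]
      rw [conj_mul, conj_mul, mem_centralizer_singleton_iff.1 hg.1]
    -- the centralizer of `d` in `X`
    have hXd : ∀ g ∈ X, g * d = d * g → g ∈ zpowers d ∨ ∃ r ∈ zpowers d, g = z * r := by
      intro g hg hgd
      obtain ⟨s, k, hs, hsk⟩ := h.exists_act (hsc 15 c150 g hgd)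
      have hgz := mem_centralizer_singleton_iff.1 hg.1
      have hcm : ∀ i, act s k (act 7 2 i) = act 7 2 (act s k i) := fun i => F.vinj (by
        rw [← actsAs_act hsk, ← actsAs_act hzact, ← actsAs_act hzact, ← actsAs_act hsk,
          show g * (z * F.v i * z⁻¹) * g⁻¹ = (g * z) * F.v i * (g * z)⁻¹ by group, hgz]
        group)
      have hmem : ∀ r ∈ F.J, r * z = z * r → r ∈ zpowers d := by
        rintro _ ⟨b, rfl⟩ hb
        have key : ∀ b, act 7 2 b = b → b ∈ mult 15 := by decide +kernel
        exact mem_zpowers_v.2 ⟨b, key b ((comm_v_iff hzact b).1 hb), rfl⟩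
      rcases cstab s k hs hcm ((comm_v_iff hsk 15).1 hgd.symm) with ⟨rfl, rfl⟩ | ⟨rfl, rfl⟩
      · exact Or.inl (hmem g (mem_J_of_act hsk) hgz)
      · refine Or.inr ⟨z * g, hmem _ ?_ ?_, by rw [← mul_assoc, hzz, one_mul]⟩
        · have h1 := inv_mul_mem_J hzact hsk
          rwa [inv_eq_of_mul_eq_one_right hzz] at h1
        · rw [mul_assoc, hgz]
    set D := (zpowers d).subgroupOf X with hD
    have hdpow : ∀ r ∈ zpowers d, r * z = z * r ∧ r ^ 3 = 1 := by
      rintro _ ⟨q, rfl⟩
      exact ⟨((show Commute z d from hzd).zpow_right q).eq.symm, by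
        rw [← zpow_natCast, ← zpow_mul, mul_comm, zpow_mul, zpow_natCast, hd3, one_zpow]⟩
    have hdD : (⟨d, hdX⟩ : X) ∈ D := mem_zpowers d
    have hD3 : IsPGroup 3 D := fun r => ⟨1, Subtype.ext (Subtype.ext (by simpa using (hdpow _ r.2).2))⟩
    have hconjd : ∀ w : X, w ∈ normalizer (D : Set X) →
        (w : G) * d * (w : G)⁻¹ = d ∨ (w : G) * d * (w : G)⁻¹ = d⁻¹ := fun w hw => by
      obtain ⟨w', hw', e⟩ := mem_zpowers_v.1 (mem_subgroupOf.1 ((mem_normalizer_iff.1 hw _).1 hdD))
      simp only [Subgroup.coe_mul, InvMemClass.coe_inv] at e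
      simp only [mult, List.mem_cons, List.not_mem_nil, or_false] at hw'
      rcases hw' with rfl | rfl | rfl
      · rw [F.v0, conj_eq_one_iff] at e
        exact absurd e hd1
      · exact Or.inl e
      · exact Or.inr (by rw [e, hd, F.v_inv])
    obtain ⟨R3, hR3⟩ := hD3.exists_le_sylow
    have hR3D : (R3 : Subgroup X) = D := by
      by_contra hne
      haveI : Group.IsNilpotent (R3 : Subgroup X) := R3.isPGroup'.isNilpotent
      have hlt' : D.subgroupOf (R3 : Subgroup X) < ⊤ := by
        rw [lt_top_iff_ne_top, Ne, subgroupOf_eq_top]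
        exact fun h' => hne (le_antisymm h' hR3)
      obtain ⟨w, hw, hwD⟩ := SetLike.exists_of_lt (Group.normalizerCondition_of_isNilpotent _ hlt')
      refine hwD (mem_subgroupOf.2 ?_)
      have hwN : (w : X) ∈ normalizer (D : Set X) :=
        Fusion.le_normalizer_of_conj_mem fun b hb => (mem_normalizer_iff.1 hw ⟨b, hR3 hb⟩).1 hb
      obtain ⟨e, he⟩ := R3.isPGroup' w
      have he' : ((w : X) : G) ^ 3 ^ e = 1 := by
        have := congrArg (fun q : (R3 : Subgroup X) => ((q : X) : G)) he
        simpa using this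
      have hfix := mul_inv_eq_iff_eq_mul.1 (commute_of_conj_inv (hconjd _ hwN) he')
      rcases hXd _ (w : X).2 hfix with hh | ⟨r, hr, hh⟩
      · exact hh
      · exfalso
        rw [hh, (show Commute z r from (hdpow r hr).1.symm).mul_pow] at he'
        rcases e with _ | e
        · rw [pow_zero, pow_one, pow_one] at he'
          have h2 : z = r⁻¹ := eq_inv_of_mul_eq_one_left he'
          have h3 := (hdpow r hr).2
          rw [← inv_inv r, ← h2, inv_eq_of_mul_eq_one_right hzz, pow_succ, pow_two, hzz, one_mul] at h3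
          exact hz1 h3
        · rw [show r ^ 3 ^ (e + 1) = 1 by rw [pow_succ', pow_mul, (hdpow r hr).2, one_pow], mul_one] at he'
          obtain ⟨q, hq⟩ := Nat.odd_iff.2 (show 3 ^ (e + 1) % 2 = 1 by rw [Nat.pow_mod]; simp)
          rw [hq, pow_succ, pow_mul, pow_two, hzz, one_pow, one_mul] at he'
          exact hz1 he'
    have hcen : normalizer ((R3 : Subgroup X) : Set X) ≤ centralizer ((R3 : Subgroup X) : Set X) := by
      rw [hR3D]
      intro w hw
      have hwd : (w : G) * d = d * (w : G) := by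
        rcases hconjd w hw with e | e
        · exact mul_inv_eq_iff_eq_mul.1 e
        exfalso
        -- then `w` lies in `N(J)` and its action gives `τ` or `ι` in `M`
        have hτw : (τ * (w : G)) * d = d * (τ * (w : G)) := by
          rw [← mul_inv_eq_iff_eq_mul]
          calc τ * (w : G) * d * (τ * (w : G))⁻¹ = τ * ((w : G) * d * (w : G)⁻¹) * τ⁻¹ := by group
            _ = (τ * d * τ⁻¹)⁻¹ := by rw [e]; group
            _ = d := by rw [hτd, inv_inv]
        have hwN : (w : G) ∈ normalizer (F.J : Set G) := by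
          have := mul_mem (inv_mem (F.p_mem_normalizer 2)) (hsc 15 c150 _ hτw)
          rwa [← hτ, inv_mul_cancel_left] at this
        obtain ⟨s, k, hs, hsk⟩ := h.exists_act hwN
        have hwz := mem_centralizer_singleton_iff.1 w.2.1
        have hcm : ∀ i, act s k (act 7 2 i) = act 7 2 (act s k i) := fun i => F.vinj (by
          rw [← actsAs_act hsk, ← actsAs_act hzact, ← actsAs_act hzact, ← actsAs_act hsk,
            show (w : G) * (z * F.v i * z⁻¹) * (w : G)⁻¹ = ((w : G) * z) * F.v i * ((w : G) * z)⁻¹ by group, hwz]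
          group)
        have key : ∀ s k, signSets 1 s = true → (∀ i, act s k (act 7 2 i) = act 7 2 (act s k i)) →
            act s k 15 ≠ 15 → (s = 0 ∧ k = 2) ∨ (s = 7 ∧ k = 0) := by decide +kernel
        have hne' : act s k 15 ≠ 15 := fun e' => by
          rw [hd, actsAs_act hsk, e', ← hd] at e
          exact Sig.ne_inv_of_cube hd3 hd1 e.symm
        have hJM : ∀ r ∈ F.J, r ∈ M := fun r hr => h3M (F.J_cube hr)
        rcases key s k hs hcm hne' with ⟨rfl, rfl⟩ | ⟨rfl, rfl⟩
        · refine hτM ?_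
          have h1 := inv_mem (hJM _ (inv_mul_mem_J (F.actsAs_p 2) hsk))
          rw [mul_inv_rev, inv_inv] at h1
          have h2 := mul_mem w.2.2 h1
          rwa [mul_inv_cancel_left] at h2
        · refine hιM ?_
          have h1 := inv_mem (hJM _ (inv_mul_mem_J hιa hsk))
          rw [mul_inv_rev, inv_inv] at h1
          have h2 := mul_mem w.2.2 h1
          rwa [mul_inv_cancel_left] at h2
      refine mem_centralizer_iff.2 fun r hr => Subtype.ext ?_
      obtain ⟨q, hq⟩ := (mem_subgroupOf.1 hr)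
      simp only [Subgroup.coe_mul]
      rw [← hq]
      exact ((show Commute (w : G) d from hwd).zpow_right q).eq.symm
    set K := (MonoidHom.transferSylow R3 hcen).ker with hKdef
    have hK3 : ¬ 3 ∣ Nat.card K := MonoidHom.not_dvd_card_ker_transferSylow R3 hcen
    have hKn : K.Normal := MonoidHom.normal_ker _
    have hKcop : (Nat.card K).Coprime 3 := ((Nat.Prime.coprime_iff_not_dvd Nat.prime_three).2 hK3).symm
    have hKmem : ∀ w : X, ∀ a : ℕ, w ^ a = 1 → a.Coprime 3 → w ∈ K := fun w a hw ha => by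
      obtain ⟨e, he⟩ := R3.isPGroup' (MonoidHom.transferSylow R3 hcen w)
      exact MonoidHom.mem_ker.2 (orderOf_eq_one_iff.1 (Nat.eq_one_of_dvd_coprimes (ha.pow_right e)
        (orderOf_dvd_of_pow_eq_one (by rw [← map_pow, hw, map_one])) (orderOf_dvd_of_pow_eq_one he)))
    have hzK : (⟨z, hzX⟩ : X) ∈ K := hKmem _ 2 (Subtype.ext (by simp [pow_two, hzz])) (by norm_num)
    -- a Sylow 2-subgroup of `K` invariant under `d` and `τ`
    have hDK : ∀ r ∈ D, ∀ w ∈ K, r * w * r⁻¹ ∈ K := fun r _ w hw => hKn.conj_mem w hw r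
    let φ : D →* MulAut K := (MulAut.conjNormal (H := K)).comp D.subtype
    letI : MulDistribMulAction D K := MulDistribMulAction.compHom K φ
    have hnum : ¬ 3 ∣ Nat.card (Sylow 2 K) := fun h3 => hK3 (h3.trans ((Classical.arbitrary (Sylow 2 K)).card_dvd_index.trans (index_dvd_card _)))
    obtain ⟨Q0, hQ0⟩ := hD3.nonempty_fixed_point_of_prime_not_dvd_card (Sylow 2 K) hnum
    set Qx := (Q0 : Subgroup K).map K.subtype with hQx
    have hQ2 : IsPGroup 2 Qx := Q0.isPGroup'.map _
    have hQK : Qx ≤ K := by rintro _ ⟨w, -, rfl⟩; exact w.2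
    have hQd : ∀ r ∈ D, ∀ w ∈ Qx, r * w * r⁻¹ ∈ Qx := by
      rintro r hr _ ⟨w, hw, rfl⟩
      have h1 : (⟨r, hr⟩ : D) • Q0 = Q0 := hQ0 ⟨r, hr⟩
      refine ⟨φ ⟨r, hr⟩ w, ?_, by simp [φ, MulAut.conjNormal_apply]⟩
      rw [← h1]
      exact ⟨w, hw, rfl⟩
    have hmax : ∀ Q' : Subgroup X, IsPGroup 2 Q' → ∃ g ∈ K, ∀ w ∈ Q', g * w * g⁻¹ ∈ Qx := by
      intro Q' hQ'
      have hle : Q' ≤ K := fun w hw => by
        obtain ⟨e, he⟩ := hQ' ⟨w, hw⟩
        exact hKmem w _ (congrArg Subtype.val he) ((show Nat.Coprime 2 3 by norm_num).pow_left e)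
      obtain ⟨Q1, hQ1⟩ := (hQ'.of_equiv (subgroupOfEquivOfLe hle).symm).exists_le_sylow
      obtain ⟨g, hg⟩ := MulAction.exists_smul_eq K Q1 Q0
      refine ⟨g, g.2, fun w hw => ⟨g * ⟨w, hle hw⟩ * g⁻¹, ?_, by simp⟩⟩
      show g * ⟨w, hle hw⟩ * g⁻¹ ∈ (Q0 : Subgroup K)
      rw [← hg, Sylow.coe_subgroup_smul, mem_pointwise_smul_iff_inv_smul_mem]
      simpa [MulAut.smul_def, mul_assoc] using hQ1 (show (⟨w, hle hw⟩ : K) ∈ Q'.subgroupOf K from hw)
    have hzc : ∀ w : X, w * ⟨z, hzX⟩ = ⟨z, hzX⟩ * w := fun w =>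
      Subtype.ext (mem_centralizer_singleton_iff.1 w.2.1)
    have hzQ : (⟨z, hzX⟩ : X) ∈ Qx := by
      have hp : IsPGroup 2 (zpowers (⟨z, hzX⟩ : X)) := IsPGroup.of_card (n := 1) (by
        rw [Nat.card_zpowers, pow_one]
        exact orderOf_eq_prime (Subtype.ext (by simp [pow_two, hzz])) fun e => hz1 (congrArg Subtype.val e))
      obtain ⟨g, -, hg⟩ := hmax _ hp
      have := hg _ (mem_zpowers _)
      rwa [hzc, mul_inv_cancel_right] at this
    have hQτ : ∀ w ∈ Qx, (⟨τ * (w : G) * τ⁻¹, hτX _ w.2⟩ : X) ∈ Qx := by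
      -- the invariant Sylow subgroup is unique
      let Qt : Subgroup X :=
        { carrier := {w | (⟨τ * (w : G) * τ⁻¹, hτX _ w.2⟩ : X) ∈ Qx}
          one_mem' := by
            show _ ∈ Qx
            convert one_mem Qx using 1
            exact Subtype.ext (by simp)
          mul_mem' := fun {a b} ha hb => by
            show _ ∈ Qx
            convert mul_mem (show (⟨τ * (a : G) * τ⁻¹, hτX _ a.2⟩ : X) ∈ Qx from ha)
              (show (⟨τ * (b : G) * τ⁻¹, hτX _ b.2⟩ : X) ∈ Qx from hb) using 1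
            exact Subtype.ext (by simp [mul_assoc])
          inv_mem' := fun {a} ha => by
            show _ ∈ Qx
            convert inv_mem (show (⟨τ * (a : G) * τ⁻¹, hτX _ a.2⟩ : X) ∈ Qx from ha) using 1
            exact Subtype.ext (by simp [mul_assoc]) }
      have hQt : IsPGroup 2 Qt := fun w => by
        obtain ⟨e, he⟩ := hQ2 ⟨_, w.2⟩
        refine ⟨e, Subtype.ext (Subtype.ext ?_)⟩
        have h1 : (τ * ((w : X) : G) * τ⁻¹) ^ 2 ^ e = 1 := by
          have := congrArg (fun q : Qx => ((q : X) : G)) he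
          simpa using this
        rw [conj_pow, conj_eq_one_iff] at h1
        simpa using h1
      obtain ⟨g, hgK, hg⟩ := hmax Qt hQt
      -- `g` conjugates it onto `Qx`
      have hQtd : ∀ r ∈ D, ∀ w ∈ Qt, r * w * r⁻¹ ∈ Qt := by
        intro r hr w hw
        show _ ∈ Qx
        have h1 := hQd r⁻¹ (inv_mem hr) _ hw
        convert h1 using 1
        refine Subtype.ext ?_
        simp only [Subgroup.coe_mul, InvMemClass.coe_inv, inv_inv]
        have hr' : τ * (r : G) * τ⁻¹ = (r : G)⁻¹ := by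
          obtain ⟨q, hq⟩ := mem_subgroupOf.1 hr
          rw [← hq, ← conj_zpow, hτd, inv_zpow]
        calc τ * ((r : G) * (w : G) * (r : G)⁻¹) * τ⁻¹
            = (τ * (r : G) * τ⁻¹) * (τ * (w : G) * τ⁻¹) * (τ * (r : G) * τ⁻¹)⁻¹ := by group
          _ = _ := by rw [hr', inv_inv]
      have hQxQt : ∀ w, w ∈ Qx → g⁻¹ * w * g ∈ Qt := by
        have hcardeq : Nat.card Qt = Nat.card Qx := by
          refine Nat.card_eq_of_bijective (fun w => (⟨_, w.2⟩ : Qx)) ⟨fun a b e => ?_, fun w => ?_⟩
          · have := congrArg (fun q : Qx => ((q : X) : G)) e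
            exact Subtype.ext (Subtype.ext (mul_left_cancel (mul_right_cancel this)))
          · refine ⟨⟨⟨τ * ((w : X) : G) * τ⁻¹, hτX _ (w : X).2⟩, ?_⟩, Subtype.ext (Subtype.ext ?_)⟩
            · show _ ∈ Qx
              convert w.2 using 1
              refine Subtype.ext ?_
              calc τ * (τ * ((w : X) : G) * τ⁻¹) * τ⁻¹ = (τ * τ) * ((w : X) : G) * (τ * τ)⁻¹ := by group
                _ = ((w : X) : G) := by rw [hττ]; group
            · calc τ * (τ * ((w : X) : G) * τ⁻¹) * τ⁻¹ = (τ * τ) * ((w : X) : G) * (τ * τ)⁻¹ := by group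
                _ = ((w : X) : G) := by rw [hττ]; group
        intro w hw
        have hbij : Function.Bijective (fun q : Qt => (⟨g * (q : X) * g⁻¹, hg _ q.2⟩ : Qx)) :=
          (Nat.bijective_iff_injective_and_card _).2 ⟨fun a b e => Subtype.ext
            (mul_left_cancel (mul_right_cancel (congrArg Subtype.val e))), hcardeq⟩
        obtain ⟨v, hv⟩ := hbij.2 ⟨w, hw⟩
        have hv' : g * (v : X) * g⁻¹ = w := congrArg Subtype.val hv
        rw [← hv']
        simpa [mul_assoc] using v.2
      -- conjugate the two copies of `D` inside the normalizer of `Qx`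
      have hN : ∀ r ∈ D, g * r * g⁻¹ ∈ normalizer (Qx : Set X) := fun r hr =>
        Fusion.le_normalizer_of_conj_mem fun w hw => by
          have h1 := hg _ (hQtd r hr _ (hQxQt w hw))
          rwa [show g * r * g⁻¹ * w * (g * r * g⁻¹)⁻¹ = g * (r * (g⁻¹ * w * g) * r⁻¹) * g⁻¹ by group]
      set Nq := normalizer (Qx : Set X) with hNq
      have hDN : D ≤ Nq := fun r hr => Fusion.le_normalizer_of_conj_mem (hQd r hr)
      have hidxD : ¬ 3 ∣ (D.subgroupOf Nq).index := fun h3 => R3.not_dvd_index (by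
        rw [hR3D]
        exact h3.trans (dvd_trans (dvd_mul_right _ _) (relIndex_mul_index hDN).dvd))
      let S1 : Sylow 3 Nq := (hD3.of_equiv (subgroupOfEquivOfLe hDN).symm).toSylow hidxD
      have hA : D.map (MulAut.conj g).toMonoidHom ≤ Nq := by rintro _ ⟨r, hr, rfl⟩; exact hN r hr
      obtain ⟨S2, hS2⟩ := ((hD3.map (MulAut.conj g).toMonoidHom).of_equiv
        (subgroupOfEquivOfLe hA).symm).exists_le_sylow
      obtain ⟨c, hc⟩ := MulAction.exists_smul_eq Nq S2 S1
      have hcgN : (c : X) * g ∈ normalizer (D : Set X) := by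
        refine Fusion.le_normalizer_of_conj_mem fun r hr => ?_
        have h1 : (c * ⟨g * r * g⁻¹, hN r hr⟩ * c⁻¹ : Nq) ∈ D.subgroupOf Nq := by
          show _ ∈ (S1 : Subgroup Nq)
          rw [← hc, Sylow.coe_subgroup_smul, mem_pointwise_smul_iff_inv_smul_mem]
          simpa [MulAut.smul_def, mul_assoc] using hS2 (show (⟨g * r * g⁻¹, hN r hr⟩ : Nq) ∈
            (D.map (MulAut.conj g).toMonoidHom).subgroupOf Nq from ⟨r, hr, rfl⟩)
        have h2 := mem_subgroupOf.1 h1
        simp only [Subgroup.coe_mul, InvMemClass.coe_inv] at h2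
        rwa [show (c : X) * (g * r * g⁻¹) * (c : X)⁻¹ = (c : X) * g * r * ((c : X) * g)⁻¹ by group] at h2
      have hcgQ : (c : X) * g ∈ Nq := by
        have h1 := hcen (show (c : X) * g ∈ normalizer ((R3 : Subgroup X) : Set X) by rw [hR3D]; exact hcgN)
        have hcomm : ((c : X) : G) * (g : G) * d = d * (((c : X) : G) * (g : G)) := by
          have h2 := mem_centralizer_iff.1 h1 ⟨d, hdX⟩ (by rw [hR3D]; exact hdD)
          simpa using (congrArg Subtype.val h2).symm
        rcases hXd _ ((c : X) * g).2 hcomm with hh | ⟨r, hr, hh⟩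
        · exact hDN hh
        · rw [show (c : X) * g = ⟨z, hzX⟩ * ⟨r, (zpowers_le.2 hdX) hr⟩ from Subtype.ext hh]
          exact mul_mem (Subgroup.le_normalizer hzQ) (hDN hr)
      have hgN : g ∈ Nq := by simpa using mul_mem (inv_mem c.2) hcgQ
      intro w hw
      show w ∈ Qt
      have h1 := hQxQt _ ((mem_normalizer_iff.1 hgN w).1 hw)
      rwa [show g⁻¹ * (g * w * g⁻¹) * g = w by group] at h1
    -- the fixed elements of `τ` on `Qx` modulo `z`
    have hτfix : ∀ w : X, τ * (w : G) * τ⁻¹ = (w : G) → (w : G) = 1 ∨ (w : G) = z := by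
      intro w hw
      have hwτ : (w : G) * τ = τ * (w : G) := (mul_inv_eq_iff_eq_mul.1 hw).symm
      obtain ⟨s, k, hs, hsk⟩ := h.exists_act (h.cent_tau_le hsc (mem_centralizer_singleton_iff.2 hwτ))
      have hcm : ∀ i, act s k (act 0 2 i) = act 0 2 (act s k i) := fun i => F.vinj (by
        rw [← actsAs_act hsk, ← actsAs_act (F.actsAs_p 2), ← actsAs_act (F.actsAs_p 2), ← actsAs_act hsk,
          show (w : G) * (F.p 2 * F.v i * (F.p 2)⁻¹) * (w : G)⁻¹ = ((w : G) * F.p 2) * F.v i * ((w : G) * F.p 2)⁻¹ by group,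
          ← hτ, hwτ]
        group)
      obtain ⟨r, hrR, hra⟩ : ∃ r ∈ R, F.ActsAs r s k := by
        obtain ⟨hs', hk'⟩ := ccomm s k hs hcm
        rcases hs' with rfl | rfl <;> rcases hk' with rfl | rfl
        · exact ⟨1, one_mem _, fun i => by show _ = F.v (act 0 0 i); rw [act_facts.1]; group⟩
        · exact ⟨τ, hτR, F.actsAs_p 2⟩
        · exact ⟨ι, hιR, hιa⟩
        · exact ⟨z, hzR, hzact⟩
      have hrz : r * z = z * r := by
        rcases hRel r hrR with rfl | rfl | rfl | rfl
        · rw [one_mul, mul_one]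
        · exact hzτ.symm
        · rw [hzdef, ← mul_assoc, hιτ]
        · rfl
      obtain ⟨b, hb⟩ := inv_mul_mem_J hra hsk
      have hb1 : F.v b * τ = τ * F.v b := by
        rw [hb]
        exact ((show Commute r τ from mem_centralizer_singleton_iff.1 (hRc hrR)).inv_left.mul_left hwτ).eq
      have hb2 : F.v b * z = z * F.v b := by
        rw [hb]
        exact ((show Commute r z from hrz).inv_left.mul_left
          (show Commute (w : G) z from mem_centralizer_singleton_iff.1 w.2.1)).eq
      have hb0 := cfix b ((comm_v_iff (F.actsAs_p 2) b).1 hb1) ((comm_v_iff hzact b).1 hb2)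
      rw [hb0, F.v0] at hb
      have hwr : (w : G) = r := (inv_mul_eq_one.1 hb.symm).symm
      have hrM : r ∈ M := hwr ▸ w.2.2
      rcases hRel r hrR with rfl | rfl | rfl | rfl
      exacts [Or.inl hwr, absurd hrM hτM, absurd hrM hιM, Or.inr hwr]
    set zX : X := ⟨z, hzX⟩
    set Z := (zpowers zX).subgroupOf Qx with hZ
    have hzpow : ∀ w ∈ zpowers zX, (w : G) = 1 ∨ (w : G) = z := by
      rintro _ ⟨q, rfl⟩
      show ((zX ^ q : X) : G) = 1 ∨ _
      rw [Subgroup.coe_zpow]
      rcases Int.even_or_odd' q with ⟨r, rfl | rfl⟩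
      · exact Or.inl (by rw [zpow_mul, zpow_two, hzz, one_zpow])
      · exact Or.inr (by rw [zpow_add, zpow_mul, zpow_two, hzz, one_zpow, one_mul, zpow_one])
    haveI : Z.Normal := ⟨fun w hw q => by
      rw [hZ, mem_subgroupOf] at hw ⊢
      obtain ⟨e, he⟩ := hw
      simp only [Subgroup.coe_mul, InvMemClass.coe_inv]
      rw [← he, ((show Commute (q : X) zX from hzc _).zpow_right e).eq, mul_inv_cancel_right]
      exact zpow_mem (mem_zpowers zX) e⟩
    let tQ : Qx →* Qx :=
      { toFun := fun w => ⟨⟨τ * ((w : X) : G) * τ⁻¹, hτX _ (w : X).2⟩, hQτ _ w.2⟩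
        map_one' := Subtype.ext (Subtype.ext (by simp))
        map_mul' := fun a b => Subtype.ext (Subtype.ext (by simp [mul_assoc])) }
    let dQ : Qx →* Qx :=
      { toFun := fun w => ⟨⟨d, hdX⟩ * (w : X) * ⟨d, hdX⟩⁻¹, hQd _ hdD _ w.2⟩
        map_one' := Subtype.ext (by simp)
        map_mul' := fun a b => Subtype.ext (by simp [mul_assoc]) }
    have htQ : ∀ w : Qx, ((tQ w : X) : G) = τ * ((w : X) : G) * τ⁻¹ := fun w => rfl
    have hdQ : ∀ w : Qx, ((dQ w : X) : G) = d * ((w : X) : G) * d⁻¹ := fun w => rfl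
    have hZmem : ∀ w : Qx, w ∈ Z ↔ ((w : X) : G) = 1 ∨ ((w : X) : G) = z := fun w => by
      refine ⟨hzpow _, fun e => ?_⟩
      rw [hZ, mem_subgroupOf]
      rcases e with e | e
      · rw [show (w : X) = 1 from Subtype.ext e]; exact one_mem _
      · rw [show (w : X) = zX from Subtype.ext e]; exact mem_zpowers _
    have htZ : Z ≤ Z.comap tQ := fun w hw => by
      rw [mem_comap, hZmem, htQ]
      rcases (hZmem w).1 hw with e | e <;> rw [e]
      · exact Or.inl (by group)
      · exact Or.inr (by rw [← hzτ, mul_inv_cancel_right])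
    have hdZ : Z ≤ Z.comap dQ := fun w hw => by
      rw [mem_comap, hZmem, hdQ]
      rcases (hZmem w).1 hw with e | e <;> rw [e]
      · exact Or.inl (by group)
      · exact Or.inr (by rw [← hzd, mul_inv_cancel_right])
    have hmk : ∀ {a b : Qx}, QuotientGroup.mk' Z a = QuotientGroup.mk' Z b →
        ((b : X) : G) = ((a : X) : G) ∨ ((b : X) : G) = ((a : X) : G) * z := fun {a b} e => by
      rw [QuotientGroup.mk'_apply, QuotientGroup.mk'_apply, QuotientGroup.eq, hZmem] at e
      simp only [Subgroup.coe_mul, InvMemClass.coe_inv] at e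
      rcases e with e | e
      · exact Or.inl (inv_mul_eq_one.1 e).symm
      · exact Or.inr (by rw [← e, mul_inv_cancel_left])
    have h4 := card_le_four (hQ2.to_quotient Z)
      (QuotientGroup.map Z Z tQ htZ) (QuotientGroup.map Z Z dQ hdZ) ?_ ?_ ?_ ?_ ?_
    rotate_left
    · intro q
      obtain ⟨w, rfl⟩ := QuotientGroup.mk'_surjective Z q
      refine congrArg (QuotientGroup.mk' Z) (Subtype.ext (Subtype.ext ?_))
      rw [htQ, htQ]
      calc τ * (τ * ((w : X) : G) * τ⁻¹) * τ⁻¹ = (τ * τ) * ((w : X) : G) * (τ * τ)⁻¹ := by group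
        _ = ((w : X) : G) := by rw [hττ]; group
    · intro q
      obtain ⟨w, rfl⟩ := QuotientGroup.mk'_surjective Z q
      refine congrArg (QuotientGroup.mk' Z) (Subtype.ext (Subtype.ext ?_))
      rw [hdQ, hdQ, hdQ]
      calc d * (d * (d * ((w : X) : G) * d⁻¹) * d⁻¹) * d⁻¹ = d ^ 3 * ((w : X) : G) * (d ^ 3)⁻¹ := by
            rw [pow_succ, pow_two]; group
        _ = ((w : X) : G) := by rw [hd3]; group
    · intro q
      obtain ⟨w, rfl⟩ := QuotientGroup.mk'_surjective Z q
      refine congrArg (QuotientGroup.mk' Z) (Subtype.ext (Subtype.ext ?_))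
      rw [htQ, hdQ, htQ, hdQ, hdQ]
      have e1 : τ * d * τ⁻¹ = d * d := by
        rw [hτd, eq_comm]
        exact eq_inv_of_mul_eq_one_left (by rw [← hd3, pow_succ, pow_two])
      calc τ * (d * (τ * ((w : X) : G) * τ⁻¹) * d⁻¹) * τ⁻¹
          = (τ * d * τ⁻¹) * ((τ * τ) * ((w : X) : G) * (τ * τ)⁻¹) * (τ * d * τ⁻¹)⁻¹ := by group
        _ = d * (d * ((w : X) : G) * d⁻¹) * d⁻¹ := by rw [e1, hττ]; group
    · intro q hq
      obtain ⟨w, rfl⟩ := QuotientGroup.mk'_surjective Z q
      have h1 : QuotientGroup.mk' Z (dQ w) = QuotientGroup.mk' Z w := hq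
      refine (QuotientGroup.eq_one_iff w).2 ((hZmem w).2 ?_)
      have hwd : ((w : X) : G) * d = d * ((w : X) : G) := by
        rcases hmk h1 with e | e <;> rw [hdQ] at e
        · exact ((eq_mul_inv_iff_mul_eq.1 e))
        · exfalso
          have hcz : Commute z d := hzd
          have e2 : d * ((w : X) : G) * d⁻¹ = ((w : X) : G) * z := by
            rw [eq_comm, ← eq_mul_inv_iff_mul_eq, inv_eq_of_mul_eq_one_right hzz] at e
            exact e
          have hdz : ∀ a : G, d * (a * z) * d⁻¹ = d * a * d⁻¹ * z := fun a => by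
            rw [show d * (a * z) * d⁻¹ = d * a * d⁻¹ * (d * z * d⁻¹) by group, ← hcz.eq, mul_inv_cancel_right]
          have e4 : d ^ 3 * ((w : X) : G) * (d ^ 3)⁻¹ = ((w : X) : G) * z := by
            calc d ^ 3 * ((w : X) : G) * (d ^ 3)⁻¹
                = d * (d * (d * ((w : X) : G) * d⁻¹) * d⁻¹) * d⁻¹ := by rw [pow_succ, pow_two]; group
              _ = ((w : X) : G) * z := by
                  rw [e2, hdz, e2, mul_assoc (((w : X) : G)) z z, hzz, mul_one, e2]
          rw [hd3, inv_one, mul_one, one_mul, left_eq_mul] at e4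
          exact hz1 e4
      rcases hXd _ (w : X).2 hwd with hh | ⟨r, hr, hh⟩
      · refine Or.inl ?_
        obtain ⟨e, he⟩ := hQ2 w
        have he' : ((w : X) : G) ^ 2 ^ e = 1 := by
          have := congrArg (fun q : Qx => ((q : X) : G)) he
          simpa using this
        exact orderOf_eq_one_iff.1 (Nat.eq_one_of_dvd_coprimes ((show Nat.Coprime 2 3 by norm_num).pow_left e)
          (orderOf_dvd_of_pow_eq_one he') (orderOf_dvd_of_pow_eq_one (hdpow _ hh).2))
      · refine Or.inr ?_
        obtain ⟨e, he⟩ := hQ2 w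
        have he' : ((w : X) : G) ^ 2 ^ (e + 1) = 1 := by
          have := congrArg (fun q : Qx => ((q : X) : G)) he
          simp only [SubmonoidClass.coe_pow, OneMemClass.coe_one] at this
          rw [pow_succ, pow_mul, this, one_pow]
        rw [hh, (show Commute z r from (hdpow r hr).1.symm).mul_pow, show z ^ 2 ^ (e + 1) = 1 by
          rw [pow_succ', pow_mul, pow_two, hzz, one_pow], one_mul] at he'
        rw [hh, orderOf_eq_one_iff.1 (Nat.eq_one_of_dvd_coprimes ((show Nat.Coprime 2 3 by norm_num).pow_left (e + 1))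
          (orderOf_dvd_of_pow_eq_one he') (orderOf_dvd_of_pow_eq_one (hdpow r hr).2)), mul_one]
    · haveI := Fintype.ofFinite {q : Qx ⧸ Z // QuotientGroup.map Z Z tQ htZ q = q}
      rw [Nat.card_eq_fintype_card]
      by_contra hgt
      push Not at hgt
      obtain ⟨q1, q2, q3, h12, h13, h23⟩ := Fintype.two_lt_card_iff.1 hgt
      have hcases : ∀ q : {q : Qx ⧸ Z // QuotientGroup.map Z Z tQ htZ q = q}, q.1 = 1 ∨
          ∃ w : Qx, QuotientGroup.mk' Z w = q.1 ∧ τ * ((w : X) : G) * τ⁻¹ = ((w : X) : G) * z := by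
        rintro ⟨q, hq⟩
        obtain ⟨w, rfl⟩ := QuotientGroup.mk'_surjective Z q
        rcases hmk (show QuotientGroup.mk' Z w = QuotientGroup.mk' Z (tQ w) from hq.symm) with e | e <;>
          rw [htQ] at e
        · exact Or.inl ((QuotientGroup.eq_one_iff w).2 ((hZmem w).2 (hτfix _ e)))
        · exact Or.inr ⟨w, rfl, e⟩
      have heq : ∀ q q' : {q : Qx ⧸ Z // QuotientGroup.map Z Z tQ htZ q = q}, q.1 ≠ 1 → q'.1 ≠ 1 → q = q' := by
        intro q q' hq hq'
        obtain ⟨w, hw, e⟩ := (hcases q).resolve_left hq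
        obtain ⟨w', hw', e'⟩ := (hcases q').resolve_left hq'
        refine Subtype.ext ?_
        rw [← hw, ← hw', QuotientGroup.mk'_apply, QuotientGroup.mk'_apply, QuotientGroup.eq, hZmem]
        refine hτfix ((w⁻¹ * w' : Qx) : X) ?_
        simp only [Subgroup.coe_mul, InvMemClass.coe_inv]
        calc τ * (((w : X) : G)⁻¹ * ((w' : X) : G)) * τ⁻¹
            = (τ * ((w : X) : G) * τ⁻¹)⁻¹ * (τ * ((w' : X) : G) * τ⁻¹) := by group
          _ = z⁻¹ * (((w : X) : G)⁻¹ * ((w' : X) : G)) * z := by rw [e, e']; group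
          _ = ((w : X) : G)⁻¹ * ((w' : X) : G) := by
              have hc' : Commute z (((w : X) : G)⁻¹ * ((w' : X) : G)) :=
                ((show Commute ((w : X) : G) z from mem_centralizer_singleton_iff.1 (w : X).2.1).symm.inv_right).mul_right
                  (show Commute ((w' : X) : G) z from mem_centralizer_singleton_iff.1 (w' : X).2.1).symm
              rw [mul_assoc, ← hc'.eq, inv_mul_cancel_left]
      by_cases a1 : q1.1 = 1
      · exact h23 (heq _ _ (fun a2 => h12 (Subtype.ext (a1.trans a2.symm)))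
          (fun a3 => h13 (Subtype.ext (a1.trans a3.symm))))
      · by_cases a2 : q2.1 = 1
        · exact h13 (heq _ _ a1 (fun a3 => h23 (Subtype.ext (a2.trans a3.symm))))
        · exact h12 (heq _ _ a1 a2)
    -- there is only one involution
    have hQ8 : Nat.card Qx ≤ 8 := by
      have h2 : Nat.card Z ≤ 2 := by
        haveI := Fintype.ofFinite Z
        rw [Nat.card_eq_fintype_card]
        by_contra hgt
        push Not at hgt
        obtain ⟨a, b, c, hab, hac, hbc⟩ := Fintype.two_lt_card_iff.1 hgt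
        have hext : ∀ a b : Z, (((a : Qx) : X) : G) = (((b : Qx) : X) : G) → a = b := fun a b e =>
          Subtype.ext (Subtype.ext (Subtype.ext e))
        rcases (hZmem _).1 a.2 with ea | ea <;> rcases (hZmem _).1 b.2 with eb | eb <;>
          rcases (hZmem _).1 c.2 with ec | ec <;>
          first
            | exact hab (hext _ _ (ea.trans eb.symm))
            | exact hac (hext _ _ (ea.trans ec.symm))
            | exact hbc (hext _ _ (eb.trans ec.symm))
      rw [card_eq_card_quotient_mul_card_subgroup Z]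
      exact (Nat.mul_le_mul h4 h2).trans (by norm_num)
    have huniq : ∀ w : Qx, ((w : X) : G) * ((w : X) : G) = 1 → ((w : X) : G) = 1 ∨ ((w : X) : G) = z := by
      intro u hu
      by_contra hne
      push Not at hne
      obtain ⟨hu1, huz⟩ := hne
      set U := ((u : X) : G) with hU
      have huC : U * z = z * U := mem_centralizer_singleton_iff.1 (u : X).2.1
      set U' := d * U * d⁻¹ with hU'
      set U'' := d * U' * d⁻¹ with hU''
      have hU'm : (⟨d, hdX⟩ : X) * (u : X) * ⟨d, hdX⟩⁻¹ ∈ Qx := hQd _ hdD _ u.2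
      have hU''m := hQd _ hdD _ hU'm
      let u' : Qx := ⟨_, hU'm⟩
      let u'' : Qx := ⟨_, hU''m⟩
      have hu' : ((u' : X) : G) = U' := rfl
      have hu'' : ((u'' : X) : G) = U'' := rfl
      have hd' : ∀ a b, d * a * d⁻¹ = d * b * d⁻¹ → a = b := fun a b e => mul_left_cancel (mul_right_cancel e)
      have hne1 : ∀ r : G, r = 1 ∨ r = z → d * r * d⁻¹ = r := by
        rintro r (rfl | rfl)
        · group
        · rw [← hzd, mul_inv_cancel_right]
      have hUd : U' ≠ U ∧ U' ≠ U * z := by
        have key : ∀ r : G, r = 1 ∨ r = z → U' ≠ U * r := by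
          intro r hr e
          have hr' := hne1 r hr
          have hrd : Commute d r := mul_inv_eq_iff_eq_mul.1 hr'
          have h1 : d ^ 3 * U * (d ^ 3)⁻¹ = U * r * r * r := by
            calc d ^ 3 * U * (d ^ 3)⁻¹ = d * (d * U' * d⁻¹) * d⁻¹ := by rw [hU', pow_succ, pow_two]; group
              _ = d * (d * U * d⁻¹ * (d * r * d⁻¹)) * d⁻¹ := by rw [e]; group
              _ = d * (U * r * r) * d⁻¹ := by rw [hr', ← hU', e]
              _ = d * U * d⁻¹ * (d * r * d⁻¹) * (d * r * d⁻¹) := by group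
              _ = U * r * r * r := by rw [hr', ← hU', e]
          rw [hd3, inv_one, one_mul, mul_one] at h1
          rcases hr with rfl | rfl
          · rw [mul_one] at e
            have hcm : ((u : X) : G) * d = d * ((u : X) : G) := (mul_inv_eq_iff_eq_mul.1 e).symm
            rcases hXd _ (u : X).2 hcm with hh | ⟨r', hr', hh⟩
            · have h5 := (hdpow _ hh).2
              rw [pow_succ, pow_two, hu, one_mul] at h5
              exact hu1 h5
            · refine huz ?_
              have hh' : U = z * r' := hh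
              have h5 : r' * r' = 1 := by
                have e5 : U * U = (z * z) * (r' * r') := by
                  rw [hh', mul_assoc, ← mul_assoc r', (hdpow r' hr').1]; group
                rw [hu, hzz, one_mul] at e5
                exact e5.symm
              have h6 := (hdpow r' hr').2
              rw [pow_succ, pow_two, h5, one_mul] at h6
              rw [hh', h6, mul_one]
          · rw [mul_assoc U z z, hzz, mul_one, left_eq_mul] at h1
            exact hz1 h1
        exact ⟨fun e => key 1 (Or.inl rfl) (by rw [mul_one]; exact e), key z (Or.inr rfl)⟩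
      have hU1' : U' ≠ 1 ∧ U' ≠ z := ⟨fun e => hu1 (conj_eq_one_iff.1 e),
        fun e => huz (hd' _ _ (by rw [← hU', e, hne1 z (Or.inr rfl)]))⟩
      have hU1'' : U'' ≠ 1 ∧ U'' ≠ z := ⟨fun e => hU1'.1 (conj_eq_one_iff.1 e),
        fun e => hU1'.2 (hd' _ _ (by rw [← hU'', e, hne1 z (Or.inr rfl)]))⟩
      have hUz : ∀ a : G, d * (a * z) * d⁻¹ = d * a * d⁻¹ * z := fun a => by
        rw [show d * (a * z) * d⁻¹ = d * a * d⁻¹ * (d * z * d⁻¹) by group, hne1 z (Or.inr rfl)]
      have hU2 : U'' ≠ U' ∧ U'' ≠ U' * z :=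
        ⟨fun e => hUd.1 (hd' _ _ e), fun e => hUd.2 (hd' _ _ (by rw [hUz, ← hU'']; exact e))⟩
      have hU3 : U'' ≠ U ∧ U'' ≠ U * z := by
        have key : ∀ r : G, r = 1 ∨ r = z → U'' ≠ U * r := by
          intro r hr e
          have e2 : d * U'' * d⁻¹ = U := by
            rw [hU'', hU', show d * (d * (d * U * d⁻¹) * d⁻¹) * d⁻¹ = d ^ 3 * U * (d ^ 3)⁻¹ by
              rw [pow_succ, pow_two]; group, hd3]; group
          rw [e, show d * (U * r) * d⁻¹ = (d * U * d⁻¹) * (d * r * d⁻¹) by group, hne1 r hr, ← hU'] at e2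
          rcases hr with rfl | rfl
          · exact hUd.1 (by rwa [mul_one] at e2)
          · refine hUd.2 ?_
            rw [← e2, mul_assoc, hzz, mul_one]
        exact ⟨fun e => key 1 (Or.inl rfl) (by rw [mul_one]; exact e), key z (Or.inr rfl)⟩
      -- every element has order at most two
      let L : List G := [1, z, U, U * z, U', U' * z, U'', U'' * z]
      have hnd : L.Nodup := by
        simp only [L, List.nodup_cons, List.mem_cons, List.not_mem_nil, or_false, not_or, List.nodup_nil, and_true,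
          not_false_eq_true]
        have hzne : ∀ a, a ≠ z → (1 : G) ≠ a * z := fun a ha e => ha (by
          rw [← inv_eq_of_mul_eq_one_right hzz]; exact eq_inv_of_mul_eq_one_left e.symm)
        have hzne2 : ∀ a : G, a ≠ 1 → z ≠ a * z := fun a ha e => ha (right_eq_mul.1 e)
        have hswap : ∀ a b : G, b ≠ a * z → a ≠ b * z := fun a b hab e => hab (by
          rw [e, mul_assoc, hzz, mul_one])
        have hcan : ∀ a b : G, b ≠ a → a * z ≠ b * z := fun a b hab e => hab (mul_right_cancel e).symm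
        refine ⟨⟨hz1.symm, hu1.symm, hzne _ huz, hU1'.1.symm, hzne _ hU1'.2, hU1''.1.symm, hzne _ hU1''.2⟩,
          ⟨huz.symm, hzne2 _ hu1, hU1'.2.symm, hzne2 _ hU1'.1, hU1''.2.symm, hzne2 _ hU1''.1⟩,
          ⟨fun e => hz1 (left_eq_mul.1 e), hUd.1.symm, hswap _ _ hUd.2, hU3.1.symm, hswap _ _ hU3.2⟩,
          ⟨hUd.2.symm, hcan _ _ hUd.1, hU3.2.symm, hcan _ _ hU3.1⟩,
          ⟨fun e => hz1 (left_eq_mul.1 e), hU2.1.symm, hswap _ _ hU2.2⟩,
          ⟨hU2.2.symm, hcan _ _ hU2.1⟩, fun e => hz1 (left_eq_mul.1 e)⟩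
      have hUU' : U' * U' = 1 := by rw [hU', show d * U * d⁻¹ * (d * U * d⁻¹) = d * (U * U) * d⁻¹ by group, hu]; group
      have hUU'' : U'' * U'' = 1 := by
        rw [hU'', show d * U' * d⁻¹ * (d * U' * d⁻¹) = d * (U' * U') * d⁻¹ by group, hUU']; group
      have hzmul : ∀ a : G, a * z = z * a → a * a = 1 → a * z * (a * z) = 1 := fun a hc h2 => by
        rw [mul_assoc, ← mul_assoc z, ← hc, mul_assoc a z z, hzz, mul_one, h2]
      have hLsq : ∀ a ∈ L, a * a = 1 := by
        intro a ha
        simp only [L, List.mem_cons, List.not_mem_nil, or_false] at ha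
        have c' : U' * z = z * U' := hu' ▸ mem_centralizer_singleton_iff.1 (u' : X).2.1
        have c'' : U'' * z = z * U'' := hu'' ▸ mem_centralizer_singleton_iff.1 (u'' : X).2.1
        rcases ha with rfl | rfl | rfl | rfl | rfl | rfl | rfl | rfl
        exacts [one_mul 1, hzz, hu, hzmul _ huC hu, hUU', hzmul _ c' hUU', hUU'', hzmul _ c'' hUU'']
      haveI := Fintype.ofFinite Qx
      let img : Finset G := Finset.univ.image fun w : Qx => ((w : X) : G)
      have himg : img = L.toFinset := by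
        refine (Finset.eq_of_subset_of_card_le ?_ ?_).symm
        · intro a ha
          simp only [L, List.mem_toFinset, List.mem_cons, List.not_mem_nil, or_false] at ha
          have hmz : ∀ w : Qx, ((w : X) : G) * z ∈ img := fun w =>
            Finset.mem_image.2 ⟨w * ⟨zX, hzQ⟩, Finset.mem_univ _, rfl⟩
          rcases ha with rfl | rfl | rfl | rfl | rfl | rfl | rfl | rfl
          exacts [Finset.mem_image.2 ⟨1, Finset.mem_univ _, rfl⟩, Finset.mem_image.2 ⟨⟨zX, hzQ⟩, Finset.mem_univ _, rfl⟩,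
            Finset.mem_image.2 ⟨u, Finset.mem_univ _, rfl⟩, hmz u,
            Finset.mem_image.2 ⟨u', Finset.mem_univ _, rfl⟩, hmz u',
            Finset.mem_image.2 ⟨u'', Finset.mem_univ _, rfl⟩, hmz u'']
        · rw [List.toFinset_card_of_nodup hnd]
          refine le_trans Finset.card_image_le ?_
          rw [Finset.card_univ, ← Nat.card_eq_fintype_card]
          exact hQ8
      have hel : ∀ w : Qx, w * w = 1 := fun w => Subtype.ext (Subtype.ext (by
        simp only [Subgroup.coe_mul, OneMemClass.coe_one]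
        exact hLsq _ (List.mem_toFinset.1 (himg ▸ Finset.mem_image.2 ⟨w, Finset.mem_univ _, rfl⟩))))
      have hcommQ : ∀ a b : Qx, a * b = b * a := fun a b => by
        calc a * b = (a * b)⁻¹ := (inv_eq_of_mul_eq_one_right (hel (a * b))).symm
          _ = b * a := by rw [mul_inv_rev, inv_eq_of_mul_eq_one_right (hel a), inv_eq_of_mul_eq_one_right (hel b)]
      -- the map `w ↦ w τ w τ` has small kernel and small image
      let f : Qx →* Qx :=
        { toFun := fun w => w * tQ w
          map_one' := by simp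
          map_mul' := fun a b => by
            rw [map_mul, mul_assoc, ← mul_assoc b, hcommQ b (tQ a)]
            simp only [mul_assoc] }
      have hfix2 : ∀ w : Qx, tQ w = w → ((w : X) : G) = 1 ∨ ((w : X) : G) = z := fun w hw =>
        hτfix _ (by rw [← htQ, hw])
      have hker : ∀ w : Qx, w ∈ f.ker → ((w : X) : G) = 1 ∨ ((w : X) : G) = z := fun w hw => by
        refine hfix2 w ?_
        have h1 : w * tQ w = 1 := hw
        rw [mul_eq_one_iff_eq_inv'.1 h1, inv_eq_of_mul_eq_one_right (hel w)]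
      have hran : ∀ w : Qx, w ∈ f.range → ((w : X) : G) = 1 ∨ ((w : X) : G) = z := by
        rintro _ ⟨w, rfl⟩
        refine hfix2 _ ?_
        show tQ (w * tQ w) = w * tQ w
        rw [map_mul, show tQ (tQ w) = w from Subtype.ext (Subtype.ext (by
          rw [htQ, htQ]
          calc τ * (τ * ((w : X) : G) * τ⁻¹) * τ⁻¹ = (τ * τ) * ((w : X) : G) * (τ * τ)⁻¹ := by group
            _ = ((w : X) : G) := by rw [hττ]; group)), hcommQ]
      have hsmall : ∀ H : Subgroup Qx, (∀ w ∈ H, ((w : X) : G) = 1 ∨ ((w : X) : G) = z) → Nat.card H ≤ 2 := by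
        intro H hH
        have hle : H ≤ Z := fun w hw => (hZmem w).2 (hH w hw)
        refine (card_le_of_le hle).trans ?_
        have hzz' : Nat.card Z ≤ Nat.card (zpowers zX) := by
          rw [hZ]
          exact Nat.card_le_card_of_injective (fun w => (⟨_, w.2⟩ : zpowers zX))
            fun a b e => Subtype.ext (Subtype.ext (congrArg (fun q : zpowers zX => (q : X)) e))
        refine hzz'.trans ?_
        rw [Nat.card_zpowers]
        exact orderOf_le_of_pow_eq_one (by norm_num) (Subtype.ext (by simp [zX, pow_two, hzz]))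
      have h4' : Nat.card Qx ≤ 4 := by
        rw [← card_mul_index f.ker, Subgroup.index_ker]
        exact Nat.mul_le_mul (hsmall _ hker) (hsmall _ hran)
      have h8' : 8 ≤ Nat.card Qx := by
        rw [Nat.card_eq_fintype_card, ← Finset.card_univ]
        refine le_trans ?_ (Finset.card_image_le (f := fun w : Qx => ((w : X) : G)))
        show 8 ≤ img.card
        rw [himg, List.toFinset_card_of_nodup hnd]
        rfl
      omega
    -- `z` is isolated in `M`
    have hiso : IsIsolatedInvolution (⟨z, hzM⟩ : M) := by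
      refine ⟨?_, fun g hg => ?_⟩
      · rw [orderOf_mk]
        exact orderOf_eq_prime (by rw [pow_two, hzz]) hz1
      · set w := (g : G) * z * (g : G)⁻¹ with hw
        have hwz : z * w = w * z := congrArg Subtype.val hg
        have hww : w * w = 1 := by rw [hw, show (g : G) * z * (g : G)⁻¹ * ((g : G) * z * (g : G)⁻¹) =
          (g : G) * (z * z) * (g : G)⁻¹ by group, hzz]; group
        have hwX : w ∈ X := ⟨mem_centralizer_singleton_iff.2 hwz.symm, M.mul_mem (M.mul_mem g.2 hzM) (M.inv_mem g.2)⟩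
        have hp : IsPGroup 2 (zpowers (⟨w, hwX⟩ : X)) := by
          rintro ⟨q, i, rfl⟩
          exact ⟨1, Subtype.ext (by
            show ((⟨w, hwX⟩ : X) ^ i) ^ 2 ^ 1 = 1
            rw [← zpow_natCast, ← zpow_mul, mul_comm, zpow_mul, zpow_natCast, pow_one,
              show (⟨w, hwX⟩ : X) ^ 2 = 1 from Subtype.ext (by simp [pow_two, hww]), one_zpow])⟩
        obtain ⟨c, -, hc⟩ := hmax _ hp
        have hcz := mem_centralizer_singleton_iff.1 c.2.1
        rcases huniq ⟨_, hc _ (mem_zpowers _)⟩ (by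
          simp only [Subgroup.coe_mul, InvMemClass.coe_inv]
          rw [show (c : G) * w * (c : G)⁻¹ * ((c : G) * w * (c : G)⁻¹) = (c : G) * (w * w) * (c : G)⁻¹ by group,
            hww]; group) with e | e
        · simp only [Subgroup.coe_mul, InvMemClass.coe_inv] at e
          exact absurd (conj_eq_one_iff.1 (conj_eq_one_iff.1 e)) hz1
        · simp only [Subgroup.coe_mul, InvMemClass.coe_inv] at e
          refine Subtype.ext ?_
          show w = z
          calc w = (c : G)⁻¹ * ((c : G) * w * (c : G)⁻¹) * (c : G) := by group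
            _ = (c : G)⁻¹ * (z * (c : G)) := by rw [e]; group
            _ = z := by rw [← hcz, inv_mul_cancel_left]
    have hxM : F.x ∈ M := h3M (F.v_cube one1)
    have hO : Cfsg.oddCore M ≠ ⊥ := fun hO => by
      have h1 := ZStar.zStarHolds M ⟨z, hzM⟩ hiso ⟨F.x, hxM⟩
      rw [hO, mem_bot] at h1
      have h2 : z * F.x * z⁻¹ * F.x⁻¹ = 1 := congrArg Subtype.val h1
      rw [x, actsAs_act hzact, mul_inv_eq_one] at h2
      exact absurd (F.vinj h2) (by decide +kernel)
    haveI : (Cfsg.oddCore M).Characteristic := Core.pPrimeCore_characteristic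
    haveI hnorm : ((Cfsg.oddCore M).map M.subtype).Normal := inferInstance
    refine normal_of_odd hnorm ?_ fun e => hO ?_
    · rw [card_map_of_injective M.subtype_injective]
      exact ZStar.odd_card_oddCore
    · rwa [map_eq_bot_iff_of_injective _ M.subtype_injective] at e

end Frame

end Cfsg.Lib.SymNine
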