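import Cfsg.Agent.Lib.SymNine.Quot

/-!
# The stabilisers of the elements of `J`

The stabiliser of an element away from the central class and of weight at least two in the largest case is trivial,
a reflection, an inversion or a four-group of two reflections.
-/

set_option autoImplicit false
set_option maxHeartbeats 1600000
set_option maxRecDepth 100000
set_option synthInstance.maxSize 4000
set_option synthInstance.maxHeartbeats 400000
set_option linter.unusedSectionVars false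
set_option linter.style.haveILetI false

namespace Cfsg.Lib.SymNine

open Subgroup

/-- The multiples of a code. -/
def mult (i : Fin 27) : List (Fin 27) := [0, i, vSmul 2 i]

/-- The stabiliser of a code. -/
def inStab (m : Fin 4) (i : Fin 27) (s : Fin 8) (k : Fin 6) : Prop :=
  signSets m s = true ∧ act s k i = i

instance (m : Fin 4) (i : Fin 27) (s : Fin 8) (k : Fin 6) : Decidable (inStab m i s k) := by
  unfold inStab; infer_instance

/-- A weight at least two. -/
def heavy (i : Fin 27) : Prop := i ∉ ([0, 1, 2, 3, 6, 9, 18] : List (Fin 27))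

instance (i : Fin 27) : Decidable (heavy i) := by unfold heavy; infer_instance

/-- The packed witnesses. -/
def witCode : ℕ := 0x668e80000000019a37669b19a6b000000000000019a37000000000668e99a6b669b0000066a819a85000019a8566a800000000000000000000000000008ff80000000003d8ac98193b5b19a810000000003d8ac0000000008ff83b5b0981966a048c192fd019b292fd008c1966ca59b6366d8c0000000008ff823fe09819230518eac260659737230508c14260658eac23fe0000023fe19737260648c14230658bd3260818bd32306498202400c900300000000023fe08ff8260648c14000009819000008c14230509819000008ff8000008ff8000009819230508c19000009820000008c192608090032400c0000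

/-- The kind of a stabiliser, a sign, a permutation and two codes. -/
def wit (m : Fin 4) (i : Fin 27) : ℕ × Fin 8 × Fin 6 × Fin 27 × Fin 27 :=
  let c := witCode / 2 ^ (18 * (27 * m.val + i.val)) % 2 ^ 18
  (c / 34992 % 8, Fin.ofNat 8 (c / 4374 % 8), Fin.ofNat 6 (c / 729 % 6), Fin.ofNat 27 (c / 27 % 27),
    Fin.ofNat 27 (c % 27))

/-- Trivial stabiliser. -/
def caseT (m : Fin 4) (i : Fin 27) : Prop := ∀ s k, inStab m i s k → s = 0 ∧ k = 0

/-- A reflection. -/
def caseR (m : Fin 4) (i : Fin 27) (s : Fin 8) (k : Fin 6) (l e : Fin 27) : Prop :=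
  inStab m i s k ∧ ¬ (s = 0 ∧ k = 0) ∧ (∀ s' k', inStab m i s' k' → s' = 0 ∧ k' = 0 ∨ s' = s ∧ k' = k) ∧
    act s k l = vSmul 2 l ∧ l ∉ mult i ∧ act s k e = e ∧
      ∀ t, ∃ e' ∈ [(0 : Fin 27), e, vSmul 2 e], ∃ c ∈ [(0 : Fin 27), l, vSmul 2 l], ∃ w ∈ mult i,
        t = vAdd (vAdd e' c) w

/-- An inversion. -/
def caseM (m : Fin 4) (i : Fin 27) (s : Fin 8) (k : Fin 6) : Prop :=
  inStab m i s k ∧ ¬ (s = 0 ∧ k = 0) ∧ (∀ s' k', inStab m i s' k' → s' = 0 ∧ k' = 0 ∨ s' = s ∧ k' = k) ∧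
    ∀ t, ∃ w ∈ mult i, act s k t = vAdd (vSmul 2 t) w

/-- The four-group of two reflections. -/
def caseK (m : Fin 4) (i : Fin 27) (a e : Fin 27) : Prop :=
  a ∉ mult i ∧ (∀ c ∈ [(0 : Fin 27), a, vSmul 2 a], ∀ w ∈ mult i, e ≠ vAdd c w) ∧
    (∀ s k, inStab m i s k → (act s k a = a ∨ act s k a = vSmul 2 a) ∧ (act s k e = e ∨ act s k e = vSmul 2 e) ∧
      (act s k a = a → act s k e = e → s = 0 ∧ k = 0) ∧ (act s k (vAdd a e) = vAdd a e → s = 0 ∧ k = 0) ∧
      ∀ s' k', inStab m i s' k' → act s k a = act s' k' a → act s k e = act s' k' e → s = s' ∧ k = k') ∧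
    (∃ s k, inStab m i s k ∧ act s k a = a ∧ act s k e = vSmul 2 e) ∧
    (∃ s k, inStab m i s k ∧ act s k a = vSmul 2 a ∧ act s k e = e) ∧
    (∃ s k, inStab m i s k ∧ act s k a = vSmul 2 a ∧ act s k e = vSmul 2 e ∧
      ∀ t, ∃ w ∈ mult i, act s k t = vAdd (vSmul 2 t) w)

instance (m : Fin 4) (i : Fin 27) : Decidable (caseT m i) := by unfold caseT; infer_instance
instance (m : Fin 4) (i : Fin 27) (s : Fin 8) (k : Fin 6) (l e : Fin 27) : Decidable (caseR m i s k l e) := by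
  unfold caseR; infer_instance
instance (m : Fin 4) (i : Fin 27) (s : Fin 8) (k : Fin 6) : Decidable (caseM m i s k) := by
  unfold caseM; infer_instance
instance (m : Fin 4) (i : Fin 27) (a e : Fin 27) : Decidable (caseK m i a e) := by unfold caseK; infer_instance

/-- The case of the witness. -/
def caseW (m : Fin 4) (i : Fin 27) : Prop :=
  let w := wit m i
  if w.1 = 0 then caseT m i else if w.1 = 1 then caseR m i w.2.1 w.2.2.1 w.2.2.2.1 w.2.2.2.2
    else if w.1 = 2 then caseM m i w.2.1 w.2.2.1 else caseK m i w.2.2.2.1 w.2.2.2.2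

instance (m : Fin 4) (i : Fin 27) : Decidable (caseW m i) := by unfold caseW; infer_instance

theorem stab_witness_0 : ∀ i, i ≠ 0 → xType 0 i = false → ((0 : Fin 4) ≠ 3 ∨ heavy i) → caseW 0 i := by
  decide +kernel

theorem stab_witness_1 : ∀ i, i ≠ 0 → xType 1 i = false → ((1 : Fin 4) ≠ 3 ∨ heavy i) → caseW 1 i := by
  decide +kernel

theorem stab_witness_2 : ∀ i, i ≠ 0 → xType 2 i = false → ((2 : Fin 4) ≠ 3 ∨ heavy i) → caseW 2 i := by
  decide +kernel

theorem stab_witness_3 : ∀ i, i ≠ 0 → xType 3 i = false → ((3 : Fin 4) ≠ 3 ∨ heavy i) → caseW 3 i := by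
  decide +kernel

theorem stab_witness : ∀ m i, i ≠ 0 → xType m i = false → (m ≠ 3 ∨ heavy i) → caseW m i := by
  intro m
  match m with
  | 0 => exact stab_witness_0
  | 1 => exact stab_witness_1
  | 2 => exact stab_witness_2
  | 3 => exact stab_witness_3

theorem stab_cases (m : Fin 4) (i : Fin 27) (hi0 : i ≠ 0) (hi : xType m i = false) (hh : m ≠ 3 ∨ heavy i) :
    caseT m i ∨ (∃ s k l e, caseR m i s k l e) ∨ (∃ s k, caseM m i s k) ∨ ∃ a e, caseK m i a e := by
  have h := stab_witness m i hi0 hi hh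
  simp only [caseW] at h
  split_ifs at h
  exacts [Or.inl h, Or.inr (Or.inl ⟨_, _, _, _, h⟩), Or.inr (Or.inr (Or.inl ⟨_, _, h⟩)),
    Or.inr (Or.inr (Or.inr ⟨_, _, h⟩))]

theorem stab_rigid_0 : ∀ i, i ≠ 0 → xType 0 i = false → ((0 : Fin 4) ≠ 3 ∨ heavy i) → ∀ s k, inStab 0 i s k →
    ∀ l, ∀ w ∈ mult i, act s k l = vAdd l w → w = 0 := by
  decide +kernel

theorem stab_rigid_1 : ∀ i, i ≠ 0 → xType 1 i = false → ((1 : Fin 4) ≠ 3 ∨ heavy i) → ∀ s k, inStab 1 i s k →
    ∀ l, ∀ w ∈ mult i, act s k l = vAdd l w → w = 0 := by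
  decide +kernel

theorem stab_rigid_2 : ∀ i, i ≠ 0 → xType 2 i = false → ((2 : Fin 4) ≠ 3 ∨ heavy i) → ∀ s k, inStab 2 i s k →
    ∀ l, ∀ w ∈ mult i, act s k l = vAdd l w → w = 0 := by
  decide +kernel

theorem stab_rigid_3 : ∀ i, i ≠ 0 → xType 3 i = false → ((3 : Fin 4) ≠ 3 ∨ heavy i) → ∀ s k, inStab 3 i s k →
    ∀ l, ∀ w ∈ mult i, act s k l = vAdd l w → w = 0 := by
  decide +kernel

theorem stab_rigid : ∀ m i, i ≠ 0 → xType m i = false → (m ≠ 3 ∨ heavy i) → ∀ s k, inStab m i s k →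
    ∀ l, ∀ w ∈ mult i, act s k l = vAdd l w → w = 0 := by
  intro m
  match m with
  | 0 => exact stab_rigid_0
  | 1 => exact stab_rigid_1
  | 2 => exact stab_rigid_2
  | 3 => exact stab_rigid_3

theorem span_facts : ∀ i p, i ≠ 0 → p ∉ mult i → ∃ r ∈ [(9 : Fin 27), 3, 1], ∀ t ∈ [(9 : Fin 27), 3, 1],
    ∃ e ∈ [(0 : Fin 27), r, vSmul 2 r], ∃ c ∈ [(0 : Fin 27), p, vSmul 2 p], ∃ w ∈ mult i,
      t = vAdd (vAdd e c) w := by
  decide +kernel

theorem multiples_add : ∀ r : Fin 27, ∀ e ∈ [(0 : Fin 27), r, vSmul 2 r], ∀ e' ∈ [(0 : Fin 27), r, vSmul 2 r],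
    vAdd e e' ∈ [(0 : Fin 27), r, vSmul 2 r] := by
  decide +kernel

theorem code_ind {Q : Fin 27 → Prop} (h0 : Q 0) (hadd : ∀ a b, Q a → Q b → Q (vAdd a b))
    (hb : ∀ t ∈ [(9 : Fin 27), 3, 1], Q t) (t : Fin 27) : Q t := by
  have hs : ∀ k, k < 3 → ∀ b ∈ [(9 : Fin 27), 3, 1], Q (vSmul k b) := by
    intro k hk b hbm
    rw [lap_facts.2.2.1 k hk b]
    split_ifs
    exacts [h0, hb b hbm, hadd _ _ (hb b hbm) (hb b hbm)]
  rw [← lap_facts.1 t]
  exact hadd _ _ (hs _ (by omega) 9 (by simp)) (hadd _ _ (hs _ (by omega) 3 (by simp))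
    (hs _ (by omega) 1 (by simp)))

end Cfsg.Lib.SymNine
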