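import Cfsg.Agent.Lib.SymNine.CentInv

/-!
# Counting the centralizer of an involution of `N(J)`

Lifts of the commuting actions that are involutions, the order of `C(t) ∩ N(J)`, the centralizer of the transposition
of two coordinates, and a criterion for not being conjugate to it.
-/

set_option autoImplicit false
set_option maxHeartbeats 1600000
set_option maxRecDepth 100000
set_option linter.unusedSectionVars false
set_option linter.style.haveILetI false

namespace Cfsg.Lib.SymNine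

open Subgroup

theorem tau_facts :
    (∀ m s k, signSets m s = true → (∀ i, act s k (act 0 2 i) = act 0 2 (act s k i)) →
      (act s k 1 = 1 ∨ act s k 1 = vSmul 2 1) ∧ (act s k 12 = 12 ∨ act s k 12 = vSmul 2 12) ∧
      (act s k 1 = 1 → act s k 12 = 12 → s = 0 ∧ (k = 0 ∨ k = 2))) ∧
    (∀ y, act 0 2 y = y → ∃ i : Fin 3, ∃ j : Fin 3, y = vAdd (vSmul i.val 1) (vSmul j.val 12)) ∧
    (∀ m, xType m 1 = false) ∧ (12 : Fin 27) ∉ mult 1 ∧
    (Finset.univ.filter fun y : Fin 27 => act 0 2 y = y).card = 9 ∧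
    (∀ m, (Finset.univ.filter fun q : Fin 8 × Fin 6 =>
      signSets m q.1 = true ∧ ∀ i, act q.1 q.2 (act 0 2 i) = act 0 2 (act q.1 q.2 i)).card =
        if m = 0 then 2 else if m = 3 then 8 else 4) ∧
    (∀ k : Fin 6, act 0 2 = act 0 k → k = 2) := by
  refine ⟨?_, ?_, ?_, ?_, ?_, ?_, ?_⟩ <;> decide +kernel

namespace Frame

variable {G : Type*} [Group G] [Finite G] {F : Frame G} {m : Fin 4}

variable (F) in
/-- Every nonidentity element of `J` has its centralizer in the normalizer of `J`. -/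
def SmallCent : Prop := ∀ y, y ≠ 0 → ∀ g, g * F.v y = F.v y * g → g ∈ normalizer (F.J : Set G)

theorem comm_v_iff {t : G} {s : Fin 8} {k : Fin 6} (hts : F.ActsAs t s k) (y : Fin 27) :
    F.v y * t = t * F.v y ↔ act s k y = y := by
  constructor
  · intro e
    refine F.vinj ?_
    rw [← actsAs_act hts, ← e, mul_inv_cancel_right]
  · intro e
    have h1 := actsAs_act hts y
    rw [e] at h1
    exact (mul_inv_eq_iff_eq_mul.1 h1).symm

theorem act_eq {n : G} {s s' : Fin 8} {k k' : Fin 6} (h : F.ActsAs n s k) (h' : F.ActsAs n s' k') (i : Fin 27) :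
    act s k i = act s' k' i := F.vinj ((h i).symm.trans (h' i))

theorem inv_mul_mem_J {n n' : G} {s : Fin 8} {k : Fin 6} (h : F.ActsAs n s k) (h' : F.ActsAs n' s k) :
    n⁻¹ * n' ∈ F.J := by
  refine mem_J_of_act fun i => ?_
  show _ = F.v (act 0 0 i)
  rw [act_facts.1]
  calc n⁻¹ * n' * F.v i * (n⁻¹ * n')⁻¹ = n⁻¹ * (n' * F.v i * n'⁻¹) * n := by group
    _ = F.v i := by rw [actsAs_act h', ← actsAs_act h]; group

namespace IsCase

variable (h : F.IsCase m)
include h

theorem smallCent (hm : m ≠ 3) : F.SmallCent := by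
  intro y hy g hg
  by_cases hx : xType m y = true
  · obtain ⟨n, hn, hn'⟩ := h.conj_x_cases hx
    have hc : n * g * n⁻¹ ∈ centralizer ({F.x} : Set G) := by
      refine mem_centralizer_singleton_iff.2 ?_
      have h1 : n * g * n⁻¹ * (n * F.v y * n⁻¹) = n * F.v y * n⁻¹ * (n * g * n⁻¹) := by
        rw [conj_mul, conj_mul, hg]
      rcases hn' with e | e <;> rw [e] at h1
      · exact h1
      · exact Commute.inv_right_iff.1 (show Commute (n * g * n⁻¹) F.x⁻¹ from h1)
    have h2 := mul_mem (mul_mem (inv_mem hn) (cent_x_le hc)) hn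
    rwa [show n⁻¹ * (n * g * n⁻¹) * n = g by group] at h2
  · exact h.cent_le_of_small hy (by simpa using hx) (Or.inl hm) hg

/-- A lift which is an involution and commutes with a given one. -/
theorem exists_inv_lift {t : G} (ht : t * t = 1) {s s' : Fin 8} {k k' : Fin 6} (hts : F.ActsAs t s k)
    (hs' : signSets m s' = true) (hc : ∀ i, act s' k' (act s k i) = act s k (act s' k' i))
    (hsq : ∀ i, act s' k' (act s' k' i) = i) :
    ∃ n ∈ normalizer (F.J : Set G), F.ActsAs n s' k' ∧ n * t = t * n ∧ n * n = 1 := by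
  obtain ⟨n, hn, ha, hcomm⟩ := h.exists_commuting_lift ht hts hs' hc
  have h2 : n * n ∈ F.J := mem_J_of_act fun i => by
    show _ = F.v (act 0 0 i)
    rw [act_facts.1, show n * n * F.v i * (n * n)⁻¹ = n * (n * F.v i * n⁻¹) * n⁻¹ by group, actsAs_act ha,
      actsAs_act ha, hsq]
  refine ⟨n * n * n, mul_mem (mul_mem hn hn) hn, fun i => ?_, ?_, ?_⟩
  · rw [show n * n * n * F.v i * (n * n * n)⁻¹ = n * (n * (n * F.v i * n⁻¹) * n⁻¹) * n⁻¹ by group,
      actsAs_act ha, actsAs_act ha, actsAs_act ha, hsq]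
    rfl
  · have hC : Commute n t := hcomm
    exact ((hC.mul_left hC).mul_left hC).eq
  · rw [show n * n * n * (n * n * n) = n * n * (n * n) * (n * n) by group, ← F.J_cube h2, pow_succ, pow_two]

/-- The order of `C(t) ∩ N(J)`. -/
theorem card_cent_inv {t : G} (ht : t * t = 1) {s : Fin 8} {k : Fin 6} (hts : F.ActsAs t s k) :
    Nat.card ↥(centralizer ({t} : Set G) ⊓ normalizer (F.J : Set G)) =
      (Finset.univ.filter fun y : Fin 27 => act s k y = y).card *
      (Finset.univ.filter fun q : Fin 8 × Fin 6 =>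
        signSets m q.1 = true ∧ ∀ i, act q.1 q.2 (act s k i) = act s k (act q.1 q.2 i)).card := by
  classical
  rw [← Fintype.card_subtype, ← Fintype.card_subtype, ← Nat.card_eq_fintype_card, ← Nat.card_eq_fintype_card,
    ← Nat.card_prod]
  have hex : ∀ q : {q : Fin 8 × Fin 6 // signSets m q.1 = true ∧ ∀ i, act q.1 q.2 (act s k i) = act s k (act q.1 q.2 i)},
      ∃ n ∈ normalizer (F.J : Set G), F.ActsAs n q.1.1 q.1.2 ∧ n * t = t * n := fun q =>
    h.exists_commuting_lift ht hts q.2.1 q.2.2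
  choose f hfN hfA hfC using hex
  have hmem : ∀ (y : {y : Fin 27 // act s k y = y}) q,
      F.v y.1 * f q ∈ centralizer ({t} : Set G) ⊓ normalizer (F.J : Set G) := fun y q =>
    ⟨mul_mem (mem_centralizer_singleton_iff.2 ((comm_v_iff hts _).2 y.2))
      (mem_centralizer_singleton_iff.2 (hfC q)), mul_mem (F.v_mem_normalizer _) (hfN q)⟩
  refine (Nat.card_eq_of_bijective (fun p : {y : Fin 27 // act s k y = y} ×
    {q : Fin 8 × Fin 6 // signSets m q.1 = true ∧ ∀ i, act q.1 q.2 (act s k i) = act s k (act q.1 q.2 i)} =>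
      (⟨F.v p.1.1 * f p.2, hmem _ _⟩ : ↥(centralizer ({t} : Set G) ⊓ normalizer (F.J : Set G)))) ⟨?_, ?_⟩).symm
  · rintro ⟨y, q⟩ ⟨y', q'⟩ e
    have e' : F.v y.1 * f q = F.v y'.1 * f q' := congrArg Subtype.val e
    have h1 := (F.actsAs_v y.1).comp (hfA q)
    rw [e'] at h1
    obtain ⟨a1, a2⟩ := F.actsAs_unique h1 ((F.actsAs_v y'.1).comp (hfA q'))
    have hid : ∀ a : Fin 8, ∀ b : Fin 6, sComp 0 0 a = a ∧ kmul 0 b = b := by decide +kernel
    rw [(hid _ 0).1, (hid _ 0).1] at a1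
    rw [(hid 0 _).2, (hid 0 _).2] at a2
    have hqq : q = q' := Subtype.ext (Prod.ext a1 a2)
    subst hqq
    exact Prod.ext (Subtype.ext (F.vinj (mul_right_cancel e'))) rfl
  · rintro ⟨g, hgt, hgN⟩
    have hgt' := mem_centralizer_singleton_iff.1 hgt
    obtain ⟨s', k', hs', hga⟩ := h.exists_act hgN
    have hcm : ∀ i, act s' k' (act s k i) = act s k (act s' k' i) := fun i => F.vinj (by
      rw [← actsAs_act hga, ← actsAs_act hts, ← actsAs_act hts, ← actsAs_act hga,
        show g * (t * F.v i * t⁻¹) * g⁻¹ = (g * t) * F.v i * (g * t)⁻¹ by group, hgt']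
      group)
    let q : {q : Fin 8 × Fin 6 // signSets m q.1 = true ∧
        ∀ i, act q.1 q.2 (act s k i) = act s k (act q.1 q.2 i)} := ⟨(s', k'), hs', hcm⟩
    have hj : g * (f q)⁻¹ ∈ F.J := by
      have h1 := inv_mul_mem_J (hfA q) hga
      have h2 := (mem_normalizer_iff.1 (hfN q) _).1 h1
      rwa [show f q * ((f q)⁻¹ * g) * (f q)⁻¹ = g * (f q)⁻¹ by group] at h2
    obtain ⟨y, hy⟩ := hj
    refine ⟨(⟨y, (comm_v_iff hts y).1 ?_⟩, q), Subtype.ext (by simp [hy])⟩
    rw [hy]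
    exact ((show Commute g t from hgt').mul_left (show Commute (f q) t from hfC q).inv_left).eq

theorem exists_tau : ∃ t, t * t = 1 ∧ F.ActsAs t 0 2 ∧ t = F.p 2 :=
  ⟨F.p 2, by
    have : kmul 2 2 = 0 := by decide +kernel
    rw [← F.pmul, this, F.p0], F.actsAs_p 2, rfl⟩

theorem cent_tau_le (hsc : F.SmallCent) : centralizer ({F.p 2} : Set G) ≤ normalizer (F.J : Set G) := by
  obtain ⟨t, ht, hts, rfl⟩ := h.exists_tau
  refine h.cent_inv_le ht _ (fun c hc => mem_centralizer_singleton_iff.1 hc)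
    (mem_centralizer_singleton_iff.2 rfl) (a := 1) (e := 12) (by decide) (tau_facts.2.2.1 m) tau_facts.2.2.2.1
    (mem_centralizer_singleton_iff.2 ((comm_v_iff hts 1).2 (by decide +kernel)))
    (mem_centralizer_singleton_iff.2 ((comm_v_iff hts 12).2 (by decide +kernel)))
    (fun y hy => ?_) ?_ (fun y hy _ g hg => hsc y hy g hg) (fun n hn hnN => ?_) (fun n hn hnN h1 h2 => ?_)
  · obtain ⟨i, j, rfl⟩ := tau_facts.2.1 y ((comm_v_iff hts y).1 hy)
    exact ⟨i.val, j.val, by rw [F.vmul, F.v_smul i.2, F.v_smul j.2]⟩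
  · rw [← tau_facts.2.2.2.2.1, ← Fintype.card_subtype, ← Nat.card_eq_fintype_card]
    exact Nat.card_congr (Equiv.subtypeEquivRight fun y => comm_v_iff hts y)
  all_goals
    obtain ⟨s, k, hs, hsk⟩ := h.exists_act hnN
    have hnt := mem_centralizer_singleton_iff.1 hn
    have hcm : ∀ i, act s k (act 0 2 i) = act 0 2 (act s k i) := fun i => F.vinj (by
      rw [← actsAs_act hsk, ← actsAs_act hts, ← actsAs_act hts, ← actsAs_act hsk,
        show n * (F.p 2 * F.v i * (F.p 2)⁻¹) * n⁻¹ = (n * F.p 2) * F.v i * (n * F.p 2)⁻¹ by group, hnt]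
      group)
    obtain ⟨hf1, hf2, hf3⟩ := tau_facts.1 m s k hs hcm
  · exact ⟨hf1.imp (fun e => by rw [actsAs_act hsk, e]) (fun e => by rw [actsAs_act hsk, e, F.v_inv]),
      hf2.imp (fun e => by rw [actsAs_act hsk, e]) (fun e => by rw [actsAs_act hsk, e, F.v_inv])⟩
  · obtain ⟨rfl, hk⟩ := hf3 ((comm_v_iff hsk 1).1 h1.symm) ((comm_v_iff hsk 12).1 h2.symm)
    rcases hk with rfl | rfl
    · exact Or.inl (mem_J_of_act hsk)
    · refine Or.inr ?_
      have h3 := inv_mul_mem_J hts hsk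
      rwa [inv_eq_of_mul_eq_one_right ht] at h3

theorem card_cent_tau (hsc : F.SmallCent) :
    Nat.card (centralizer ({F.p 2} : Set G)) = 9 * if m = 0 then 2 else if m = 3 then 8 else 4 := by
  obtain ⟨t, ht, hts, rfl⟩ := h.exists_tau
  have h1 := h.card_cent_inv ht hts
  rwa [inf_eq_left.2 (h.cent_tau_le hsc), tau_facts.2.2.2.2.1, tau_facts.2.2.2.2.2.1] at h1

/-- An involution of `N(J)` with too small a centralizer there is not conjugate to the transposition. -/
theorem not_conj_tau (hsc : F.SmallCent) {u : G} (hu : u * u = 1) {s : Fin 8} {k : Fin 6} (hus : F.ActsAs u s k)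
    {y : Fin 27} (hy0 : y ≠ 0) (hyu : act s k y = y)
    (h9 : ¬ 9 ∣ (Finset.univ.filter fun y : Fin 27 => act s k y = y).card *
      (Finset.univ.filter fun q : Fin 8 × Fin 6 =>
        signSets m q.1 = true ∧ ∀ i, act q.1 q.2 (act s k i) = act s k (act q.1 q.2 i)).card)
    (g : G) : g * F.p 2 * g⁻¹ ≠ u := by
  classical
  haveI : Fact (Nat.Prime 3) := ⟨Nat.prime_three⟩
  intro hg
  set τ := F.p 2 with hτ
  obtain ⟨-, -, hts, -⟩ := h.exists_tau
  set Cτ := centralizer ({τ} : Set G) with hCτ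
  set Cu := centralizer ({u} : Set G) with hCu
  let E : Subgroup G := F.J ⊓ Cτ
  have hEcard : Nat.card E = 9 := by
    rw [← tau_facts.2.2.2.2.1, ← Fintype.card_subtype, ← Nat.card_eq_fintype_card]
    refine (Nat.card_eq_of_bijective (fun y : {y : Fin 27 // act 0 2 y = y} => (⟨F.v y.1, F.v_mem _,
      mem_centralizer_singleton_iff.2 ((comm_v_iff (F.actsAs_p 2) _).2 y.2)⟩ : E)) ⟨fun a b e => ?_, ?_⟩).symm
    · exact Subtype.ext (F.vinj (congrArg Subtype.val e))
    · rintro ⟨_, ⟨a, rfl⟩, ha⟩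
      exact ⟨⟨a, (comm_v_iff (F.actsAs_p 2) a).1 (mem_centralizer_singleton_iff.1 ha)⟩, rfl⟩
  set E' := E.map (MulAut.conj g).toMonoidHom with hE'
  have hE'C : E' ≤ Cu := by
    rintro _ ⟨a, ha, rfl⟩
    refine mem_centralizer_singleton_iff.2 ?_
    show g * a * g⁻¹ * u = u * (g * a * g⁻¹)
    rw [← hg, conj_mul, conj_mul, mem_centralizer_singleton_iff.1 ha.2]
  have hE'card : Nat.card E' = 9 := by rw [hE', card_map_of_injective (MulAut.conj g).injective, hEcard]
  have hmap : Cu = Cτ.map (MulAut.conj g).toMonoidHom := by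
    ext z
    constructor
    · intro hz
      refine ⟨g⁻¹ * z * g, mem_centralizer_singleton_iff.2 ?_, by simp [mul_assoc]⟩
      have h1 := mem_centralizer_singleton_iff.1 hz
      rw [← hg] at h1
      calc g⁻¹ * z * g * τ = g⁻¹ * (z * (g * τ * g⁻¹)) * g := by group
        _ = g⁻¹ * (g * τ * g⁻¹ * z) * g := by rw [h1]
        _ = τ * (g⁻¹ * z * g) := by group
    · rintro ⟨a, ha, rfl⟩
      refine mem_centralizer_singleton_iff.2 ?_
      show g * a * g⁻¹ * u = u * (g * a * g⁻¹)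
      rw [← hg, conj_mul, conj_mul, mem_centralizer_singleton_iff.1 ha]
  have hCucard : Nat.card Cu = 9 * if m = 0 then 2 else if m = 3 then 8 else 4 := by
    rw [hmap, card_map_of_injective (MulAut.conj g).injective, h.card_cent_tau hsc]
  -- a conjugate of that subgroup contains the fixed element
  have hidx : ¬ 3 ∣ (E'.subgroupOf Cu).index := by
    have h1 := card_mul_index (E'.subgroupOf Cu)
    rw [Nat.card_congr (subgroupOfEquivOfLe hE'C).toEquiv, hE'card, hCucard] at h1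
    rw [Nat.eq_of_mul_eq_mul_left (by norm_num) h1]
    split_ifs <;> norm_num
  let R : Sylow 3 Cu := (IsPGroup.of_card (n := 2) (by
    rw [Nat.card_congr (subgroupOfEquivOfLe hE'C).toEquiv, hE'card]; rfl) : IsPGroup 3 (E'.subgroupOf Cu)).toSylow
      hidx
  have hvC : F.v y ∈ Cu := mem_centralizer_singleton_iff.2 ((comm_v_iff hus y).2 hyu)
  have hz : IsPGroup 3 (zpowers (⟨F.v y, hvC⟩ : Cu)) := IsPGroup.of_card (n := 1) (by
    rw [Nat.card_zpowers, pow_one]
    exact orderOf_eq_prime (Subtype.ext (F.v_cube y)) fun e => hy0 (F.v_eq_one.1 (congrArg Subtype.val e)))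
  obtain ⟨Q, hQ⟩ := hz.exists_le_sylow
  obtain ⟨c, hc⟩ := MulAction.exists_smul_eq Cu Q R
  set D := E'.map (MulAut.conj (c : G)⁻¹).toMonoidHom with hD
  have hvD : F.v y ∈ D := by
    have h1 : (c • Q : Sylow 3 Cu).1 = E'.subgroupOf Cu := by rw [hc]; rfl
    have h2 : c * ⟨F.v y, hvC⟩ * c⁻¹ ∈ E'.subgroupOf Cu := by
      rw [← h1]
      show _ ∈ ((c • Q : Sylow 3 Cu) : Subgroup Cu)
      rw [Sylow.coe_subgroup_smul, mem_pointwise_smul_iff_inv_smul_mem]
      simpa [MulAut.smul_def, mul_assoc] using hQ (mem_zpowers _)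
    exact ⟨_, mem_subgroupOf.1 h2, by simp [mul_assoc]⟩
  have hDle : D ≤ Cu ⊓ normalizer (F.J : Set G) := by
    rintro _ ⟨a, ha, rfl⟩
    obtain ⟨b, hb, hbv⟩ := hvD
    have hab : a * b = b * a := by
      obtain ⟨a', ⟨⟨i, hi⟩, -⟩, rfl⟩ := ha
      obtain ⟨b', ⟨⟨j, hj⟩, -⟩, rfl⟩ := hb
      rw [← map_mul, ← map_mul, ← hi, ← hj, (F.v_comm i j).eq]
    refine ⟨?_, hsc y hy0 _ ?_⟩
    · show (c : G)⁻¹ * a * (c : G)⁻¹⁻¹ ∈ Cu
      exact mul_mem (mul_mem (inv_mem c.2) (hE'C ha)) (inv_mem (inv_mem c.2))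
    · rw [← hbv, ← map_mul, ← map_mul, hab]
  have hdvd := card_dvd_of_le hDle
  rw [hD, card_map_of_injective (MulAut.conj ((c : G)⁻¹)).injective, hE'card, h.card_cent_inv hu hus] at hdvd
  exact h9 hdvd

end IsCase

end Frame

end Cfsg.Lib.SymNine
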