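import Cfsg.Agent.Lib.SymNine.Model

/-!
# Coordinates in the centralizer of the element of order three

`v` names the elements of `J` by codes, `p` names the coordinate permutations.
-/

set_option autoImplicit false

namespace Cfsg.Lib.SymNine

open Subgroup

/-- The coordinates. -/
structure Frame (G : Type*) [Group G] where
  /-- The elements of `J`. -/
  v : Fin 27 → G
  /-- The permutations. -/
  p : Fin 6 → G
  vinj : Function.Injective v
  vmul : ∀ i j, v (vAdd i j) = v i * v j
  pmul : ∀ k l, p (kmul k l) = p k * p l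
  pv : ∀ k i, p k * v i = v (lap (lperm k) i) * p k
  free : ∀ i k, v i * p k = 1 → i = 0 ∧ k = 0
  cent : ∀ g, g * v one1 = v one1 * g ↔ ∃ i k, g = v i * p k
  sig : ∀ K : Subgroup G, (Nat.card K).Coprime 3 →
    (∀ i, K.map (MulAut.conj (v i)).toMonoidHom = K) → K = ⊥

theorem code_facts :
    (∀ i, vAdd i 0 = i ∧ vAdd 0 i = i ∧ vAdd i (vSmul 2 i) = 0 ∧ vSmul 1 i = i) ∧
    (∀ i j, vAdd i j = vAdd j i) ∧
    (∀ i, vAdd i (vAdd i i) = 0) := by
  refine ⟨?_, ?_, ?_⟩ <;> decide +kernel

namespace Frame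

variable {G : Type*} [Group G] (F : Frame G)

theorem v0 : F.v 0 = 1 := by
  have h := F.vmul 0 0
  rw [(code_facts.1 0).1] at h
  exact left_eq_mul.1 h

theorem p0 : F.p 0 = 1 := by
  have h := F.pmul 0 0
  rw [(kperm_facts.2.2.2.1 0).2.2.1] at h
  exact left_eq_mul.1 h

theorem v_inv (i : Fin 27) : (F.v i)⁻¹ = F.v (vSmul 2 i) :=
  inv_eq_of_mul_eq_one_right (by rw [← F.vmul, (code_facts.1 i).2.2.1, F.v0])

theorem p_inv (k : Fin 6) : (F.p k)⁻¹ = F.p (kinv k) :=
  inv_eq_of_mul_eq_one_right (by rw [← F.pmul, (kperm_facts.2.2.2.1 k).1, F.p0])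

theorem v_comm (i j : Fin 27) : Commute (F.v i) (F.v j) := by
  show F.v i * F.v j = F.v j * F.v i
  rw [← F.vmul, code_facts.2.1, F.vmul]

theorem v_cube (i : Fin 27) : F.v i ^ 3 = 1 := by
  rw [pow_succ', pow_two, ← F.vmul, ← F.vmul, code_facts.2.2, F.v0]

theorem v_eq_one {i : Fin 27} : F.v i = 1 ↔ i = 0 :=
  ⟨fun h => F.vinj (h.trans F.v0.symm), fun h => h ▸ F.v0⟩

/-- The elementary abelian subgroup of order twenty-seven. -/
def J : Subgroup G where
  carrier := Set.range F.v
  one_mem' := ⟨0, F.v0⟩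
  mul_mem' := by rintro _ _ ⟨i, rfl⟩ ⟨j, rfl⟩; exact ⟨_, F.vmul i j⟩
  inv_mem' := by rintro _ ⟨i, rfl⟩; exact ⟨_, (F.v_inv i).symm⟩

theorem v_mem (i : Fin 27) : F.v i ∈ F.J := ⟨i, rfl⟩

theorem mem_J {g : G} : g ∈ F.J ↔ ∃ i, F.v i = g := Iff.rfl

theorem card_J : Nat.card F.J = 27 := by
  show Nat.card (Set.range F.v) = 27
  rw [Nat.card_range_of_injective F.vinj, Nat.card_fin]

theorem isMulCommutative_J : IsMulCommutative F.J :=
  ⟨⟨fun a b => Subtype.ext (by
    obtain ⟨i, hi⟩ := a.2
    obtain ⟨j, hj⟩ := b.2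
    rw [Subgroup.coe_mul, Subgroup.coe_mul, ← hi, ← hj]
    exact (F.v_comm i j).eq)⟩⟩

theorem J_cube {g : G} (hg : g ∈ F.J) : g ^ 3 = 1 := by
  obtain ⟨i, rfl⟩ := hg
  exact F.v_cube i

/-- The central element. -/
def x : G := F.v one1

theorem x_mem : F.x ∈ F.J := F.v_mem one1

theorem vp_eq {i j : Fin 27} {k l : Fin 6} (h : F.v i * F.p k = F.v j * F.p l) : i = j ∧ k = l := by
  have e : F.v (vAdd (vSmul 2 j) i) * F.p (kmul k (kinv l)) = 1 := by
    rw [F.vmul, F.pmul, ← F.v_inv, ← F.p_inv,
      show (F.v j)⁻¹ * F.v i * (F.p k * (F.p l)⁻¹) = (F.v j)⁻¹ * (F.v i * F.p k) * (F.p l)⁻¹ by group, h]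
    group
  obtain ⟨h1, h2⟩ := F.free _ _ e
  have hi : i = j := by
    have h3 : F.v (vAdd (vSmul 2 j) i) = 1 := by rw [h1, F.v0]
    rw [F.vmul, ← F.v_inv, inv_mul_eq_one] at h3
    exact (F.vinj h3).symm
  refine ⟨hi, ?_⟩
  have key : ∀ k l : Fin 6, kmul k (kinv l) = 0 → k = l := by decide +kernel
  exact key k l h2

theorem card_cent_x : Nat.card (centralizer ({F.x} : Set G)) = 162 := by
  let f : Fin 27 × Fin 6 → centralizer ({F.x} : Set G) := fun q =>
    ⟨F.v q.1 * F.p q.2, mem_centralizer_singleton_iff.2 ((F.cent _).2 ⟨_, _, rfl⟩)⟩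
  have hf : Function.Bijective f := by
    refine ⟨fun a b h => Prod.ext (F.vp_eq (congrArg Subtype.val h)).1 (F.vp_eq (congrArg Subtype.val h)).2, ?_⟩
    rintro ⟨g, hg⟩
    obtain ⟨i, k, rfl⟩ := (F.cent g).1 (mem_centralizer_singleton_iff.1 hg)
    exact ⟨(i, k), rfl⟩
  rw [← Nat.card_eq_of_bijective f hf, Nat.card_prod, Nat.card_fin, Nat.card_fin]

/-- A change of coordinates commuting with the permutations. -/
def recoord (t : Fin 3) : Frame G where
  v := fun i => F.v (lap (phi t) i)
  p := F.p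
  vinj := fun i j h => by
    have := congrArg (lap (phiInv t)) (F.vinj h)
    rwa [(mon_facts.2.2.2.1 t i).2, (mon_facts.2.2.2.1 t j).2] at this
  vmul := fun i j => by rw [mon_facts.2.2.2.2.2.2.1, F.vmul]
  pmul := F.pmul
  pv := fun k i => by
    have key : ∀ t : Fin 3, ∀ k : Fin 6, ∀ i : Fin 27,
        lap (lperm k) (lap (phi t) i) = lap (phi t) (lap (lperm k) i) := by decide +kernel
    show F.p k * F.v _ = F.v _ * F.p k
    rw [F.pv, key]
  free := fun i k h => by
    obtain ⟨h1, h2⟩ := F.free _ _ h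
    refine ⟨?_, h2⟩
    have key : ∀ t : Fin 3, ∀ i : Fin 27, lap (phi t) i = 0 → i = 0 := by decide +kernel
    exact key t i h1
  cent := fun g => by
    simp only [mon_facts.2.2.2.2.2.1]
    rw [F.cent]
    constructor
    · rintro ⟨i, k, rfl⟩
      exact ⟨lap (phiInv t) i, k, by rw [(mon_facts.2.2.2.1 t i).1]⟩
    · rintro ⟨i, k, rfl⟩
      exact ⟨_, k, rfl⟩
  sig := fun K hK h => F.sig K hK fun i => by
    have := h (lap (phiInv t) i)
    rwa [(mon_facts.2.2.2.1 t i).1] at this

theorem recoord_J (t : Fin 3) : (F.recoord t).J = F.J := by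
  ext g
  constructor
  · rintro ⟨i, rfl⟩; exact ⟨_, rfl⟩
  · rintro ⟨i, rfl⟩
    exact ⟨lap (phiInv t) i, by show F.v _ = _; rw [(mon_facts.2.2.2.1 t i).1]⟩

end Frame

theorem code_neg : (∀ i, vSmul 2 (vSmul 2 i) = i) ∧
    (∀ i j, vSmul 2 (vAdd i j) = vAdd (vSmul 2 i) (vSmul 2 j)) ∧
    (∀ k i, vSmul 2 (lap (lperm k) i) = lap (lperm k) (vSmul 2 i)) ∧
    (∀ i k, (∀ j l, (pv j * pk l) * (pv i * pk k) = (pv i * pk k) * (pv j * pk l)) →
      k = 0 ∧ (i = 0 ∨ i = one1 ∨ i = vSmul 2 one1)) := by
  refine ⟨?_, ?_, ?_, ?_⟩ <;> decide +kernel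

/-- Coordinates exist, and their `J` is the given one. -/
theorem exists_frame {G : Type*} [Group G] [Finite G]
    (x : G) (hx : orderOf x = 3)
    (eC : Subgroup.centralizer ({x} : Set G) ≃* Subgroup.centralizer ({cAll} : Set (Equiv.Perm (Fin 9))))
    (J : Subgroup G) (hJC : J ≤ Subgroup.centralizer ({x} : Set G)) (hJcomm : IsMulCommutative J)
    (hJexp : ∀ j ∈ J, j ^ 3 = 1) (hJcard : Nat.card J = 27)
    (hJsig : ∀ K : Subgroup G, (Nat.card K).Coprime 3 → (∀ j ∈ J, K.map (MulAut.conj j).toMonoidHom = K) → K = ⊥) :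
    ∃ F : Frame G, F.J = J := by
  classical
  set C := Subgroup.centralizer ({cAll} : Set (Equiv.Perm (Fin 9)))
  have hmemC : ∀ i k, pv i * pk k ∈ C := fun i k => mem_centralizer_singleton_iff.2
    (by rw [← model_facts.2.2.2.2.2.1]; exact (model_facts.2.2.2.2.2.2 i k).symm)
  have hC : ∀ c : C, ∃ i k, (c : Equiv.Perm (Fin 9)) = pv i * pk k := fun c =>
    cent_model (mem_centralizer_singleton_iff.1 c.2)
  have hpk0 : pk 0 = 1 := by decide +kernel
  have hpv0 : pv 0 = 1 := by decide +kernel
  let a : Fin 27 → C := fun i => ⟨pv i, by have := hmemC i 0; rwa [hpk0, mul_one] at this⟩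
  let b : Fin 6 → C := fun k => ⟨pk k, by have := hmemC 0 k; rwa [hpv0, one_mul] at this⟩
  set e := eC.symm with he
  have hxC : x ∈ Subgroup.centralizer ({x} : Set G) := mem_centralizer_singleton_iff.2 rfl
  -- the image of `x`
  have hx1 : ∃ ε : Fin 27, (ε = one1 ∨ ε = vSmul 2 one1) ∧ (e (a ε) : G) = x := by
    obtain ⟨i, k, hik⟩ := hC (eC ⟨x, hxC⟩)
    have hcent : ∀ j l, (pv j * pk l) * (pv i * pk k) = (pv i * pk k) * (pv j * pk l) := by
      intro j l
      have h := mem_centralizer_singleton_iff.1 (e ⟨_, hmemC j l⟩).2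
      have h2 : ⟨_, hmemC j l⟩ * eC ⟨x, hxC⟩ = eC ⟨x, hxC⟩ * ⟨_, hmemC j l⟩ := by
        apply e.injective
        simp only [map_mul, he, MulEquiv.symm_apply_apply]
        exact Subtype.ext h
      rw [← hik]
      exact congrArg Subtype.val h2
    obtain ⟨rfl, hi⟩ := code_neg.2.2.2 i k hcent
    rw [hpk0, mul_one] at hik
    have hback : e (a i) = ⟨x, hxC⟩ := by
      rw [show a i = eC ⟨x, hxC⟩ from Subtype.ext hik.symm, he, MulEquiv.symm_apply_apply]
    rcases hi with rfl | hi
    · exfalso
      rw [show a 0 = 1 from Subtype.ext hpv0, map_one] at hback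
      have h1 := congrArg Subtype.val hback
      simp only [OneMemClass.coe_one] at h1
      rw [← h1, orderOf_one] at hx
      norm_num at hx
    · exact ⟨i, hi, congrArg Subtype.val hback⟩
  obtain ⟨ε, hε, hεx⟩ := hx1
  let tw : Fin 27 → Fin 27 := fun i => if ε = one1 then i else vSmul 2 i
  have htw : ∀ i, tw (tw i) = i := fun i => by
    simp only [tw]; split
    · rfl
    · exact code_neg.1 i
  have htw1 : tw one1 = ε := by
    simp only [tw]
    rcases hε with rfl | rfl
    · rw [if_pos rfl]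
    · rw [if_neg (by decide)]
  have htwadd : ∀ i j, tw (vAdd i j) = vAdd (tw i) (tw j) := fun i j => by
    simp only [tw]; split
    · rfl
    · exact code_neg.2.1 i j
  have htwperm : ∀ k i, lap (lperm k) (tw i) = tw (lap (lperm k) i) := fun k i => by
    simp only [tw]; split
    · rfl
    · exact (code_neg.2.2.1 k i).symm
  have haj : Function.Injective fun i => (e (a i) : G) := fun i j h =>
    model_facts.2.1 i j (congrArg Subtype.val (e.injective (Subtype.ext h)))
  -- `J` is the image of the base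
  have hJimg : ∀ g ∈ J, ∃ i, (e (a i) : G) = g := by
    intro g hg
    obtain ⟨i, k, hik⟩ := hC (eC ⟨g, hJC hg⟩)
    by_cases hk : k = 0
    · subst hk
      rw [hpk0, mul_one] at hik
      exact ⟨i, by rw [show a i = eC ⟨g, hJC hg⟩ from Subtype.ext hik.symm, he, MulEquiv.symm_apply_apply]⟩
    exfalso
    -- the homomorphism to the permutations has an image of order dividing three
    have hw : ∀ w : J, ∃ i k, (eC ⟨w, hJC w.2⟩ : Equiv.Perm (Fin 9)) = pv i * pk k := fun w => hC _
    choose wi wk hwk using hw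
    have hcube : ∀ w : J, (pv (wi w) * pk (wk w)) * ((pv (wi w) * pk (wk w)) * (pv (wi w) * pk (wk w))) = 1 := by
      intro w
      rw [← hwk, ← Subgroup.coe_mul, ← Subgroup.coe_mul, ← map_mul, ← map_mul, OneMemClass.coe_eq_one,
        MulEquiv.map_eq_one_iff]
      exact Subtype.ext (by simp only [Subgroup.coe_mul]; rw [← pow_two, ← pow_succ']; exact hJexp _ w.2)
    have h3 : ∀ w : J, wk w = 0 ∨ wk w = 3 ∨ wk w = 4 := by
      intro w
      have key : ∀ i k, (pv i * pk k) * ((pv i * pk k) * (pv i * pk k)) = 1 → k = 0 ∨ k = 3 ∨ k = 4 := by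
        decide +kernel
      exact key _ _ (hcube w)
    have hsum : 27 ≤ 3 * ((List.finRange 27).filter fun j =>
        decide (pv j * (pv i * pk k) = (pv i * pk k) * pv j)).length := by
      rw [← List.toFinset_card_of_nodup ((List.nodup_finRange 27).filter _)]
      haveI := Fintype.ofFinite J
      refine le_of_eq_of_le hJcard.symm ?_
      rw [Nat.card_eq_fintype_card, ← Finset.card_univ]
      -- the fibres over the three possible permutations
      have hfib : ∀ m, (Finset.univ.filter fun w : J => wk w = m).card ≤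
          ((List.finRange 27).filter fun j =>
            decide (pv j * (pv i * pk k) = (pv i * pk k) * pv j)).toFinset.card := by
        intro m
        by_cases hm : ∃ w₀ : J, wk w₀ = m
        · obtain ⟨w₀, hw₀⟩ := hm
          refine Finset.card_le_card_of_injOn (fun w => vAdd (wi w) (vSmul 2 (wi w₀))) ?_ ?_
          · intro w hw
            simp only [Finset.coe_filter, Finset.mem_univ, true_and, Set.mem_setOf_eq] at hw
            simp only [List.coe_toFinset, List.mem_filter, List.mem_finRange, true_and, decide_eq_true_eq,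
              Set.mem_setOf_eq]
            have hinv : pv (vSmul 2 (wi w₀)) = (pv (wi w₀))⁻¹ := eq_inv_of_mul_eq_one_right (by
              rw [← model_facts.1, (code_facts.1 _).2.2.1, hpv0])
            have e1 : (pv (vAdd (wi w) (vSmul 2 (wi w₀))) : Equiv.Perm (Fin 9)) =
                (eC ⟨(w : G), hJC w.2⟩ * (eC ⟨(w₀ : G), hJC w₀.2⟩)⁻¹ : C) := by
              rw [model_facts.1, hinv, Subgroup.coe_mul, InvMemClass.coe_inv, hwk, hwk, hw, hw₀]
              group
            rw [e1, ← hik]
            have e2 : (eC ⟨(w : G), hJC w.2⟩ * (eC ⟨(w₀ : G), hJC w₀.2⟩)⁻¹) * eC ⟨g, hJC hg⟩ =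
                eC ⟨g, hJC hg⟩ * (eC ⟨(w : G), hJC w.2⟩ * (eC ⟨(w₀ : G), hJC w₀.2⟩)⁻¹) := by
              rw [← map_inv, ← map_mul, ← map_mul, ← map_mul]
              refine congrArg eC (Subtype.ext ?_)
              have := hJcomm.is_comm.comm (w * w₀⁻¹) ⟨g, hg⟩
              simpa using congrArg Subtype.val this
            exact congrArg Subtype.val e2
          · intro w hw w' hw' h
            simp only [Finset.coe_filter, Finset.mem_univ, true_and, Set.mem_setOf_eq] at hw hw'
            have key : ∀ p q r : Fin 27, vAdd p r = vAdd q r → p = q := by decide +kernel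
            have h' := key _ _ _ h
            have h2 : eC ⟨(w : G), hJC w.2⟩ = eC ⟨(w' : G), hJC w'.2⟩ :=
              Subtype.ext (by rw [hwk, hwk, h', hw, hw'])
            exact Subtype.ext (congrArg Subtype.val (eC.injective h2) :)
        · rw [show (Finset.univ.filter fun w : J => wk w = m) = ∅ from
            Finset.filter_eq_empty_iff.2 fun w _ hw => hm ⟨w, hw⟩]
          simp
      calc (Finset.univ : Finset J).card ≤ ((Finset.univ.filter fun w : J => wk w = 0) ∪
            (Finset.univ.filter fun w : J => wk w = 3) ∪ (Finset.univ.filter fun w : J => wk w = 4)).card :=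
            Finset.card_le_card fun w _ => by
              simp only [Finset.mem_union, Finset.mem_filter, Finset.mem_univ, true_and]
              rcases h3 w with h | h | h <;> simp [h]
        _ ≤ _ := by
              refine le_trans (Finset.card_union_le _ _) ?_
              refine le_trans (Nat.add_le_add_right (Finset.card_union_le _ _) _) ?_
              have := hfib 0
              have := hfib 3
              have := hfib 4
              omega
    have hgcube : (pv i * pk k) * ((pv i * pk k) * (pv i * pk k)) = 1 := by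
      rw [← hik, ← Subgroup.coe_mul, ← Subgroup.coe_mul, ← map_mul, ← map_mul, OneMemClass.coe_eq_one,
        MulEquiv.map_eq_one_iff]
      exact Subtype.ext (by simp only [Subgroup.coe_mul]; rw [← pow_two, ← pow_succ']; exact hJexp _ hg)
    have := base_unique i k hk hgcube
    omega
  have hJrange : (J : Set G) = Set.range fun i => (e (a i) : G) := by
    refine Set.eq_of_subset_of_ncard_le (fun g hg => ?_) ?_ (Set.finite_range _)
    · exact hJimg g hg
    · rw [Set.ncard_range_of_injective haj, Nat.card_fin, ← Nat.card_coe_set_eq]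
      exact hJcard.ge
  refine ⟨{
    v := fun i => e (a (tw i))
    p := fun k => e (b k)
    vinj := fun i j h => by rw [← htw i, ← htw j, haj h]
    vmul := fun i j => by
      rw [← Subgroup.coe_mul, ← map_mul, htwadd]
      exact congrArg (fun c => (e c : G)) (Subtype.ext (model_facts.1 _ _))
    pmul := fun k l => by
      rw [← Subgroup.coe_mul, ← map_mul]
      exact congrArg (fun c => (e c : G)) (Subtype.ext (model_facts.2.2.2.1 _ _))
    pv := fun k i => by
      rw [← Subgroup.coe_mul, ← map_mul, ← Subgroup.coe_mul, ← map_mul, ← htwperm]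
      exact congrArg (fun c => (e c : G)) (Subtype.ext (model_facts.2.2.1 _ _))
    free := fun i k h => by
      rw [← Subgroup.coe_mul, ← map_mul, OneMemClass.coe_eq_one, MulEquiv.map_eq_one_iff] at h
      obtain ⟨h1, h2⟩ := model_facts.2.2.2.2.1 _ _ (congrArg Subtype.val h)
      refine ⟨?_, h2⟩
      rw [← htw i, h1]
      simp only [tw]
      split
      · rfl
      · decide
    cent := fun g => by
      simp only [htw1, hεx]
      constructor
      · intro hg
        obtain ⟨i, k, hik⟩ := hC (eC ⟨g, mem_centralizer_singleton_iff.2 hg⟩)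
        refine ⟨tw i, k, ?_⟩
        rw [htw, ← Subgroup.coe_mul, ← map_mul, show a i * b k = eC ⟨g, mem_centralizer_singleton_iff.2 hg⟩
          from Subtype.ext hik.symm, he, MulEquiv.symm_apply_apply]
      · rintro ⟨i, k, rfl⟩
        rw [← Subgroup.coe_mul]
        exact mem_centralizer_singleton_iff.1 (SetLike.coe_mem _)
    sig := fun K hK h => hJsig K hK fun j hj => by
      obtain ⟨i, rfl⟩ := hJimg j hj
      have := h (tw i)
      rwa [htw] at this }, SetLike.coe_injective ?_⟩
  rw [hJrange]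
  ext g
  constructor
  · rintro ⟨i, rfl⟩; exact ⟨_, rfl⟩
  · rintro ⟨i, rfl⟩; exact ⟨tw i, by simp only [htw]⟩

end Cfsg.Lib.SymNine
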