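import Cfsg.Agent.Lib.SymNine.Cent
import Cfsg.Agent.Lib.ZStar.Main
import Cfsg.Agent.S0205

/-!
# Global lemmas

A nontrivial normal 3-subgroup, or one of odd order, makes `J` normal; the sign of an involution on cosets gives a
subgroup of index two avoiding it.
-/

set_option autoImplicit false
set_option maxHeartbeats 1600000
set_option linter.unusedSectionVars false
set_option linter.style.haveILetI false

namespace Cfsg.Lib.SymNine

open Subgroup

/-- An involution whose conjugates meet `U` in itself only, with an odd number of transpositions on the cosets. -/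
theorem exists_index_two {G : Type*} [Group G] [Finite G] (U : Subgroup G) {t : G} (ht : t * t = 1)
    (htU : t ∈ U) (hUC : U ≤ centralizer ({t} : Set G)) (huniq : ∀ g : G, g * t * g⁻¹ ∈ U → g * t * g⁻¹ = t)
    {f : ℕ} (hf : U.relIndex (centralizer ({t} : Set G)) = f) (hodd : Odd ((U.index - f) / 2)) :
    ∃ M : Subgroup G, M.index = 2 ∧ t ∉ M := by
  classical
  haveI := Fintype.ofFinite G
  haveI : Fintype (G ⧸ U) := Fintype.ofFinite _
  let χ : G →* ℤˣ := Equiv.Perm.sign.comp (MulAction.toPermHom G (G ⧸ U))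
  set σ := MulAction.toPermHom G (G ⧸ U) t
  have hσ : σ ^ 2 = 1 := by rw [pow_two, ← map_mul, ht, map_one]
  set C := centralizer ({t} : Set G) with hC
  let φ : C ⧸ U.subgroupOf C → Function.fixedPoints σ := fun q =>
    Quotient.liftOn' q (fun c => ⟨QuotientGroup.mk (c : G), by
      show t • (QuotientGroup.mk (c : G) : G ⧸ U) = QuotientGroup.mk (c : G)
      rw [MulAction.Quotient.smul_mk, smul_eq_mul, QuotientGroup.eq]
      have h1 := mem_centralizer_singleton_iff.1 c.2
      rw [show (t * (c : G))⁻¹ * (c : G) = t⁻¹ by rw [← h1]; group]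
      exact inv_mem htU⟩) fun a b hab => by
      refine Subtype.ext ?_
      rw [QuotientGroup.leftRel_apply] at hab
      exact QuotientGroup.eq.2 (by simpa [mem_subgroupOf] using hab)
  have hφ : Function.Bijective φ := by
    constructor
    · intro a b hab
      induction a using Quotient.inductionOn' with | _ a => ?_
      induction b using Quotient.inductionOn' with | _ b => ?_
      have h1 : (QuotientGroup.mk (a : G) : G ⧸ U) = QuotientGroup.mk (b : G) := congrArg Subtype.val hab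
      rw [QuotientGroup.eq] at h1
      exact QuotientGroup.eq.2 (by simpa [mem_subgroupOf] using h1)
    · rintro ⟨q, hq⟩
      obtain ⟨g, rfl⟩ := QuotientGroup.mk_surjective q
      have h1 : t • (QuotientGroup.mk g : G ⧸ U) = QuotientGroup.mk g := hq
      rw [MulAction.Quotient.smul_mk, smul_eq_mul, QuotientGroup.eq] at h1
      have h2 : g⁻¹ * t * g ∈ U := by
        rw [show g⁻¹ * t * g = ((t * g)⁻¹ * g)⁻¹ by group]
        exact inv_mem h1
      have h3 := huniq g⁻¹ (by rw [inv_inv]; exact h2)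
      rw [inv_inv] at h3
      refine ⟨QuotientGroup.mk (⟨g, mem_centralizer_singleton_iff.2 ?_⟩ : C), rfl⟩
      conv_lhs => arg 2; rw [← h3]
      group
  have hcard : Fintype.card (Function.fixedPoints σ) = f := by
    rw [← hf, relIndex, index_eq_card, Nat.card_eq_of_bijective φ hφ, Nat.card_eq_fintype_card]
  have hχ : χ t = -1 := by
    show Equiv.Perm.sign σ = -1
    rw [Equiv.Perm.sign_of_pow_two_eq_one hσ, hcard, ← Nat.card_eq_fintype_card, ← index_eq_card]
    exact hodd.neg_one_pow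
  refine ⟨χ.ker, ?_, fun h => ?_⟩
  · have hsurj : Function.Surjective χ := fun u => by
      rcases Int.units_eq_one_or u with rfl | rfl
      exacts [⟨1, map_one _⟩, ⟨t, hχ⟩]
    rw [index_ker, MonoidHom.range_eq_top.2 hsurj, card_top, Nat.card_eq_fintype_card, Fintype.card_units_int]
  · rw [MonoidHom.mem_ker, hχ] at h
    exact absurd h (by decide)

namespace Frame

variable {G : Type*} [Group G] [Finite G] {F : Frame G} {m : Fin 4}

theorem eq_J_of_conj_le_cent {g : G} (hg : ∀ j ∈ F.J, (g * j * g⁻¹) * F.x = F.x * (g * j * g⁻¹)) :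
    g ∈ normalizer (F.J : Set G) :=
  mem_normalizer_of_le (P_isPGroup (F := F)) J_le_P fun j hj =>
    mem_P_of_cent (hg j hj) (n := 1) (by rw [pow_one, conj_pow, F.J_cube hj, mul_one, mul_inv_cancel])

/-- A nontrivial normal 3-subgroup makes `J` normal. -/
theorem normal_of_three {N : Subgroup G} (hN : N.Normal) (hp : IsPGroup 3 N) (hne : N ≠ ⊥) : F.J.Normal := by
  haveI : Fact (Nat.Prime 3) := ⟨Nat.prime_three⟩
  obtain ⟨S, hS⟩ := F.exists_sylow
  have hNP : N ≤ F.P := by
    haveI := hN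
    rw [← hS]
    exact le_sup_right.trans (S.is_maximal' (S.isPGroup'.to_sup_of_normal_right hp) le_sup_left).le
  -- a fixed point of the Sylow subgroup
  have hxN : F.x ∈ N := by
    have hPN : F.P ≤ normalizer (N : Set G) := fun y _ => mem_normalizer_iff.2 fun z => ⟨fun hz => hN.conj_mem z hz y,
      fun hz => by simpa [mul_assoc] using hN.conj_mem _ hz y⁻¹⟩
    letI : MulDistribMulAction F.P N := MulDistribMulAction.compHom N
      ((MulAut.conjNormal (H := N)).comp F.P.subtype)
    obtain ⟨j, hj⟩ := hp.exists_card_eq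
    have hdvd : 3 ∣ Nat.card N := by
      rw [hj]
      refine dvd_pow_self 3 fun h0 => hne ?_
      rw [← card_eq_one, hj, h0, pow_zero]
    obtain ⟨w, hw, hw1⟩ := (P_isPGroup (F := F)).exists_fixed_point_of_prime_dvd_card_of_fixed_point N hdvd
      (a := (1 : N)) (fun y => smul_one y)
    have hfix : ∀ y ∈ F.P, y * (w : G) = (w : G) * y := fun y hy => by
      have h1 := congrArg Subtype.val (hw ⟨y, hy⟩)
      exact mul_inv_eq_iff_eq_mul.1 h1
    rcases center_P (hNP w.2) hfix with h | h | h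
    · exact absurd (Subtype.ext h.symm) hw1
    · exact h ▸ w.2
    · rw [← inv_mem_iff]; exact h ▸ w.2
  have hconj : ∀ g : G, g * F.x * g⁻¹ ∈ F.J := by
    intro g
    by_contra hJ
    obtain ⟨i, k, hk, hy⟩ := hNP (hN.conj_mem _ hxN g)
    have hk0 : k ≠ 0 := fun h => hJ (by rw [hy, h, F.p0, mul_one]; exact F.v_mem i)
    -- any two conjugates commute
    have hcomm : ∀ a b : G, (a * F.x * a⁻¹) * (b * F.x * b⁻¹) = (b * F.x * b⁻¹) * (a * F.x * a⁻¹) := by
      intro a b
      have h1 := mem_centralizer_singleton_iff.1 (P_le_cent (hNP (hN.conj_mem _ hxN (b⁻¹ * a))))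
      calc (a * F.x * a⁻¹) * (b * F.x * b⁻¹)
          = b * (((b⁻¹ * a) * F.x * (b⁻¹ * a)⁻¹) * F.x) * b⁻¹ := by group
        _ = b * (F.x * ((b⁻¹ * a) * F.x * (b⁻¹ * a)⁻¹)) * b⁻¹ := by rw [h1]
        _ = _ := by group
    set d := vAdd 9 (vSmul 2 (lap (lperm k) 9)) with hd
    have h2 := hcomm g (F.v 9 * g)
    rw [show F.v 9 * g * F.x * (F.v 9 * g)⁻¹ = F.v 9 * (g * F.x * g⁻¹) * (F.v 9)⁻¹ by group, hy] at h2
    have h3 : F.v 9 * (F.v i * F.p k) * (F.v 9)⁻¹ = F.v d * (F.v i * F.p k) := by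
      rw [F.v_inv, show F.v 9 * (F.v i * F.p k) * F.v (vSmul 2 9) = F.v 9 * F.v i * (F.p k * F.v (vSmul 2 9)) by group,
        F.pv, hd, F.vmul, show lap (lperm k) (vSmul 2 9) = vSmul 2 (lap (lperm k) 9) by
          have key : ∀ k, lap (lperm k) (vSmul 2 9) = vSmul 2 (lap (lperm k) 9) := by decide +kernel
          exact key k]
      rw [mul_assoc (F.v 9) (F.v (vSmul 2 _)), ← mul_assoc (F.v (vSmul 2 _)), (F.v_comm (vSmul 2 _) i).eq]
      simp only [mul_assoc]
    rw [h3, ← mul_assoc, mul_left_inj, mul_assoc, F.pv, ← mul_assoc, ← mul_assoc (F.v d), mul_left_inj,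
      (F.v_comm d i).eq, mul_right_inj] at h2
    have key : ∀ k : Fin 6, k = 0 ∨ k = 3 ∨ k = 4 → k ≠ 0 →
        lap (lperm k) (vAdd 9 (vSmul 2 (lap (lperm k) 9))) ≠ vAdd 9 (vSmul 2 (lap (lperm k) 9)) := by decide +kernel
    exact key k hk hk0 (F.vinj h2)
  rw [← normalizer_eq_top_iff, eq_top_iff]
  intro g _
  refine eq_J_of_conj_le_cent fun j hj => ?_
  obtain ⟨a, ha⟩ := hconj g⁻¹
  obtain ⟨b, rfl⟩ := hj
  calc g * F.v b * g⁻¹ * F.x = g * (F.v b * (g⁻¹ * F.x * g⁻¹⁻¹)) * g⁻¹ := by group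
    _ = g * ((g⁻¹ * F.x * g⁻¹⁻¹) * F.v b) * g⁻¹ := by rw [← ha, (F.v_comm b a).eq]
    _ = F.x * (g * F.v b * g⁻¹) := by group

/-- A nontrivial normal subgroup of odd order makes `J` normal. -/
theorem normal_of_odd {N : Subgroup G} (hN : N.Normal) (hodd : Odd (Nat.card N)) (hne : N ≠ ⊥) : F.J.Normal := by
  classical
  haveI := hN
  haveI : Group.IsSolvable N := Cfsg.Agent.S0205.result hodd
  obtain ⟨n, hn⟩ := Group.IsSolvable.solvable (G := N)
  have hex : ∃ k, derivedSeries N k = ⊥ := ⟨n, hn⟩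
  have hk0 : Nat.find hex ≠ 0 := by
    intro h0
    have h := Nat.find_spec hex
    rw [h0, derivedSeries_zero] at h
    exact hne ((card_eq_one).1 (by rw [← card_top (G := N), h, card_bot]))
  obtain ⟨k, hk⟩ := Nat.exists_eq_succ_of_ne_zero hk0
  have hA : derivedSeries N k ≠ ⊥ := Nat.find_min hex (by omega)
  have hAc : ∀ a ∈ derivedSeries N k, ∀ b ∈ derivedSeries N k, a * b = b * a := by
    intro a ha b hb
    have h := Nat.find_spec hex
    rw [hk, derivedSeries_succ] at h
    exact commutatorElement_eq_one_iff_mul_comm.1 (mem_bot.1 (h ▸ commutator_mem_commutator ha hb))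
  set A := (derivedSeries N k).map N.subtype with hAdef
  have hAn : A.Normal := by rw [hAdef]; infer_instance
  have hA3 : 3 ∣ Nat.card A := by
    by_contra h3
    refine hA ?_
    have hb := F.sig A ((Nat.Prime.coprime_iff_not_dvd Nat.prime_three).2 h3).symm fun i => by
      ext y
      exact ⟨by rintro ⟨a, ha, rfl⟩; exact hAn.conj_mem a ha _,
        fun hy => ⟨(F.v i)⁻¹ * y * F.v i, by simpa using hAn.conj_mem y hy (F.v i)⁻¹, by simp [mul_assoc]⟩⟩
    rw [hAdef, map_eq_bot_iff_of_injective _ N.subtype_injective] at hb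
    exact hb
  have hAcomm : ∀ a ∈ A, ∀ b ∈ A, a * b = b * a := by
    rintro _ ⟨a, ha, rfl⟩ _ ⟨b, hb, rfl⟩
    rw [← map_mul, ← map_mul, hAc a ha b hb]
  let T : Subgroup G :=
    { carrier := {a | a ∈ A ∧ a ^ 3 = 1}
      one_mem' := ⟨one_mem _, one_pow 3⟩
      mul_mem' := fun {a b} ha hb => ⟨mul_mem ha.1 hb.1, by
        rw [(show Commute a b from hAcomm a ha.1 b hb.1).mul_pow, ha.2, hb.2, one_mul]⟩
      inv_mem' := fun {a} ha => ⟨inv_mem ha.1, by rw [inv_pow, ha.2, inv_one]⟩ }
  haveI : Fact (Nat.Prime 3) := ⟨Nat.prime_three⟩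
  obtain ⟨⟨a, ha⟩, hao⟩ := exists_prime_orderOf_dvd_card' 3 hA3
  rw [orderOf_mk] at hao
  refine normal_of_three (N := T) ⟨fun y hy g => ⟨hAn.conj_mem y hy.1 g, by
    rw [conj_pow, hy.2, mul_one, mul_inv_cancel]⟩⟩ (fun y => ⟨1, Subtype.ext (by simpa using y.2.2)⟩) fun h => ?_
  have : a ∈ T := ⟨ha, hao ▸ pow_orderOf_eq_one a⟩
  rw [h, mem_bot] at this
  rw [this, orderOf_one] at hao
  norm_num at hao

end Frame

end Cfsg.Lib.SymNine
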