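import Cfsg.Agent.Lib.SymNine.Axes
import Mathlib.GroupTheory.Perm.Fin

/-!
# The monomial model inside the symmetric group of degree nine

The point `3 * j + i` is the `i`-th point of the `j`-th block; a code is the product of powers of the three
block cycles, a permutation of the coordinates permutes the blocks, and a sign inverts a block.
-/

set_option autoImplicit false
set_option maxRecDepth 100000

namespace Cfsg.Lib.SymNine

open Equiv

/-- The exponent of a code at a block. -/
def digit (i : Fin 27) : Fin 3 → Fin 3 := fun j =>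
  Fin.ofNat 3 (if j = 0 then i.val / 9 else if j = 1 then i.val / 3 % 3 else i.val % 3)

/-- The block of a point. -/
def blk (a : Fin 9) : Fin 3 := ⟨a.val / 3, by omega⟩

/-- The place of a point in its block. -/
def plc (a : Fin 9) : Fin 3 := ⟨a.val % 3, by omega⟩

/-- A point. -/
def pt (j i : Fin 3) : Fin 9 := ⟨3 * j.val + i.val, by omega⟩

theorem pt_blk : ∀ a : Fin 9, pt (blk a) (plc a) = a := by decide

theorem blk_pt : ∀ j i : Fin 3, blk (pt j i) = j ∧ plc (pt j i) = i := by decide

/-- The permutation of the blocks. -/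
def bperm (k : Fin 6) (j : Fin 3) : Fin 3 :=
  ((![![0, 1, 2], ![0, 2, 1], ![1, 0, 2], ![1, 2, 0], ![2, 0, 1], ![2, 1, 0]] : Fin 6 → Fin 3 → Fin 3) k) j

/-- The index of the inverse permutation. -/
def kinv : Fin 6 → Fin 6 := ![0, 1, 2, 4, 3, 5]

/-- The index of a product of permutations. -/
def kmul (k l : Fin 6) : Fin 6 :=
  ((List.finRange 6).find? fun m => (List.finRange 3).all fun j => bperm m j == bperm k (bperm l j)).getD 0

theorem kperm_facts :
    (∀ k l j, bperm (kmul k l) j = bperm k (bperm l j)) ∧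
    (∀ k l, lcomp (lperm k) (lperm l) = lperm (kmul k l)) ∧
    (∀ k j, bperm k (bperm (kinv k) j) = j ∧ bperm (kinv k) (bperm k j) = j) ∧
    (∀ k, kmul k (kinv k) = 0 ∧ kmul (kinv k) k = 0 ∧ kmul k 0 = k ∧ kmul 0 k = k) ∧
    (∀ k l, lperm k = lperm l → k = l) := by
  refine ⟨?_, ?_, ?_, ?_, ?_⟩ <;> decide +kernel

/-- The product of powers of the block cycles. -/
def pv (i : Fin 27) : Perm (Fin 9) where
  toFun a := pt (blk a) (plc a + digit i (blk a))
  invFun a := pt (blk a) (plc a - digit i (blk a))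
  left_inv a := by
    have h := blk_pt (blk a) (plc a + digit i (blk a))
    simp only [h.1, h.2, add_sub_cancel_right, pt_blk]
  right_inv a := by
    have h := blk_pt (blk a) (plc a - digit i (blk a))
    simp only [h.1, h.2, sub_add_cancel, pt_blk]

/-- The permutation of the blocks on points. -/
def pk (k : Fin 6) : Perm (Fin 9) where
  toFun a := pt (bperm k (blk a)) (plc a)
  invFun a := pt (bperm (kinv k) (blk a)) (plc a)
  left_inv a := by
    have h := blk_pt (bperm k (blk a)) (plc a)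
    simp only [h.1, h.2, (kperm_facts.2.2.1 k _).2, pt_blk]
  right_inv a := by
    have h := blk_pt (bperm (kinv k) (blk a)) (plc a)
    simp only [h.1, h.2, (kperm_facts.2.2.1 k _).1, pt_blk]

/-- The inversion of some blocks. -/
def ps (s : Fin 8) : Perm (Fin 9) where
  toFun a := pt (blk a) (if Nat.testBit s.val (2 - (blk a).val) then -plc a else plc a)
  invFun a := pt (blk a) (if Nat.testBit s.val (2 - (blk a).val) then -plc a else plc a)
  left_inv a := by
    have h := blk_pt (blk a) (if Nat.testBit s.val (2 - (blk a).val) then -plc a else plc a)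
    simp only [h.1, h.2]
    split <;> simp [pt_blk]
  right_inv a := by
    have h := blk_pt (blk a) (if Nat.testBit s.val (2 - (blk a).val) then -plc a else plc a)
    simp only [h.1, h.2]
    split <;> simp [pt_blk]

/-- The product of the three cycles. -/
def cAll : Perm (Fin 9) :=
  swap (0 : Fin 9) 1 * swap 1 2 * swap 3 4 * swap 4 5 * swap 6 7 * swap 7 8

theorem model_facts :
    (∀ i j, pv (vAdd i j) = pv i * pv j) ∧
    (∀ i j, pv i = pv j → i = j) ∧
    (∀ k i, pk k * pv i = pv (lap (lperm k) i) * pk k) ∧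
    (∀ k l, pk (kmul k l) = pk k * pk l) ∧
    (∀ i k, pv i * pk k = 1 → i = 0 ∧ k = 0) ∧
    pv one1 = cAll ∧
    (∀ i k, pv one1 * (pv i * pk k) = (pv i * pk k) * pv one1) := by
  refine ⟨?_, ?_, ?_, ?_, ?_, ?_, ?_⟩ <;> decide +kernel

theorem three_points : ∀ a b c : Fin 9, blk a ≠ blk b → blk a ≠ blk c → blk b ≠ blk c →
    ∃ i k, (pv i * pk k) 0 = a ∧ (pv i * pk k) 3 = b ∧ (pv i * pk k) 6 = c := by
  decide +kernel

theorem cent_model {σ : Perm (Fin 9)} (h : σ * cAll = cAll * σ) : ∃ i k, σ = pv i * pk k := by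
  have hc : ∀ τ : Perm (Fin 9), τ * cAll = cAll * τ → ∀ (n : ℕ) (a : Fin 9), τ ((cAll ^ n) a) = (cAll ^ n) (τ a) := by
    intro τ hτ n a
    exact Equiv.congr_fun ((show Commute τ cAll from hτ).pow_right n).eq a
  have key : ∀ a : Fin 9, ∃ n : Fin 3, ∃ b : Fin 9, (b = 0 ∨ b = 3 ∨ b = 6) ∧ (cAll ^ n.val) b = a := by
    decide +kernel
  have hb : ∀ a b : Fin 9, blk a = blk b → ∃ n : Fin 3, (cAll ^ n.val) a = b := by decide +kernel
  have hne : ∀ a b : Fin 9, (a = 0 ∨ a = 3 ∨ a = 6) → (b = 0 ∨ b = 3 ∨ b = 6) → a ≠ b →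
      blk (σ a) ≠ blk (σ b) := by
    intro a b ha hb' hab e
    obtain ⟨n, hn⟩ := hb _ _ e
    rw [← hc σ h] at hn
    have hn' := σ.injective hn
    have : ∀ a b : Fin 9, (a = 0 ∨ a = 3 ∨ a = 6) → (b = 0 ∨ b = 3 ∨ b = 6) → ∀ n : Fin 3,
        (cAll ^ n.val) a = b → a = b := by decide +kernel
    exact hab (this a b ha hb' n hn')
  obtain ⟨i, k, h0, h3, h6⟩ := three_points (σ 0) (σ 3) (σ 6) (hne 0 3 (by simp) (by simp) (by decide))
    (hne 0 6 (by simp) (by simp) (by decide)) (hne 3 6 (by simp) (by simp) (by decide))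
  refine ⟨i, k, Equiv.ext fun a => ?_⟩
  obtain ⟨n, b, hb', rfl⟩ := key a
  rw [hc σ h, hc _ (by rw [← model_facts.2.2.2.2.2.1]; exact (model_facts.2.2.2.2.2.2 i k).symm)]
  rcases hb' with rfl | rfl | rfl
  · rw [h0]
  · rw [h3]
  · rw [h6]

/-- The only subgroup of the shape of the base is the base. -/
theorem base_unique : ∀ i k, k ≠ 0 → (pv i * pk k) * ((pv i * pk k) * (pv i * pk k)) = 1 →
    ((List.finRange 27).filter fun j => decide (pv j * (pv i * pk k) = (pv i * pk k) * pv j)).length ≤ 3 := by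
  decide +kernel

end Cfsg.Lib.SymNine
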