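import Cfsg.Agent.Lib.SymNine.Count

/-!
# An element outside `J` conjugate to the central element

It gives an element rotating the two of them, so that the central element is conjugate to its inverse.
-/

set_option autoImplicit false
set_option maxHeartbeats 1600000
set_option maxRecDepth 100000
set_option linter.unusedSectionVars false
set_option linter.style.haveILetI false

namespace Cfsg.Lib.SymNine

open Subgroup

theorem sigma_facts :
    (∀ k : Fin 6, k = 3 ∨ k = 4 → ∃ j, vAdd j (vSmul 2 (lap (lperm k) j)) = one1) ∧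
    (∀ s k, signSets 2 s = true → act s k one1 ≠ vSmul 2 one1) := by
  refine ⟨?_, ?_⟩ <;> decide +kernel

namespace Frame

variable {G : Type*} [Group G] [Finite G] {F : Frame G} {m : Fin 4}

theorem conj_v_vp (j i : Fin 27) (k : Fin 6) :
    F.v j * (F.v i * F.p k) * (F.v j)⁻¹ = F.v (vAdd j (vSmul 2 (lap (lperm k) j))) * (F.v i * F.p k) := by
  have key : ∀ k j, lap (lperm k) (vSmul 2 j) = vSmul 2 (lap (lperm k) j) := by decide +kernel
  rw [F.v_inv, show F.v j * (F.v i * F.p k) * F.v (vSmul 2 j) = F.v j * F.v i * (F.p k * F.v (vSmul 2 j)) by group,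
    F.pv, key, F.vmul, mul_assoc (F.v j) (F.v (vSmul 2 _)), ← mul_assoc (F.v (vSmul 2 _)),
    (F.v_comm (vSmul 2 _) i).eq]
  simp only [mul_assoc]

theorem exists_conj_x_mul {y : G} (hy : y ∈ F.P) (hyJ : y ∉ F.J) :
    ∃ j, F.v j * y * (F.v j)⁻¹ = F.x * y := by
  obtain ⟨i, k, hk, rfl⟩ := hy
  rcases hk with rfl | hk
  · exact absurd (by rw [F.p0, mul_one]; exact F.v_mem i) hyJ
  obtain ⟨j, hj⟩ := sigma_facts.1 k hk
  exact ⟨j, by rw [conj_v_vp, hj, x]⟩

/-- The rotation. -/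
theorem exists_rotation {g s : G} (hs : s ∈ F.P) (hsJ : s ∉ F.J) (hg : g * F.x * g⁻¹ = s) :
    ∃ w, w * F.x * w⁻¹ = s⁻¹ ∧ w * s * w⁻¹ = F.x := by
  set y := g⁻¹ * F.x * g with hy
  have hxs : s * F.x = F.x * s := mem_centralizer_singleton_iff.1 (P_le_cent hs)
  have hyc : y * F.x = F.x * y := by
    have hgx : F.x = g⁻¹ * s * g := by rw [← hg]; group
    calc y * F.x = g⁻¹ * (F.x * s) * g := by
          conv_lhs => rw [hy]; arg 2; rw [hgx]
          group
      _ = g⁻¹ * (s * F.x) * g := by rw [hxs]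
      _ = F.x * y := by
          conv_rhs => arg 1; rw [hgx]
          rw [hy]; group
  have hy3 : y ^ 3 ^ 1 = 1 := by
    rw [hy, pow_one, show g⁻¹ * F.x * g = g⁻¹ * F.x * g⁻¹⁻¹ by group, conj_pow, x, F.v_cube]; group
  have hyP := mem_P_of_cent hyc hy3
  have hyJ : y ∉ F.J := by
    intro hJ
    refine hsJ ?_
    have hgN : g ∈ normalizer (F.J : Set G) := eq_J_of_conj_le_cent fun j hj => by
      have hjy : j * y = y * j := mem_centralizer_iff.1 (show y ∈ centralizer (F.J : Set G) by rw [cent_J]; exact hJ) j hj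
      calc g * j * g⁻¹ * F.x = g * (j * y) * g⁻¹ := by rw [hy]; group
        _ = g * (y * j) * g⁻¹ := by rw [hjy]
        _ = F.x * (g * j * g⁻¹) := by rw [hy]; group
    rw [← hg]
    exact (mem_normalizer_iff.1 hgN _).1 F.x_mem
  obtain ⟨j, hj⟩ := exists_conj_x_mul hyP hyJ
  obtain ⟨j', hj'⟩ := exists_conj_x_mul hs hsJ
  set u := F.v j' with hu
  set v := g * F.v j * g⁻¹ with hv
  have hux : u * F.x * u⁻¹ = F.x := by rw [hu, x, (F.v_comm j' one1).eq, mul_inv_cancel_right]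
  have hvs : v * s * v⁻¹ = s := by
    rw [hv, ← hg]
    calc g * F.v j * g⁻¹ * (g * F.x * g⁻¹) * (g * F.v j * g⁻¹)⁻¹
        = g * (F.v j * F.x * (F.v j)⁻¹) * g⁻¹ := by group
      _ = g * F.x * g⁻¹ := by rw [x, (F.v_comm j one1).eq, mul_inv_cancel_right]
  have hvx : v * F.x * v⁻¹ = s * F.x := by
    rw [hv, ← hg]
    calc g * F.v j * g⁻¹ * F.x * (g * F.v j * g⁻¹)⁻¹ = g * (F.v j * y * (F.v j)⁻¹) * g⁻¹ := by rw [hy]; group
      _ = g * F.x * g⁻¹ * F.x := by rw [hj, hy]; group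
  have hvx' : v⁻¹ * F.x * v = s⁻¹ * F.x := by
    have hvs' : v⁻¹ * s * v = s := by
      calc v⁻¹ * s * v = v⁻¹ * (v * s * v⁻¹) * v := by rw [hvs]
        _ = s := by group
    calc v⁻¹ * F.x * v = (v⁻¹ * s * v)⁻¹ * (v⁻¹ * (s * F.x) * v) := by group
      _ = s⁻¹ * (v⁻¹ * (v * F.x * v⁻¹) * v) := by rw [hvs', hvx]
      _ = s⁻¹ * F.x := by group
  refine ⟨u * v⁻¹ * u, ?_, ?_⟩
  · calc u * v⁻¹ * u * F.x * (u * v⁻¹ * u)⁻¹ = u * (v⁻¹ * (u * F.x * u⁻¹) * v) * u⁻¹ := by group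
      _ = u * (s⁻¹ * F.x) * u⁻¹ := by rw [hux, hvx']
      _ = (u * s * u⁻¹)⁻¹ * (u * F.x * u⁻¹) := by group
      _ = (F.x * s)⁻¹ * F.x := by rw [hj', hux]
      _ = s⁻¹ := by group
  · calc u * v⁻¹ * u * s * (u * v⁻¹ * u)⁻¹ = u * (v⁻¹ * (u * s * u⁻¹) * v) * u⁻¹ := by group
      _ = u * ((v⁻¹ * F.x * v) * (v⁻¹ * s * v)) * u⁻¹ := by rw [hj']; group
      _ = u * ((s⁻¹ * F.x) * s) * u⁻¹ := by
          rw [hvx', show v⁻¹ * s * v = s from by
            calc v⁻¹ * s * v = v⁻¹ * (v * s * v⁻¹) * v := by rw [hvs]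
              _ = s := by group]
      _ = u * F.x * u⁻¹ := by rw [mul_assoc s⁻¹, ← hxs, ← mul_assoc s⁻¹, inv_mul_cancel, one_mul]
      _ = F.x := hux

/-- With even signs only, no element of the Sylow subgroup outside `J` is conjugate to the central element. -/
theorem IsCase.not_conj_x (h : F.IsCase 2) {s g : G} (hs : s ∈ F.P) (hsJ : s ∉ F.J) : g * F.x * g⁻¹ ≠ s := by
  intro hg
  obtain ⟨w, h1, h2⟩ := exists_rotation hs hsJ hg
  have h3 : (w * w) * F.v one1 * (w * w)⁻¹ = F.v (vSmul 2 one1) := by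
    rw [← F.v_inv]
    calc w * w * F.x * (w * w)⁻¹ = w * (w * F.x * w⁻¹) * w⁻¹ := by group
      _ = (w * s * w⁻¹)⁻¹ := by rw [h1]; group
      _ = F.x⁻¹ := by rw [h2]
  obtain ⟨s', k, hs', e⟩ := h.conj_cases h3
  exact sigma_facts.2 s' k hs' e

/-- With even signs only, no element of the Sylow subgroup outside `J` is conjugate into `J`. -/
theorem IsCase.not_conj_J (h : F.IsCase 2) {s g : G} (hs : s ∈ F.P) (hsJ : s ∉ F.J) : g * s * g⁻¹ ∉ F.J := by
  rintro ⟨i, hi⟩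
  obtain ⟨n, -, hn⟩ := h.conj_x_cases (h.xType_of_conj_mem hs hsJ hi.symm)
  rw [hi, show n * (g * s * g⁻¹) * n⁻¹ = (n * g) * s * (n * g)⁻¹ by group] at hn
  rcases hn with e | e
  · exact h.not_conj_x (g := (n * g)⁻¹) hs hsJ (by rw [← e]; group)
  · refine h.not_conj_x (g := (n * g)⁻¹) (inv_mem hs) (fun h' => hsJ (inv_mem_iff.1 h')) ?_
    rw [show F.x = ((n * g) * s * (n * g)⁻¹)⁻¹ by rw [e, inv_inv]]; group

end Frame

end Cfsg.Lib.SymNine
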