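import Cfsg.Agent.Lib.SymNine.TransClass
import Cfsg.Agent.Lib.Coprime.Generation

/-!
# The centralizer of four disjoint sign changes
-/

set_option autoImplicit false
set_option maxHeartbeats 1600000
set_option maxRecDepth 100000
set_option linter.unusedSectionVars false
set_option linter.style.haveILetI false

namespace Cfsg.Lib.SymNine

open Subgroup Equiv

/-- Three disjoint transpositions exchanging two blocks. -/
def threeTr : Fin 3 → Perm (Fin 6) := ![swap 0 3, swap 1 4, swap 2 5]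

/-- The group generated by them. -/
def elemEight : Subgroup (Perm (Fin 6)) where
  carrier := {σ | ∀ i, σ * threeTr i = threeTr i * σ}
  one_mem' := fun i => by rw [one_mul, mul_one]
  mul_mem' := fun {a b} ha hb i => by rw [mul_assoc, hb i, ← mul_assoc, ha i, mul_assoc]
  inv_mem' := fun {a} ha i => ((show Commute a (threeTr i) from ha i).inv_left).eq

theorem mem_elemEight {σ : Perm (Fin 6)} : σ ∈ elemEight ↔ ∀ i, σ * threeTr i = threeTr i * σ := Iff.rfl

instance elemEightDec : DecidablePred (· ∈ elemEight) := fun σ =>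
  decidable_of_iff (∀ i, σ * threeTr i = threeTr i * σ) Iff.rfl

theorem eight_facts :
    (∀ σ ∈ elemEight, σ * σ = 1) ∧ (∀ i, threeTr i ∈ elemEight) ∧ SixP.t0 ∈ elemEight ∧
    (∀ σ ∈ elemEight, ∀ l : Fin 3, (SixP.a0 * SixP.b0) ^ l.val * σ * ((SixP.a0 * SixP.b0) ^ l.val)⁻¹ ∈ elemEight) := by
  refine ⟨?_, ?_, ?_, ?_⟩ <;> decide +kernel

theorem fixed_facts :
    (∀ y, act 0 2 y = y → ∃ l : Fin 3, ∃ j ∈ mult 1, y = vAdd (vSmul l.val 12) j) ∧
    (∀ y, act 0 2 y = y → y ∉ mult 1 → y ≠ 0 ∧ heavy y) ∧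
    (∀ y, act 0 2 y = y → y ∉ mult 1 → ∀ s k, (∀ i, act s k (act 0 2 i) = act 0 2 (act s k i)) →
      act s k y = y → (k = 0 ∨ k = 2) ∧ (s = 0 ∨ act s k 1 = 2 ∧ s = 1)) ∧
    (∀ k : Fin 6, k = 0 ∨ k = 2 → ∀ i, act 0 k (act 0 k i) = i) ∧
    xType 3 1 = false ∧ (12 : Fin 27) ∉ mult 1 ∧ vAdd 9 3 = 12 ∧ act 0 2 12 = 12 ∧ act 0 2 1 = 1 ∧
    vAdd 2 2 = 1 ∧ act 1 0 1 = 2 ∧ (Finset.univ.filter fun y : Fin 27 => act 0 2 y = y).card = 9 := by
  refine ⟨?_, ?_, ?_, ?_, ?_, ?_, ?_, ?_, ?_, ?_, ?_, ?_⟩ <;> decide +kernel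

namespace Frame

variable {G : Type*} [Group G] [Finite G] {F : Frame G}

namespace Full

variable {D : F.Full} (S : D.Six)

include S in
theorem Six.cent_four {g : G} (hgt : g * D.w 1 0 = D.w 1 0 * g)
    (hgu : ∀ i, g * S.φ (threeTr i) = S.φ (threeTr i) * g) :
    ∃ σ ∈ elemEight, g = S.φ σ ∨ g = D.w 1 0 * S.φ σ := by
  classical
  haveI : Fact (Nat.Prime 3) := ⟨Nat.prime_three⟩
  obtain ⟨e1, e2, e3, e4⟩ := eight_facts
  obtain ⟨x1, x2, x3, x4, x5, x6, x7, x8, x9, x10, x11, x12⟩ := fixed_facts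
  have h := D.isCase
  set t := D.w 1 0 with ht
  have hta : F.ActsAs t 1 0 := (D.w_spec 1 0).2.1
  have htt : t * t = 1 := D.w_sq (by decide +kernel) (by decide +kernel)
  have hτ : F.p 2 = S.φ SixP.t0 := S.map_t.symm
  have hτa : F.ActsAs (F.p 2) 0 2 := F.actsAs_p 2
  set E := elemEight.map S.φ with hEdef
  set L := centralizer (Set.range fun i => S.φ (threeTr i)) with hLdef
  have hL : ∀ {y : G}, y ∈ L ↔ ∀ i, y * S.φ (threeTr i) = S.φ (threeTr i) * y := fun {y} =>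
    ⟨fun hy i => (mem_centralizer_iff.1 hy _ ⟨i, rfl⟩).symm,
      fun hy => mem_centralizer_iff.2 fun z ⟨i, hi⟩ => hi ▸ (hy i).symm⟩
  -- everything centralising the three transpositions centralises their group
  have hgenE : elemEight ≤ Subgroup.closure (Set.range threeTr) := by
    have key : ∀ σ ∈ elemEight, ∃ a b c : Fin 2,
        σ = threeTr 0 ^ a.val * threeTr 1 ^ b.val * threeTr 2 ^ c.val := by decide +kernel
    intro σ hσ
    obtain ⟨a, b, c, rfl⟩ := key σ hσ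
    exact mul_mem (mul_mem (pow_mem (subset_closure (Set.mem_range_self 0)) _)
      (pow_mem (subset_closure (Set.mem_range_self 1)) _)) (pow_mem (subset_closure (Set.mem_range_self 2)) _)
  have hLE : L ≤ centralizer ((E : Subgroup G) : Set G) := by
    intro y hy
    refine mem_centralizer_iff.2 ?_
    rintro _ ⟨σ, hσ, rfl⟩
    have hle : (Subgroup.closure (Set.range threeTr)).map S.φ ≤ centralizer ({y} : Set G) := by
      rw [MonoidHom.map_closure, closure_le]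
      rintro _ ⟨_, ⟨i, rfl⟩, rfl⟩
      exact mem_centralizer_singleton_iff.2 (hL.1 hy i).symm
    exact mem_centralizer_singleton_iff.1 (hle ⟨σ, hgenE hσ, rfl⟩)
  have hEL : E ≤ L := by
    rintro _ ⟨σ, hσ, rfl⟩
    exact hL.2 fun i => by rw [← map_mul, ← map_mul, hσ i]
  have hE2 : ∀ ε ∈ E, ε * ε = 1 := by
    rintro _ ⟨σ, hσ, rfl⟩
    rw [← map_mul, e1 σ hσ, map_one]
  have hEcube : ∀ {ε}, ε ∈ E → ε ^ 3 = 1 → ε = 1 := fun {ε} hε h3 => by
    rwa [pow_succ', pow_two, hE2 ε hε, mul_one] at h3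
  have hEc : ∀ ε ∈ E, ε * F.v 1 = F.v 1 * ε := by
    rintro _ ⟨σ, -, rfl⟩
    exact S.comm_c σ
  have hLτ : ∀ y ∈ L, y * F.p 2 = F.p 2 * y := fun y hy =>
    (mem_centralizer_iff.1 (hLE hy) _ ⟨SixP.t0, e3, hτ.symm⟩).symm
  have hLc : ∀ y ∈ L, y * F.v 1 = F.v 1 * y → ∃ j ∈ mult 1, ∃ ε ∈ E, y = F.v j * ε := by
    intro y hy hyc
    obtain ⟨j, hj, σ, rfl⟩ := S.exists_eq y hyc
    refine ⟨j, hj, S.φ σ, ⟨σ, fun i => S.inj ?_, rfl⟩, rfl⟩
    rw [map_mul, map_mul]
    have h1 := hL.1 hy i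
    rw [mul_assoc, ← mul_assoc (S.φ (threeTr i)), S.comm_mult hj (threeTr i), mul_assoc] at h1
    exact mul_left_cancel h1
  -- the plane
  set T := F.J ⊓ centralizer ({F.p 2} : Set G) with hTdef
  have hT : ∀ {y : G}, y ∈ T ↔ ∃ a, act 0 2 a = a ∧ y = F.v a := by
    intro y
    constructor
    · rintro ⟨⟨a, rfl⟩, ha⟩
      exact ⟨a, (comm_v_iff hτa a).1 (mem_centralizer_singleton_iff.1 ha), rfl⟩
    · rintro ⟨a, ha, rfl⟩
      exact ⟨F.v_mem a, mem_centralizer_singleton_iff.2 ((comm_v_iff hτa a).2 ha)⟩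
  have hTeq : ∀ {y : G}, y ∈ T → ∃ l : Fin 3, ∃ j ∈ mult 1, y = S.φ ((SixP.a0 * SixP.b0) ^ l.val) * F.v j := by
    intro y hy
    obtain ⟨a, ha, rfl⟩ := hT.1 hy
    obtain ⟨l, j, hj, rfl⟩ := x1 a ha
    refine ⟨l, j, hj, ?_⟩
    rw [F.vmul, F.v_smul l.2, map_pow, map_mul, S.map_a, S.map_b, ← F.vmul, x7]
  have hTE : ∀ y ∈ T, ∀ ε ∈ E, y * ε * y⁻¹ ∈ E := by
    rintro y hy _ ⟨σ, hσ, rfl⟩
    obtain ⟨l, j, hj, rfl⟩ := hTeq hy
    refine ⟨_, e4 σ hσ l, ?_⟩
    rw [map_mul, map_mul, map_inv, mul_inv_rev]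
    calc _ = S.φ ((SixP.a0 * SixP.b0) ^ l.val) * (S.φ σ * F.v j * (F.v j)⁻¹) *
            (S.φ ((SixP.a0 * SixP.b0) ^ l.val))⁻¹ := by rw [mul_inv_cancel_right]
      _ = _ := by rw [S.comm_mult hj σ]; group
  have hTL : ∀ y ∈ T, ∀ z ∈ L, y * z * y⁻¹ ∈ L := by
    intro y hy z hz
    refine hL.2 fun i => ?_
    have h1 : y⁻¹ * S.φ (threeTr i) * y ∈ E := by
      simpa using hTE y⁻¹ (inv_mem hy) _ ⟨_, e2 i, rfl⟩
    have h2 := mem_centralizer_iff.1 (hLE hz) _ h1
    calc y * z * y⁻¹ * S.φ (threeTr i) = y * (z * (y⁻¹ * S.φ (threeTr i) * y)) * y⁻¹ := by group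
      _ = y * ((y⁻¹ * S.φ (threeTr i) * y) * z) * y⁻¹ := by rw [h2]
      _ = _ := by group
  have hTN : T ≤ normalizer ((L : Subgroup G) : Set G) := fun y hy =>
    Fusion.le_normalizer_of_conj_mem (hTL y hy)
  set Y := L ⊔ T with hYdef
  have hYmem : ∀ {y : G}, y ∈ Y → ∃ l ∈ L, ∃ r ∈ T, y = l * r := fun {y} hy => by
    have h1 : y ∈ ((L ⊔ T : Subgroup G) : Set G) := hy
    rw [coe_mul_of_right_le_normalizer_left L T hTN] at h1
    obtain ⟨l, hl, r, hr, e⟩ := Set.mem_mul.1 h1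
    exact ⟨l, hl, r, hr, e.symm⟩
  have hYτ : ∀ y ∈ Y, y * F.p 2 = F.p 2 * y := fun y hy => by
    obtain ⟨l, hl, r, hr, rfl⟩ := hYmem hy
    exact ((show Commute l (F.p 2) from hLτ l hl).mul_left
      (show Commute r (F.p 2) from mem_centralizer_singleton_iff.1 hr.2)).eq
  have hcT : F.v 1 ∈ T := hT.2 ⟨1, x9, rfl⟩
  have hEY : ∀ y ∈ Y, ∀ ε ∈ E, y * ε * y⁻¹ ∈ E := by
    intro y hy ε hε
    obtain ⟨l, hl, r, hr, rfl⟩ := hYmem hy
    have h1 := hTE r hr ε hε
    have h2 := mem_centralizer_iff.1 (hLE hl) _ h1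
    rw [show l * r * ε * (l * r)⁻¹ = l * (r * ε * r⁻¹) * l⁻¹ by group, ← h2, mul_inv_cancel_right]
    exact h1
  -- signalizers lie in the four-group
  have hkill : ∀ K : Subgroup G, K ≤ Y → (Nat.card K).Coprime 3 →
      (∀ y ∈ T, ∀ k ∈ K, y * k * y⁻¹ ∈ K) → K ≤ E := by
    intro K hKY hK hKT
    have hTpow : ∀ y ∈ T, y ^ 3 = 1 := fun y hy => F.J_cube hy.1
    have hT9 : Nat.card T = 9 := by
      rw [← x12, ← Fintype.card_subtype, ← Nat.card_eq_fintype_card]
      refine (Nat.card_eq_of_bijective (fun a : {a // act 0 2 a = a} => (⟨F.v a.1, hT.2 ⟨a.1, a.2, rfl⟩⟩ : T))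
        ⟨fun a b e => Subtype.ext (F.vinj (congrArg Subtype.val e)), fun ⟨y, hy⟩ => ?_⟩).symm
      obtain ⟨a, ha, rfl⟩ := hT.1 hy
      exact ⟨⟨a, ha⟩, rfl⟩
    haveI : IsMulCommutative T := ⟨⟨fun a b => Subtype.ext (by
      obtain ⟨i, hi⟩ := a.2.1
      obtain ⟨j, hj⟩ := b.2.1
      show (a : G) * b = b * a
      rw [← hi, ← hj, (F.v_comm i j).eq])⟩⟩
    have hnc : ¬ IsCyclic T := by
      intro hcyc
      obtain ⟨z, hz⟩ := hcyc.exists_ofOrder_eq_natCard
      have : orderOf z ∣ 3 := orderOf_dvd_of_pow_eq_one (Subtype.ext (hTpow z z.2))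
      rw [hz, hT9] at this
      exact absurd this (by decide)
    refine (Cfsg.Lib.Coprime.le_iSup_centralizer_of_not_isCyclic hnc
      (fun y hy => Fusion.le_normalizer_of_conj_mem (hKT y hy))
      (by rw [hT9]; exact (hK.pow_right 2).symm)).trans (iSup_le ?_)
    rintro ⟨v, hvT, hv1⟩ k ⟨hkK, hkv⟩
    obtain ⟨a, ha, rfl⟩ := hT.1 hvT
    have hkv' : k * F.v a = F.v a * k := mem_centralizer_singleton_iff.1 hkv
    have hKJ : ∀ {z}, z ∈ K → z ∈ F.J → z = 1 := fun {z} hz hzJ =>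
      eq_one_of_mem_of_pow hK hz (n := 1) (by rw [pow_one]; exact F.J_cube hzJ)
    by_cases ha1 : a ∈ mult 1
    · have hkc : k * F.v 1 = F.v 1 * k := by
        have hgen : ∀ b ∈ mult 1, b ≠ 0 → b = 1 ∨ vAdd b b = 1 := by decide +kernel
        rcases hgen a ha1 (fun e => hv1 (by rw [e, F.v0])) with rfl | e
        · exact hkv'
        · rw [← e, F.vmul, ← mul_assoc, hkv', mul_assoc, hkv', mul_assoc]
      obtain ⟨l, hl, r, hr, rfl⟩ := hYmem (hKY hkK)
      obtain ⟨d, hd⟩ := hr.1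
      have hlc : l * F.v 1 = F.v 1 * l := by
        refine mul_right_cancel (b := r) ?_
        rw [mul_assoc, ← hd, (F.v_comm 1 d).eq, hd, ← mul_assoc, hkc, mul_assoc]
      obtain ⟨j, hj, ε, hε, rfl⟩ := hLc l hl hlc
      -- a cube lies in the four-group
      have hj' : F.v j ∈ T := hT.2 ⟨j, by
        have key : ∀ j ∈ mult 1, act 0 2 j = j := by decide +kernel
        exact key j hj, rfl⟩
      set q := F.v j * r with hq
      have hqT : q ∈ T := mul_mem hj' hr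
      have hk : F.v j * ε * r = ε * q := by
        obtain ⟨σ, -, rfl⟩ := hε
        rw [← S.comm_mult hj σ, mul_assoc]
      rw [hk] at hkK ⊢
      have h3 : (ε * q) ^ 3 ∈ E := by
        rw [show (ε * q) ^ 3 = ε * (q * ε * q⁻¹) * (q * (q * ε * q⁻¹) * q⁻¹) * q ^ 3 by
          rw [pow_succ', pow_two, pow_succ', pow_two]; group, hTpow q hqT, mul_one]
        exact mul_mem (mul_mem hε (hTE q hqT _ hε)) (hTE q hqT _ (hTE q hqT _ hε))
      have hpow : (ε * q) ^ Nat.card K = 1 :=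
        congrArg Subtype.val (pow_card_eq_one' (x := (⟨ε * q, hkK⟩ : K)))
      exact mem_of_pow_coprime h3 hpow hK.symm
    · obtain ⟨ha0, hah⟩ := x2 a ha ha1
      have hkN := D.cent_heavy ha0 hah hkv'
      obtain ⟨i, s, k', e, hsk⟩ := D.exists_eq hkN
      have hkτ := hYτ k (hKY hkK)
      have hcm : ∀ b, act s k' (act 0 2 b) = act 0 2 (act s k' b) := fun b => F.vinj (by
        rw [← actsAs_act hsk, ← actsAs_act hτa, ← actsAs_act hτa, ← actsAs_act hsk,
          show k * (F.p 2 * F.v b * (F.p 2)⁻¹) * k⁻¹ = (k * F.p 2) * F.v b * (k * F.p 2)⁻¹ by group, hkτ]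
        group)
      obtain ⟨hk02, hs⟩ := x3 a ha ha1 s k' hcm ((comm_v_iff hsk a).1 hkv'.symm)
      rcases hs with rfl | ⟨hs, -⟩
      swap
      · exfalso
        have h1 : k * F.v 1 * k⁻¹ = F.v 2 := by rw [actsAs_act hsk, hs]
        have h2 : k * (F.v 1 * k⁻¹ * (F.v 1)⁻¹) ∈ K := mul_mem hkK (hKT _ hcT _ (inv_mem hkK))
        rw [show k * (F.v 1 * k⁻¹ * (F.v 1)⁻¹) = k * F.v 1 * k⁻¹ * (F.v 1)⁻¹ by group, h1, F.v_inv, ← F.vmul,
          show vAdd 2 (vSmul 2 1) = 1 by decide +kernel] at h2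
        exact absurd (F.v_eq_one.1 (hKJ h2 (F.v_mem 1))) (by decide)
      have hkk : k * k = 1 := hKJ (mul_mem hkK hkK) (mem_J_of_act fun b => by
        have h1 := hsk.pow 2 b
        rw [pow_two] at h1
        rw [h1]
        show _ = F.v (act 0 0 b)
        rw [act_facts.1]
        exact congrArg F.v (x4 k' hk02 b))
      rcases hk02 with rfl | rfl
      · rw [hKJ hkK (mem_J_of_act hsk)]; exact one_mem _
      · have h1 : (F.p 2)⁻¹ * k ∈ F.J := inv_mul_mem_J hτa hsk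
        have hτ2 : F.p 2 * F.p 2 = 1 := by rw [← F.pmul]; exact F.p0
        rw [inv_eq_of_mul_eq_one_right hτ2] at h1
        have h2 : (F.p 2 * k) * (F.p 2 * k) = 1 := by
          rw [show F.p 2 * k * (F.p 2 * k) = F.p 2 * (k * F.p 2) * k by group, hkτ,
            show F.p 2 * (F.p 2 * k) * k = (F.p 2 * F.p 2) * (k * k) by group, hτ2, hkk, mul_one]
        have h3 := F.J_cube h1
        rw [pow_succ', pow_two, h2, mul_one, mul_eq_one_iff_inv_eq, inv_eq_of_mul_eq_one_right hτ2] at h3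
        rw [← h3]
        exact ⟨_, e3, hτ.symm⟩
  -- the plane is a Sylow subgroup
  have hTY : T ≤ Y := le_sup_right
  have hLY : L ≤ Y := le_sup_left
  have hmax : ∀ y ∈ Y, (∀ r ∈ T, y * r * y⁻¹ ∈ T) → (∃ n, y ^ 3 ^ n = 1) → y ∈ T := by
    rintro y hy hnorm ⟨n, hn⟩
    have hy' : y ∈ normalizer ((T : Subgroup G) : Set G) := Fusion.le_normalizer_of_conj_mem hnorm
    have key : ∀ a, act 0 2 a = a → y⁻¹ * F.v a * y ∈ F.J := fun a ha => by
      have h1 := ((mem_normalizer_iff.1 (inv_mem hy') _).1 (hT.2 ⟨a, ha, rfl⟩)).1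
      simpa using h1
    have hyN := h.mem_normalizer_of_pair (a := 1) (e := 12) (by decide) x5 x6 (key 1 x9) (key 12 x8)
    exact ⟨D.mem_J_of_three hτa trans_facts.2.1 hyN (hYτ y hy) hn,
      mem_centralizer_singleton_iff.2 (hYτ y hy)⟩
  have hTp : IsPGroup 3 T := (IsPGroup.of_card (n := 3) (by rw [F.card_J]; rfl) : IsPGroup 3 F.J).to_le inf_le_left
  obtain ⟨R, hR⟩ := (hTp.of_equiv (subgroupOfEquivOfLe hTY).symm).exists_le_sylow
  have hRT : (R : Subgroup Y).map Y.subtype = T := eq_of_pgroup hmax (R.isPGroup'.map Y.subtype)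
    (fun r hr => ⟨⟨r, hTY hr⟩, hR (mem_subgroupOf.2 hr), rfl⟩) (map_subtype_le _)
  have hRmem : ∀ y : Y, y ∈ (R : Subgroup Y) ↔ (y : G) ∈ T := fun y =>
    ⟨fun hy => hRT ▸ ⟨y, hy, rfl⟩, fun hy => hR (mem_subgroupOf.2 hy)⟩
  -- the quotient by the four-group
  set W := E.subgroupOf Y with hWdef
  haveI hWn : W.Normal := ⟨fun w hw y => by
    rw [mem_subgroupOf] at hw ⊢
    exact hEY y y.2 _ hw⟩
  let π := QuotientGroup.mk' W
  let X : Sig (Y ⧸ W) := {
    S := R.mapSurjective (f := π) (QuotientGroup.mk'_surjective W)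
    comm := by
      rintro _ ⟨a, ha, rfl⟩ _ ⟨b, hb, rfl⟩
      rw [← map_mul, ← map_mul]
      refine congrArg π (Subtype.ext ?_)
      obtain ⟨i, hi⟩ := ((hRmem a).1 ha).1
      obtain ⟨j, hj⟩ := ((hRmem b).1 hb).1
      show (a : G) * b = b * a
      rw [← hi, ← hj, (F.v_comm i j).eq]
    none := fun K hK hinv => by
      set L' := K.comap π with hL'
      have hWL : W ≤ L' := fun w hw => by
        rw [hL', mem_comap, show π w = 1 from (QuotientGroup.eq_one_iff w).2 hw]; exact one_mem _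
      have hcard : Nat.card L' = Nat.card W * Nat.card K := by
        have e := Subgroup.relIndex_ker (K := L') π
        rw [QuotientGroup.ker_mk', hL', map_comap_eq_self_of_surjective (QuotientGroup.mk'_surjective W)] at e
        rw [← e, ← relIndex_bot_left (H := W), ← relIndex_bot_left (H := L'), relIndex_mul_relIndex _ _ _ bot_le hWL]
      have hW3 : (Nat.card W).Coprime 3 := by
        refine ((Nat.Prime.coprime_iff_not_dvd Nat.prime_three).2 fun hd => ?_).symm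
        obtain ⟨w, hw⟩ := exists_prime_orderOf_dvd_card' 3 hd
        have h1 : ((w : Y) : G) ^ 3 = 1 := by
          have := congrArg (fun z : W => ((z : Y) : G)) (hw ▸ pow_orderOf_eq_one w)
          simpa using this
        have h2 : w = 1 := Subtype.ext (Subtype.ext (hEcube (mem_subgroupOf.1 w.2) h1))
        rw [h2, orderOf_one] at hw
        exact absurd hw (by decide)
      have hle := hkill (L'.map Y.subtype) (map_subtype_le _)
        (by rw [card_map_of_injective Y.subtype_injective, hcard]; exact hW3.mul_left hK) (by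
          rintro y hy _ ⟨k, hk, rfl⟩
          refine ⟨⟨y, hTY hy⟩ * k * (⟨y, hTY hy⟩ : Y)⁻¹, ?_, rfl⟩
          rw [SetLike.mem_coe, hL', mem_comap, map_mul, map_mul, map_inv,
            ← hinv (π ⟨y, hTY hy⟩) ⟨_, (hRmem _).2 hy, rfl⟩]
          exact ⟨π k, hk, rfl⟩)
      refine eq_bot_iff.2 fun q hq => ?_
      obtain ⟨y, rfl⟩ := QuotientGroup.mk'_surjective W q
      exact mem_bot.2 ((QuotientGroup.eq_one_iff y).2 (mem_subgroupOf.2 (hle ⟨y, hq, rfl⟩))) }
  set c' : Y := ⟨F.v 1, hTY hcT⟩ with hc'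
  set Lb := (L.subgroupOf Y).map π with hLb
  haveI : (L.subgroupOf Y).Normal := ⟨fun l hl y => by
    rw [mem_subgroupOf] at hl ⊢
    obtain ⟨l', hl', r, hr, e⟩ := hYmem y.2
    have h1 : (y : G) * l * (y : G)⁻¹ = l' * (r * (l : G) * r⁻¹) * l'⁻¹ := by rw [e]; group
    show (y : G) * l * (y : G)⁻¹ ∈ L
    rw [h1]
    exact mul_mem (mul_mem hl' (hTL r hr _ hl)) (inv_mem hl')⟩
  haveI : Lb.Normal := Subgroup.Normal.map inferInstance π (QuotientGroup.mk'_surjective W)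
  have hcL : F.v 1 ∈ L := hL.2 fun i => (S.comm_c _).symm
  have hcub : π c' ^ 3 = 1 := by
    rw [← map_pow, show c' ^ 3 = 1 from Subtype.ext (by simpa using F.v_cube 1), map_one]
  have hc1 : π c' ≠ 1 := fun e => by
    have := hEcube (mem_subgroupOf.1 ((QuotientGroup.eq_one_iff c').1 e)) (F.v_cube 1)
    exact absurd (F.v_eq_one.1 this) (by decide)
  have hord : orderOf (π c') = 3 := orderOf_eq_prime hcub hc1
  have hcL' : π c' ∈ Lb := ⟨c', mem_subgroupOf.2 hcL, rfl⟩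
  have hLbc : Lb ⊓ centralizer ((zpowers (π c') : Subgroup _) : Set _) = zpowers (π c') := by
    refine le_antisymm ?_ (le_inf (zpowers_le.2 hcL') ?_)
    · rintro q ⟨⟨y, hy, rfl⟩, hq⟩
      have h1 := mem_centralizer_iff.1 hq (π c') (mem_zpowers _)
      rw [← map_mul, ← map_mul, QuotientGroup.mk'_apply, QuotientGroup.mk'_apply, QuotientGroup.eq,
        mem_subgroupOf] at h1
      simp only [Subgroup.coe_mul, InvMemClass.coe_inv] at h1
      have hε : ((F.v 1 * (y : G))⁻¹ * ((y : G) * F.v 1)) ∈ E := h1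
      set ε := (F.v 1 * (y : G))⁻¹ * ((y : G) * F.v 1) with hεdef
      have hyε : (y : G) * ε = ε * y := (mem_centralizer_iff.1 (hLE (mem_subgroupOf.1 hy)) ε hε).symm
      have h2 : (y : G) * F.v 1 * (y : G)⁻¹ = F.v 1 * ε := by
        calc (y : G) * F.v 1 * (y : G)⁻¹ = F.v 1 * ((y : G) * ε) * (y : G)⁻¹ := by rw [hεdef]; group
          _ = _ := by rw [hyε, ← mul_assoc, mul_inv_cancel_right]
      have h3 := congrArg (· ^ 3) h2
      simp only [conj_pow, F.v_cube, mul_one, mul_inv_cancel] at h3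
      rw [(show Commute (F.v 1) ε from (hEc ε hε).symm).mul_pow, F.v_cube, one_mul] at h3
      rw [hEcube hε h3.symm, mul_one] at h2
      obtain ⟨j, hj, ε', hε', e⟩ := hLc y (mem_subgroupOf.1 hy) (mul_inv_eq_iff_eq_mul.1 h2)
      obtain ⟨n, hn⟩ : F.v j ∈ zpowers (F.v 1) := mem_zpowers_v.2 ⟨j, hj, rfl⟩
      refine ⟨n, ?_⟩
      show π c' ^ n = π y
      rw [← map_zpow, QuotientGroup.mk'_apply, QuotientGroup.mk'_apply, QuotientGroup.eq, mem_subgroupOf]
      show ((c' ^ n : Y) : G)⁻¹ * (y : G) ∈ E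
      rw [SubgroupClass.coe_zpow, show (c' : G) = F.v 1 from rfl, show F.v 1 ^ n = F.v j from hn, e,
        inv_mul_cancel_left]
      exact hε'
    · intro q hq
      obtain ⟨n, rfl⟩ := hq
      refine mem_centralizer_iff.2 fun z hz => ?_
      obtain ⟨m, rfl⟩ := hz
      exact ((Commute.refl (π c')).zpow_zpow m n).eq
  have hdvd := X.card_le_six Lb (zpowers (π c')) (zpowers_le.2 hcL') (by rw [Nat.card_zpowers, hord]) hLbc
  -- the six cosets
  have htc : ∀ i : Fin 3, t * F.v 1 ^ i.val * t⁻¹ = F.v 2 ^ i.val := fun i => by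
    rw [← conj_pow, actsAs_act hta, x11]
  have htL : t ∈ L := hL.2 fun i => (S.comm_t _).symm
  let f : Fin 3 × Fin 2 → Lb := fun q =>
    ⟨π ⟨F.v 1 ^ q.1.val * t ^ q.2.val, hLY (mul_mem (pow_mem hcL _) (pow_mem htL _))⟩,
      _, mem_subgroupOf.2 (mul_mem (pow_mem hcL _) (pow_mem htL _)), rfl⟩
  have hcE : ∀ z ∈ E, ∀ n : ℕ, z = F.v 1 ^ n → F.v 1 ^ n = 1 := fun z hz n e => by
    rw [← e]; exact hEcube hz (by rw [e, ← pow_mul, mul_comm, pow_mul, F.v_cube, one_pow])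
  have hfinj : Function.Injective f := by
    rintro ⟨i, a⟩ ⟨j, b⟩ e
    have e' : π _ = π _ := congrArg Subtype.val e
    rw [QuotientGroup.mk'_apply, QuotientGroup.mk'_apply, QuotientGroup.eq, mem_subgroupOf] at e'
    have e'' : (F.v 1 ^ i.val * t ^ a.val)⁻¹ * (F.v 1 ^ j.val * t ^ b.val) ∈ E := e'
    have hpw : ∀ n : Fin 3, F.v 1 ^ n.val = F.v (vSmul n.val 1) := fun n => (F.v_smul n.2 1).symm
    have htne : ∀ {ε}, ε ∈ E → ∀ n : Fin 3, F.v 1 ^ n.val * t ≠ ε := by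
      intro ε hε n hn
      have h1 := hEc ε hε
      rw [← hn] at h1
      have h3 : t * F.v 1 = F.v 1 * t := mul_left_cancel (a := F.v 1 ^ n.val) (by
        rw [← mul_assoc, h1, ← mul_assoc, ← pow_succ', pow_succ, mul_assoc])
      have h2 : t * F.v 1 * t⁻¹ = F.v 1 := mul_inv_eq_iff_eq_mul.2 h3
      rw [actsAs_act hta, x11] at h2
      exact absurd (F.vinj h2) (by decide)
    have hab : a = b := by
      by_contra hne
      rw [hpw i, hpw j] at e''
      have key : ∀ i j : Fin 3, ∃ m : Fin 3, vAdd (vSmul 2 (vSmul i.val 1)) (vSmul j.val 1) = vSmul m.val 1 ∧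
          act 1 0 (vSmul m.val 1) ∈ [vSmul 0 1, vSmul 1 1, vSmul 2 1] := by decide +kernel
      obtain ⟨m, hm, hm'⟩ := key i j
      fin_cases a <;> fin_cases b <;> simp at hne
      · simp only [pow_zero, mul_one, pow_one] at e''
        rw [F.v_inv, ← mul_assoc, ← F.vmul, hm, ← hpw] at e''
        exact htne e'' m rfl
      · simp only [pow_zero, mul_one, pow_one] at e''
        rw [mul_inv_rev, F.v_inv, mul_assoc, ← F.vmul, hm, inv_eq_of_mul_eq_one_right htt] at e''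
        obtain ⟨m', hm''⟩ : ∃ m' : Fin 3, act 1 0 (vSmul m.val 1) = vSmul m'.val 1 := by
          simp only [List.mem_cons, List.not_mem_nil, or_false] at hm'
          rcases hm' with e | e | e
          exacts [⟨0, e⟩, ⟨1, e⟩, ⟨2, e⟩]
        refine htne e'' m' ?_
        rw [hpw, ← hm'', ← actsAs_act hta, inv_mul_cancel_right]
    subst hab
    rw [mul_inv_rev, mul_assoc, ← mul_assoc (F.v 1 ^ i.val)⁻¹] at e''
    have h2 : (F.v 1 ^ i.val)⁻¹ * F.v 1 ^ j.val ∈ E := by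
      have h3 := hEY _ (hLY (pow_mem htL a.val)) _ e''
      rwa [show t ^ a.val * ((t ^ a.val)⁻¹ * ((F.v 1 ^ i.val)⁻¹ * F.v 1 ^ j.val * t ^ a.val)) * (t ^ a.val)⁻¹ =
        (F.v 1 ^ i.val)⁻¹ * F.v 1 ^ j.val by group] at h3
    rw [hpw i, hpw j, F.v_inv, ← F.vmul] at h2
    have h3 := hEcube h2 (F.v_cube _)
    have key : ∀ i j : Fin 3, vAdd (vSmul 2 (vSmul i.val 1)) (vSmul j.val 1) = 0 → i = j := by decide +kernel
    rw [key i j (F.v_eq_one.1 h3)]
  haveI : Fintype Lb := Fintype.ofFinite _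
  have hsurj : Function.Surjective f := ((Fintype.bijective_iff_injective_and_card f).2 ⟨hfinj,
    le_antisymm (Fintype.card_le_of_injective f hfinj) (by
      rw [← Nat.card_eq_fintype_card]
      exact (Nat.le_of_dvd (by norm_num) hdvd).trans (le_of_eq (by simp)))⟩).2
  have hgL : g ∈ L := hL.2 hgu
  obtain ⟨⟨i, a⟩, hia⟩ := hsurj ⟨π ⟨g, hLY hgL⟩, _, mem_subgroupOf.2 hgL, rfl⟩
  have e' : π _ = π _ := congrArg Subtype.val hia
  rw [QuotientGroup.mk'_apply, QuotientGroup.mk'_apply, QuotientGroup.eq, mem_subgroupOf] at e'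
  have e'' : (F.v 1 ^ i.val * t ^ a.val)⁻¹ * g ∈ E := e'
  obtain ⟨σ, hσ, hσg⟩ := e''
  have hg : g = F.v 1 ^ i.val * t ^ a.val * S.φ σ := by rw [hσg, mul_inv_cancel_left]
  have hci : F.v 1 ^ i.val * t = t * F.v 1 ^ i.val := by
    rw [hg] at hgt
    have h1 : Commute (t ^ a.val * S.φ σ) t :=
      ((Commute.refl t).pow_left a.val).mul_left (show Commute (S.φ σ) t from S.comm_t σ)
    refine mul_right_cancel (b := t ^ a.val * S.φ σ) ?_
    rw [mul_assoc, ← h1.eq]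
    simpa [mul_assoc] using hgt
  have hi0 : i = 0 := by
    have h1 := mul_inv_eq_iff_eq_mul.2 hci.symm
    rw [htc, ← F.v_smul i.2, ← F.v_smul i.2] at h1
    have key : ∀ i : Fin 3, vSmul i.val 2 = vSmul i.val 1 → i = 0 := by decide +kernel
    exact key i (F.vinj h1)
  subst hi0
  refine ⟨σ, hσ, ?_⟩
  fin_cases a
  · left; simpa using hg
  · right; simpa using hg

end Full

end Frame

end Cfsg.Lib.SymNine
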