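import Cfsg.Agent.Lib.SymNine.SixQuot

/-!
# The conjugates of a sign change in the centralizer of an axis
-/

set_option autoImplicit false
set_option maxHeartbeats 1600000
set_option maxRecDepth 100000
set_option linter.unusedSectionVars false
set_option linter.style.haveILetI false

namespace Cfsg.Lib.SymNine

open Subgroup Equiv

/-- Powers with coprime exponents. -/
theorem mem_of_pow_coprime {H : Type*} [Group H] {K : Subgroup H} {z : H} {a b : ℕ} (ha : z ^ a ∈ K)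
    (hb : z ^ b = 1) (hc : Nat.Coprime a b) : z ∈ K := by
  have h := Nat.gcd_eq_gcd_ab a b
  rw [show a.gcd b = 1 from hc] at h
  have h1 : z = (z ^ a) ^ a.gcdA b * (z ^ b) ^ a.gcdB b := by
    rw [← zpow_natCast z a, ← zpow_natCast z b, ← zpow_mul, ← zpow_mul, ← zpow_add, ← h, Nat.cast_one, zpow_one]
  rw [h1, hb, one_zpow, mul_one]
  exact zpow_mem ha _

/-- A p-subgroup without normalising elements outside is maximal. -/
theorem eq_of_pgroup {H : Type*} [Group H] [Finite H] {p : ℕ} [Fact p.Prime] {C R : Subgroup H}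
    (hmax : ∀ y ∈ C, (∀ r ∈ R, y * r * y⁻¹ ∈ R) → (∃ n, y ^ p ^ n = 1) → y ∈ R) {R' : Subgroup H}
    (hp : IsPGroup p R') (hle : R ≤ R') (hC : R' ≤ C) : R' = R := by
  refine le_antisymm ?_ hle
  by_contra hne
  haveI : Group.IsNilpotent R' := hp.isNilpotent
  have hlt : R.subgroupOf R' < ⊤ := lt_top_iff_ne_top.2 fun e => hne (subgroupOf_eq_top.1 e)
  obtain ⟨y, hy, hyR⟩ := SetLike.exists_of_lt (normalizerCondition_of_isNilpotent _ hlt)
  refine hyR (mem_subgroupOf.2 (hmax y (hC y.2) (fun r hr => ?_) ?_))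
  · exact mem_subgroupOf.1 ((mem_normalizer_iff.1 hy ⟨r, hle hr⟩).1 (mem_subgroupOf.2 hr))
  · obtain ⟨n, hn⟩ := hp y
    exact ⟨n, congrArg Subtype.val hn⟩

/-- The elements of prime power order are conjugate into a maximal p-subgroup. -/
theorem exists_conj_into {H : Type*} [Group H] [Finite H] {p : ℕ} [Fact p.Prime] {C R : Subgroup H}
    (hRC : R ≤ C) (hR : IsPGroup p R)
    (hmax : ∀ y ∈ C, (∀ r ∈ R, y * r * y⁻¹ ∈ R) → (∃ n, y ^ p ^ n = 1) → y ∈ R) {z : H} (hz : z ∈ C) {n : ℕ}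
    (hn : z ^ p ^ n = 1) : ∃ h ∈ C, h * z * h⁻¹ ∈ R := by
  obtain ⟨S, hS⟩ := (hR.of_equiv (subgroupOfEquivOfLe hRC).symm).exists_le_sylow
  have hSR : (S : Subgroup C).map C.subtype = R := eq_of_pgroup hmax (S.isPGroup'.map C.subtype)
    (fun r hr => ⟨⟨r, hRC hr⟩, hS (mem_subgroupOf.2 hr), rfl⟩) (map_subtype_le _)
  have hzp : IsPGroup p (zpowers (⟨z, hz⟩ : C)) := by
    rintro ⟨y, i, rfl⟩
    exact ⟨n, Subtype.ext (by
      show ((⟨z, hz⟩ : C) ^ i) ^ p ^ n = 1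
      rw [← zpow_natCast, ← zpow_mul, mul_comm, zpow_mul, zpow_natCast,
        show (⟨z, hz⟩ : C) ^ p ^ n = 1 from Subtype.ext (by simpa using hn), one_zpow])⟩
  obtain ⟨Q, hQ⟩ := hzp.exists_le_sylow
  obtain ⟨c, hc⟩ := MulAction.exists_smul_eq C Q S
  refine ⟨c, c.2, ?_⟩
  rw [← hSR]
  refine ⟨c * ⟨z, hz⟩ * c⁻¹, ?_, rfl⟩
  rw [SetLike.mem_coe, ← hc, Sylow.coe_subgroup_smul, mem_pointwise_smul_iff_inv_smul_mem]
  simpa [MulAut.smul_def, mul_assoc] using hQ (mem_zpowers _)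

theorem trans_facts :
    (∀ s k, (∀ i, act s k (act 1 0 i) = act 1 0 (act s k i)) → ∀ i, (act s k)^[16] i = i) ∧
    (∀ s k, (∀ i, act s k (act 0 2 i) = act 0 2 (act s k i)) → ∀ i, (act s k)^[16] i = i) ∧
    (∀ i, act 1 0 i = i → i ≠ 0 → xType 3 i = false) ∧
    (∀ i, act 1 0 i = i → (∃ s k, act s k 1 = i) → ∃ s k, act s k i = 1 ∧
      ∃ a : Fin 8, (a = 4 ∨ a = 2) ∧ sComp s k 1 = sComp a 0 s ∧ kmul k 0 = kmul 0 k) ∧
    (∀ s k, ¬ ∀ i ∈ [(9 : Fin 27), 3, 1], act s k (act 1 2 i) = act 1 0 (act s k i)) ∧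
    (12 : Fin 27) ≠ 0 ∧ heavy (12 : Fin 27) ∧ act 1 2 12 = 12 ∧ act 7 0 9 ≠ 9 ∧
    (∀ k : Fin 6, k = 3 → kmul k 0 = kmul 0 k ∧ sComp 0 k 7 = sComp 7 0 0) := by
  refine ⟨?_, ?_, ?_, ?_, ?_, ?_, ?_, ?_, ?_, ?_⟩ <;> decide +kernel

theorem perm_classes :
    (∀ σ : Perm (Fin 6), σ * σ = 1 → σ = 1 ∨ ∃ π : Perm (Fin 6),
      π * σ * π⁻¹ = swap 1 2 ∨ π * σ * π⁻¹ = swap 1 2 * swap 4 5 ∨ π * σ * π⁻¹ = SixP.t0) ∧
    (∃ π : Perm (Fin 6), π * swap 4 5 * π⁻¹ = swap 1 2) := by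
  refine ⟨?_, ?_⟩ <;> decide +kernel

namespace Frame

variable {G : Type*} [Group G] [Finite G] {F : Frame G}

namespace Full

variable (D : F.Full)

include D in
/-- An element of three power order of `N(J)` commuting with an involution with small stabiliser lies in `J`. -/
theorem mem_J_of_three {u : G} {s0 : Fin 8} {k0 : Fin 6} (hu : F.ActsAs u s0 k0)
    (hpow : ∀ s k, (∀ i, act s k (act s0 k0 i) = act s0 k0 (act s k i)) → ∀ i, (act s k)^[16] i = i) {y : G}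
    (hy : y ∈ normalizer (F.J : Set G)) (hyu : y * u = u * y) {n : ℕ} (hn : y ^ 3 ^ n = 1) : y ∈ F.J := by
  obtain ⟨s, k, -, hsk⟩ := D.isCase.exists_act hy
  have hc : ∀ i, act s k (act s0 k0 i) = act s0 k0 (act s k i) := fun i => F.vinj (by
    rw [← actsAs_act hsk, ← actsAs_act hu, ← actsAs_act hu, ← actsAs_act hsk,
      show y * (u * F.v i * u⁻¹) * y⁻¹ = (y * u) * F.v i * (y * u)⁻¹ by group, hyu]
    group)
  refine mem_of_pow_coprime (a := 16) ?_ hn ((show Nat.Coprime 16 3 by norm_num).pow_right n)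
  refine mem_J_of_act fun i => ?_
  show _ = F.v (act 0 0 i)
  rw [hsk.pow, hpow s k hc i, act_facts.1]

/-- The plane fixed by a sign change. -/
def plane : Subgroup G := F.J ⊓ centralizer ({D.w 1 0} : Set G)

theorem mem_plane {g : G} : g ∈ D.plane ↔ ∃ i, act 1 0 i = i ∧ g = F.v i := by
  constructor
  · rintro ⟨⟨i, rfl⟩, hi⟩
    exact ⟨i, (comm_v_iff (D.w_spec 1 0).2.1 i).1 (mem_centralizer_singleton_iff.1 hi), rfl⟩
  · rintro ⟨i, hi, rfl⟩
    exact ⟨F.v_mem i, mem_centralizer_singleton_iff.2 ((comm_v_iff (D.w_spec 1 0).2.1 i).2 hi)⟩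

/-- An element of order three centralising a sign change is conjugate there into the plane. -/
theorem exists_conj_plane {z : G} (hz : z * D.w 1 0 = D.w 1 0 * z) (h3 : z ^ 3 = 1) :
    ∃ h, h * D.w 1 0 = D.w 1 0 * h ∧ ∃ i, act 1 0 i = i ∧ h * z * h⁻¹ = F.v i := by
  haveI : Fact (Nat.Prime 3) := ⟨Nat.prime_three⟩
  set t := D.w 1 0
  set C := centralizer ({t} : Set G)
  have hmax : ∀ y ∈ C, (∀ r ∈ D.plane, y * r * y⁻¹ ∈ D.plane) → (∃ n, y ^ 3 ^ n = 1) → y ∈ D.plane := by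
    rintro y hy hnorm ⟨n, hn⟩
    have hyN : y ∈ normalizer (F.J : Set G) := by
      have key : ∀ a, F.v a ∈ D.plane → y⁻¹ * F.v a * y ∈ F.J := by
        intro a ha
        have hy' : y ∈ normalizer ((D.plane : Subgroup G) : Set G) := Fusion.le_normalizer_of_conj_mem hnorm
        exact ((mem_normalizer_iff.1 (inv_mem hy') _).1 ha).1 |> fun h => by simpa using h
      exact D.isCase.mem_normalizer_of_pair (a := 9) (e := 3) (by decide) (by decide +kernel) (by decide +kernel)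
        (key 9 (D.mem_plane.2 ⟨9, by decide +kernel, rfl⟩)) (key 3 (D.mem_plane.2 ⟨3, by decide +kernel, rfl⟩))
    exact ⟨D.mem_J_of_three (D.w_spec 1 0).2.1 trans_facts.1 hyN (mem_centralizer_singleton_iff.1 hy) hn, hy⟩
  obtain ⟨h, hh, hmem⟩ := exists_conj_into (p := 3) inf_le_right
    ((IsPGroup.of_card (n := 3) (by rw [F.card_J]; rfl) : IsPGroup 3 F.J).to_le inf_le_left) hmax
    (mem_centralizer_singleton_iff.2 hz) (n := 1) (by rw [pow_one, h3])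
  obtain ⟨i, hi, e⟩ := D.mem_plane.1 hmem
  exact ⟨h, mem_centralizer_singleton_iff.1 hh, i, hi, e⟩

/-- A conjugate of a sign change, with an element of order three centralising it. -/
theorem exists_conj_pair {u g y : G} (hu : g * D.w 1 0 * g⁻¹ = u) (hy : y * u = u * y) (h3 : y ^ 3 = 1) :
    ∃ m, m * u * m⁻¹ = D.w 1 0 ∧ ∃ i, act 1 0 i = i ∧ m * y * m⁻¹ = F.v i := by
  obtain ⟨h, hh, i, hi, e⟩ := D.exists_conj_plane (z := g⁻¹ * y * g) (by
      rw [← hu] at hy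
      calc g⁻¹ * y * g * D.w 1 0 = g⁻¹ * (y * (g * D.w 1 0 * g⁻¹)) * g := by group
        _ = g⁻¹ * (g * D.w 1 0 * g⁻¹ * y) * g := by rw [hy]
        _ = _ := by group)
    (by rw [show g⁻¹ * y * g = g⁻¹ * y * g⁻¹⁻¹ by group, conj_pow, h3]; group)
  refine ⟨h * g⁻¹, ?_, i, hi, ?_⟩
  · rw [← hu, show h * g⁻¹ * (g * D.w 1 0 * g⁻¹) * (h * g⁻¹)⁻¹ = h * D.w 1 0 * h⁻¹ by group, hh,
      mul_inv_cancel_right]
  · rw [← e]; group

variable {D} (S : D.Six)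

theorem Six.comm_mult {j : Fin 27} (hj : j ∈ mult 1) (σ : Perm (Fin 6)) :
    S.φ σ * F.v j = F.v j * S.φ σ := by
  obtain ⟨e, he⟩ : F.v j ∈ zpowers (F.v 1) := mem_zpowers_v.2 ⟨j, hj, rfl⟩
  rw [← he]
  exact ((show Commute (S.φ σ) (F.v 1) from S.comm_c σ).zpow_right e).eq

/-- A conjugate of a sign change in the symmetric group is a transposition. -/
theorem Six.isConj_swap {g : G} {σ : Perm (Fin 6)} (hg : g * D.w 1 0 * g⁻¹ = S.φ σ) :
    IsConj σ (swap 1 2) := by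
  set t := D.w 1 0 with ht
  obtain ⟨m, hmu, i, hi, hmc⟩ := D.exists_conj_pair hg (S.comm_c σ).symm (F.v_cube 1)
  obtain ⟨n, hn, -, hni⟩ := exists_normalizer_conj (W := ∅) (Set.empty_subset _) (i := 1) (j := i) (g := m)
    (by simp) hmc
  obtain ⟨s, k, -, hsk⟩ := D.isCase.exists_act hn
  obtain ⟨s', k', h1, a, ha, e1, e2⟩ := trans_facts.2.2.2.1 i hi
    ⟨s, k, F.vinj (by rw [← actsAs_act hsk, hni])⟩
  set w := D.w s' k'
  have hwt : w * t * w⁻¹ = D.w a 0 := by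
    rw [mul_inv_eq_iff_eq_mul, ht, D.w_mul, D.w_mul, e1, e2]
  have hc : (w * m) * F.v 1 = F.v 1 * (w * m) := by
    rw [← mul_inv_eq_iff_eq_mul, show w * m * F.v 1 * (w * m)⁻¹ = w * (m * F.v 1 * m⁻¹) * w⁻¹ by group, hmc,
      actsAs_act (D.w_spec s' k').2.1, h1]
  obtain ⟨j, hj, π, hπ⟩ := S.exists_eq _ hc
  have hcj : F.v j * S.φ (π * σ * π⁻¹) * (F.v j)⁻¹ = D.w a 0 := by
    rw [← hwt, show t = m * S.φ σ * m⁻¹ from hmu.symm, map_mul, map_mul, map_inv]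
    calc F.v j * (S.φ π * S.φ σ * (S.φ π)⁻¹) * (F.v j)⁻¹
        = (F.v j * S.φ π) * S.φ σ * (F.v j * S.φ π)⁻¹ := by group
      _ = (w * m) * S.φ σ * (w * m)⁻¹ := by rw [← hπ]
      _ = _ := by group
  rw [← S.comm_mult hj, mul_inv_cancel_right] at hcj
  rcases ha with rfl | rfl
  · exact isConj_iff.2 ⟨π, S.inj (by rw [hcj, S.map_ea])⟩
  · obtain ⟨ρ, hρ⟩ := perm_classes.2
    refine isConj_iff.2 ⟨ρ * π, ?_⟩
    have h2 : π * σ * π⁻¹ = swap 4 5 := S.inj (by rw [hcj, S.map_eb])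
    rw [show ρ * π * σ * (ρ * π)⁻¹ = ρ * (π * σ * π⁻¹) * ρ⁻¹ by group, h2, hρ]

/-- Transpositions are conjugates of the sign change. -/
theorem Six.conj_of_swap {σ : Perm (Fin 6)} (h : IsConj σ (swap 1 2)) :
    ∃ g, g * D.w 1 0 * g⁻¹ = S.φ σ := by
  obtain ⟨π, hπ⟩ := isConj_iff.1 h
  refine ⟨(S.φ π)⁻¹ * D.w 0 5, ?_⟩
  have h1 : D.w 0 5 * D.w 1 0 * (D.w 0 5)⁻¹ = D.w 4 0 := by
    rw [mul_inv_eq_iff_eq_mul, D.w_mul, D.w_mul]
    congr 1 <;> decide +kernel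
  rw [show (S.φ π)⁻¹ * D.w 0 5 * D.w 1 0 * ((S.φ π)⁻¹ * D.w 0 5)⁻¹ =
    (S.φ π)⁻¹ * (D.w 0 5 * D.w 1 0 * (D.w 0 5)⁻¹) * S.φ π by group, h1, ← S.map_ea, ← hπ, map_mul, map_mul,
    map_inv]
  group

/-- No other element of the coset of the sign change is conjugate to it. -/
theorem Six.eq_one_of_conj {g : G} {σ : Perm (Fin 6)} (hg : g * D.w 1 0 * g⁻¹ = D.w 1 0 * S.φ σ) :
    σ = 1 := by
  set t := D.w 1 0 with ht
  have htt : t * t = 1 := D.w_sq (by decide +kernel) (by decide +kernel)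
  have hσ : σ * σ = 1 := S.inj (by
    rw [map_mul, map_one]
    calc S.φ σ * S.φ σ = (t * t) * (S.φ σ * S.φ σ) := by rw [htt, one_mul]
      _ = t * (t * S.φ σ) * S.φ σ := by group
      _ = t * (S.φ σ * t) * S.φ σ := by rw [S.comm_t σ]
      _ = (t * S.φ σ) * (t * S.φ σ) := by group
      _ = g * (t * t) * g⁻¹ := by rw [← hg]; group
      _ = 1 := by rw [htt]; group)
  refine (perm_classes.1 σ hσ).resolve_right fun ⟨π, hπ⟩ => ?_
  have hconj : ∀ {v : G}, S.φ (π * σ * π⁻¹) = v → (S.φ π * g) * t * (S.φ π * g)⁻¹ = t * v := by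
    intro v hv
    rw [← hv, show S.φ π * g * t * (S.φ π * g)⁻¹ = S.φ π * (g * t * g⁻¹) * (S.φ π)⁻¹ by group, hg, map_mul, map_mul,
      map_inv]
    calc S.φ π * (t * S.φ σ) * (S.φ π)⁻¹ = (S.φ π * t) * S.φ σ * (S.φ π)⁻¹ := by group
      _ = (t * S.φ π) * S.φ σ * (S.φ π)⁻¹ := by rw [S.comm_t π]
      _ = _ := by group
  rcases hπ with e | e | e
  · -- a product of two signs
    have h1 := hconj (v := D.w 4 0) (by rw [e, S.map_ea])
    rw [ht, D.w_mul] at h1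
    obtain ⟨r, hr⟩ : ∃ r : Fin 6, D.w 0 r * D.w (sComp 1 0 4) (kmul 0 0) * (D.w 0 r)⁻¹ = D.w 6 0 := by
      have key : ∃ r : Fin 6, sComp 0 r (sComp 1 0 4) = sComp 6 0 0 ∧ kmul r (kmul 0 0) = kmul 0 r := by
        decide +kernel
      obtain ⟨r, e1, e2⟩ := key
      exact ⟨r, by rw [mul_inv_eq_iff_eq_mul, D.w_mul, D.w_mul, e1, e2]⟩
    have h2 : S.φ (swap 1 2 * swap 4 5) = D.w 6 0 := by
      rw [map_mul, S.map_ea, S.map_eb, D.w_mul]
      congr 1 <;> decide +kernel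
    have h3 := S.isConj_swap (g := D.w 0 r * (S.φ π * g)) (σ := swap 1 2 * swap 4 5) (by
      rw [h2, ← hr, ← h1]; group)
    obtain ⟨ρ, hρ⟩ := isConj_iff.1 h3
    have h4 := congrArg Perm.sign hρ
    simp only [map_mul, map_inv, mul_inv_cancel_comm] at h4
    exact absurd h4 (by decide +kernel)
  · -- the inversion
    have h1 := hconj (v := D.w 4 0 * D.w 2 0) (by rw [e, map_mul, S.map_ea, S.map_eb])
    rw [ht, D.w_mul, D.w_mul, show sComp 1 0 (sComp 4 0 2) = 7 by decide +kernel,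
      show kmul 0 (kmul 0 0) = 0 by decide +kernel] at h1
    have hp : F.p 3 * D.w 7 0 = D.w 7 0 * F.p 3 := by
      obtain ⟨e1, e2⟩ := trans_facts.2.2.2.2.2.2.2.2.2 3 rfl
      rw [← D.w_p, D.w_mul, D.w_mul, e1, e2]
    obtain ⟨m, -, i, hi, hm⟩ := D.exists_conj_pair h1 hp (by
      rw [pow_succ', pow_two, ← F.pmul, ← F.pmul]; exact F.p0)
    have hP : F.p 3 ∈ F.P := ⟨0, 3, Or.inr (Or.inl rfl), by rw [F.v0, one_mul]⟩
    have hPJ : F.p 3 ∉ F.J := fun ⟨j, hj⟩ => by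
      have := (F.vp_eq (show F.v j * F.p 0 = F.v 0 * F.p 3 by rw [F.p0, mul_one, F.v0, one_mul, hj])).2
      exact absurd this (by decide)
    have hx := D.isCase.xType_of_conj_mem hP hPJ hm
    rw [trans_facts.2.2.1 i hi fun e => hPJ (by
      rw [e, F.v0, conj_eq_one_iff] at hm
      rw [hm]; exact one_mem _)] at hx
    exact absurd hx (by decide)
  · -- a sign times a permutation
    have h1 := hconj (v := F.p 2) (by rw [e, S.map_t])
    rw [ht, ← D.w_p 2, D.w_mul, show sComp 1 0 0 = 1 by decide +kernel, show kmul 0 2 = 2 by decide +kernel] at h1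
    obtain ⟨-, -, -, -, k1, k2, k3, k4, -⟩ := trans_facts
    set u := D.w 1 2
    have hua : F.ActsAs u 1 2 := (D.w_spec 1 2).2.1
    obtain ⟨m, hmu, i, -, hm⟩ := D.exists_conj_pair h1 ((comm_v_iff hua 12).2 k4) (F.v_cube 12)
    obtain ⟨n, hn, -, hni⟩ := exists_normalizer_conj (W := ∅) (Set.empty_subset _) (i := 12) (j := i) (g := m)
      (by simp) hm
    have hnm : n⁻¹ * m ∈ normalizer (F.J : Set G) := D.cent_heavy k2 k3 (by
      rw [← mul_inv_eq_iff_eq_mul, show n⁻¹ * m * F.v 12 * (n⁻¹ * m)⁻¹ = n⁻¹ * (m * F.v 12 * m⁻¹) * n by group, hm,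
        ← hni]
      group)
    have hmN : m ∈ normalizer (F.J : Set G) := by simpa using mul_mem hn hnm
    obtain ⟨s, k, -, hsk⟩ := D.isCase.exists_act hmN
    refine k1 s k fun i _ => F.vinj ?_
    rw [← actsAs_act hsk, ← actsAs_act hua, ← actsAs_act (D.w_spec 1 0).2.1, ← actsAs_act hsk, show D.w 1 0 = m * u * m⁻¹ from hmu.symm]
    group

end Full

end Frame

end Cfsg.Lib.SymNine
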