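import Cfsg.Agent.Lib.SymNine.TransCent
import Cfsg.Agent.Lib.SymNine.Global

/-!
# A subgroup of index two without the sign changes
-/

set_option autoImplicit false
set_option maxHeartbeats 1600000
set_option maxRecDepth 100000
set_option linter.unusedSectionVars false
set_option linter.style.haveILetI false

namespace Cfsg.Lib.SymNine

open Subgroup Equiv

/-- The permutations preserving the three pairs and fixing the last one. -/
def pairSyl : Subgroup (Perm (Fin 6)) where
  carrier := {σ | σ * SixP.t0 = SixP.t0 * σ ∧ σ * threeTr 2 = threeTr 2 * σ}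
  one_mem' := ⟨by rw [one_mul, mul_one], by rw [one_mul, mul_one]⟩
  mul_mem' := fun {a b} ha hb =>
    ⟨((show Commute a _ from ha.1).mul_left (show Commute b _ from hb.1)).eq,
      ((show Commute a _ from ha.2).mul_left (show Commute b _ from hb.2)).eq⟩
  inv_mem' := fun {a} ha => ⟨((show Commute a _ from ha.1).inv_left).eq, ((show Commute a _ from ha.2).inv_left).eq⟩

instance pairSylDec : DecidablePred (· ∈ pairSyl) := fun σ =>
  decidable_of_iff (σ * SixP.t0 = SixP.t0 * σ ∧ σ * threeTr 2 = threeTr 2 * σ) Iff.rfl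

/-- Its even part. -/
def pairEven : Subgroup (Perm (Fin 6)) := pairSyl ⊓ (Perm.sign : Perm (Fin 6) →* ℤˣ).ker

instance pairEvenDec : DecidablePred (· ∈ pairEven) := fun σ =>
  decidable_of_iff (σ ∈ pairSyl ∧ Perm.sign σ = 1) (by show _ ↔ σ ∈ pairEven; rw [pairEven, mem_inf, MonoidHom.mem_ker])

theorem pair_facts :
    (∀ i, threeTr i ∈ pairSyl) ∧ (∀ σ ∈ elemEight, σ ∈ pairSyl) ∧ swap 0 1 * swap 3 4 ∈ pairSyl ∧
    (∀ σ ∈ pairSyl, (∀ i, σ * threeTr i = threeTr i * σ) ∨
      σ * threeTr 0 = threeTr 1 * σ ∧ σ * threeTr 1 = threeTr 0 * σ ∧ σ * threeTr 2 = threeTr 2 * σ) ∧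
    (swap (0 : Fin 6) 1 * swap 3 4) * threeTr 0 = threeTr 1 * (swap 0 1 * swap 3 4) ∧
    Function.Injective threeTr ∧
    (∀ i, ∃ π : Perm (Fin 6), π * threeTr i * π⁻¹ = swap 1 2) ∧
    SixP.t0 = threeTr 0 * threeTr 1 * threeTr 2 ∧
    (Finset.univ.filter fun σ : Perm (Fin 6) => σ ∈ pairSyl).card = 16 ∧
    (Finset.univ.filter fun σ : Perm (Fin 6) => σ ∈ pairEven).card = 8 := by
  refine ⟨?_, ?_, ?_, ?_, ?_, ?_, ?_, ?_, ?_, ?_⟩ <;> decide +kernel

theorem pair_trans : ∀ σ ∈ pairSyl, ∀ π : Perm (Fin 6), π * σ * π⁻¹ = swap 1 2 → ∃ i, σ = threeTr i := by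
  decide +kernel

theorem fin_three_perm : ∀ f : Fin 3 → Fin 3, Function.Injective f →
    ((f 0 = 0 ∨ f 0 = 1) ∧ (f 1 = 0 ∨ f 1 = 1)) → (∀ i, f i = i) ∨ f 0 = 1 ∧ f 1 = 0 ∧ f 2 = 2 := by
  decide +kernel

namespace Frame

variable {G : Type*} [Group G] [Finite G] {F : Frame G}

namespace Full

variable {D : F.Full} (S : D.Six)

/-- A subgroup of the symmetric group times the sign change. -/
def Six.withSign (P : Subgroup (Perm (Fin 6))) : Subgroup G where
  carrier := {g | ∃ σ ∈ P, g = S.φ σ ∨ g = D.w 1 0 * S.φ σ}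
  one_mem' := ⟨1, one_mem _, Or.inl (map_one _).symm⟩
  mul_mem' := by
    have htt : D.w 1 0 * D.w 1 0 = 1 := D.w_sq (by decide +kernel) (by decide +kernel)
    rintro a b ⟨σ, hσ, rfl | rfl⟩ ⟨ρ, hρ, rfl | rfl⟩
    · exact ⟨σ * ρ, mul_mem hσ hρ, Or.inl (map_mul _ _ _).symm⟩
    · exact ⟨σ * ρ, mul_mem hσ hρ, Or.inr (by rw [map_mul, ← mul_assoc, S.comm_t, mul_assoc])⟩
    · exact ⟨σ * ρ, mul_mem hσ hρ, Or.inr (by rw [map_mul, mul_assoc])⟩
    · refine ⟨σ * ρ, mul_mem hσ hρ, Or.inl ?_⟩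
      rw [map_mul, mul_assoc, ← mul_assoc (S.φ σ), S.comm_t σ, ← mul_assoc, ← mul_assoc, htt, one_mul]
  inv_mem' := by
    rintro a ⟨σ, hσ, rfl | rfl⟩
    · exact ⟨σ⁻¹, inv_mem hσ, Or.inl (map_inv _ _).symm⟩
    · refine ⟨σ⁻¹, inv_mem hσ, Or.inr ?_⟩
      rw [← S.comm_t σ, mul_inv_rev, map_inv, inv_eq_of_mul_eq_one_right
        (show D.w 1 0 * D.w 1 0 = 1 from D.w_sq (by decide +kernel) (by decide +kernel))]

theorem Six.sign_ne (σ : Perm (Fin 6)) : D.w 1 0 ≠ S.φ σ := fun e => by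
  have h1 : D.w 1 0 * F.v 1 * (D.w 1 0)⁻¹ = F.v 1 := by rw [e, S.comm_c, mul_inv_cancel_right]
  rw [actsAs_act (D.w_spec 1 0).2.1] at h1
  exact absurd (F.vinj h1) (by decide +kernel)

theorem Six.card_withSign (P : Subgroup (Perm (Fin 6))) : Nat.card (S.withSign P) = 2 * Nat.card P := by
  have e : Nat.card (Bool × P) = 2 * Nat.card P := by
    rw [Nat.card_prod, Nat.card_eq_fintype_card, Fintype.card_bool]
  rw [← e]
  let f : Bool × P → S.withSign P := fun q =>
    ⟨if q.1 then D.w 1 0 * S.φ q.2 else S.φ q.2, q.2, q.2.2, by cases q.1 <;> simp⟩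
  refine (Nat.card_eq_of_bijective f ⟨?_, ?_⟩).symm
  · rintro ⟨a, σ⟩ ⟨b, ρ⟩ e
    have e' : (if a then D.w 1 0 * S.φ σ else S.φ σ) = if b then D.w 1 0 * S.φ ρ else S.φ ρ :=
      congrArg Subtype.val e
    cases a <;> cases b <;> simp only [Bool.false_eq_true, if_false, if_true] at e'
    · rw [Subtype.ext (S.inj e')]
    · exact absurd (mul_inv_eq_of_eq_mul e') (by rw [← map_inv, ← map_mul]; exact fun h => S.sign_ne _ h.symm)
    · exact absurd (eq_mul_inv_of_mul_eq e') (by rw [← map_inv, ← map_mul]; exact S.sign_ne _)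
    · rw [Subtype.ext (S.inj (mul_left_cancel e'))]
  · rintro ⟨g, σ, hσ, rfl | rfl⟩
    exacts [⟨(false, ⟨σ, hσ⟩), rfl⟩, ⟨(true, ⟨σ, hσ⟩), rfl⟩]

theorem Six.le_cent (P : Subgroup (Perm (Fin 6))) : S.withSign P ≤ centralizer ({D.w 1 0} : Set G) := by
  rintro g ⟨σ, -, rfl | rfl⟩
  · exact mem_centralizer_singleton_iff.2 (S.comm_t σ)
  · exact mem_centralizer_singleton_iff.2 (by rw [mul_assoc, S.comm_t σ])

/-- The conjugates of the sign change in such a subgroup. -/
theorem Six.conj_mem {P : Subgroup (Perm (Fin 6))} {g : G} (hg : g * D.w 1 0 * g⁻¹ ∈ S.withSign P) :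
    g * D.w 1 0 * g⁻¹ = D.w 1 0 ∨ ∃ σ ∈ P, IsConj σ (swap 1 2) ∧ g * D.w 1 0 * g⁻¹ = S.φ σ := by
  obtain ⟨σ, hσ, e | e⟩ := hg
  · exact Or.inr ⟨σ, hσ, S.isConj_swap e, e⟩
  · exact Or.inl (by rw [e, S.eq_one_of_conj e, map_one, mul_one])

include S in
/-- A subgroup of index two without the sign change and without the exchange of two axes. -/
theorem Six.exists_index_two : ∃ M : Subgroup G, M.index = 2 ∧ D.w 1 0 ∉ M ∧ F.p 2 ∉ M := by
  classical
  haveI : Fact (Nat.Prime 2) := ⟨Nat.prime_two⟩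
  obtain ⟨p1, p2, p3, p4, p5, p6, p7, p8, p9, p10⟩ := pair_facts
  set t := D.w 1 0 with ht
  have htt : t * t = 1 := D.w_sq (by decide +kernel) (by decide +kernel)
  set R := S.withSign pairSyl with hRdef
  set u : Fin 3 → G := fun i => S.φ (threeTr i) with hu
  have huR : ∀ i, u i ∈ R := fun i => ⟨_, p1 i, Or.inl rfl⟩
  have htR : t ∈ R := ⟨1, one_mem _, Or.inr (by rw [map_one, mul_one])⟩
  have huinj : Function.Injective u := fun a b e => p6 (S.inj e)
  have huconj : ∀ i, ∃ g, g * t * g⁻¹ = u i := fun i => S.conj_of_swap (isConj_iff.2 (p7 i))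
  have hclass : ∀ {g : G}, g * t * g⁻¹ ∈ R → g * t * g⁻¹ = t ∨ ∃ i, g * t * g⁻¹ = u i := fun {g} hg => by
    rcases S.conj_mem hg with e | ⟨σ, hσ, hc, e⟩
    · exact Or.inl e
    · obtain ⟨π, hπ⟩ := isConj_iff.1 hc
      obtain ⟨i, rfl⟩ := pair_trans σ hσ π hπ
      exact Or.inr ⟨i, e⟩
  have hR32 : Nat.card R = 32 := by
    rw [S.card_withSign]
    have e : Nat.card pairSyl = 16 := by rw [Nat.card_eq_fintype_card, Fintype.card_subtype, p9]
    rw [e]
  have hR2 : IsPGroup 2 R := IsPGroup.of_card (n := 5) (by rw [hR32]; rfl)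
  have hRC : R ≤ centralizer ({t} : Set G) := S.le_cent _
  have himg : ∀ {y : G}, (∀ r ∈ R, y * r * y⁻¹ ∈ R) → ∀ i, y * u i * y⁻¹ = t ∨ ∃ j, y * u i * y⁻¹ = u j := by
    intro y hy i
    obtain ⟨g, hg⟩ := huconj i
    have h1 := hy _ (huR i)
    rw [← hg, show y * (g * t * g⁻¹) * y⁻¹ = (y * g) * t * (y * g)⁻¹ by group] at h1 ⊢
    exact hclass h1
  have hut : ∀ i, u i ≠ t := fun i e => S.sign_ne _ e.symm
  -- the group is a Sylow subgroup of the centralizer
  have hmax : ∀ y ∈ centralizer ({t} : Set G), (∀ r ∈ R, y * r * y⁻¹ ∈ R) → (∃ n, y ^ 2 ^ n = 1) → y ∈ R := by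
    intro y hy hnorm _
    have hyt := mem_centralizer_singleton_iff.1 hy
    have hf : ∀ i, ∃ j, y * u i * y⁻¹ = u j := fun i => (himg hnorm i).resolve_left fun e => hut i (by
      rw [mul_inv_eq_iff_eq_mul] at e
      exact mul_left_cancel (e.trans hyt.symm))
    choose f hf using hf
    have hfinj : Function.Injective f := fun a b e => huinj (by
      have h1 := hf a
      rw [e, ← hf b] at h1
      exact mul_left_cancel (mul_right_cancel h1))
    -- the exchange fixes the first two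
    obtain ⟨ρ, hρ, hz⟩ := hnorm (S.φ (swap 0 1 * swap 3 4)) ⟨_, p3, Or.inl rfl⟩
    set z := S.φ (swap 0 1 * swap 3 4) with hzdef
    have hz01 : z * u 0 = u 1 * z := by rw [hzdef, hu, ← map_mul, ← map_mul, p5]
    have h01 : (y * z * y⁻¹) * u (f 0) = u (f 1) * (y * z * y⁻¹) := by
      rw [← hf 0, ← hf 1, conj_mul, conj_mul, hz01]
    have hact : ∀ i, (y * z * y⁻¹) * u i = S.φ (ρ * threeTr i * ρ⁻¹) * (y * z * y⁻¹) := fun i => by
      rw [map_mul, map_mul, map_inv]
      rcases hz with e | e <;> rw [e]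
      · show S.φ ρ * u i = S.φ ρ * u i * (S.φ ρ)⁻¹ * S.φ ρ
        rw [inv_mul_cancel_right]
      · calc t * S.φ ρ * u i = t * (S.φ ρ * u i * (S.φ ρ)⁻¹) * S.φ ρ := by group
          _ = (S.φ ρ * u i * (S.φ ρ)⁻¹) * t * S.φ ρ := by
            rw [show S.φ ρ * u i * (S.φ ρ)⁻¹ = S.φ (ρ * threeTr i * ρ⁻¹) by rw [map_mul, map_mul, map_inv],
              ← S.comm_t]
          _ = _ := by rw [mul_assoc]
    have h02 : S.φ (ρ * threeTr (f 0) * ρ⁻¹) = u (f 1) := mul_right_cancel ((hact (f 0)).symm.trans h01)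
    have hne : f 0 ≠ f 1 := fun e => absurd (hfinj e) (by decide)
    rcases p4 ρ hρ with hc | ⟨c0, c1, c2⟩
    · rw [hc, mul_inv_cancel_right] at h02
      exact absurd (huinj h02) hne
    have hfix : (f 0 = 0 ∨ f 0 = 1) ∧ (f 1 = 0 ∨ f 1 = 1) := by
      have hcases : ∀ i : Fin 3, i = 0 ∨ i = 1 ∨ i = 2 := by decide
      rcases hcases (f 0) with e | e | e <;> rw [e] at h02
      · rw [c0, mul_inv_cancel_right] at h02
        exact ⟨Or.inl e, Or.inr (huinj h02).symm⟩
      · rw [c1, mul_inv_cancel_right] at h02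
        exact ⟨Or.inr e, Or.inl (huinj h02).symm⟩
      · rw [c2, mul_inv_cancel_right] at h02
        exact absurd (e.trans (huinj h02)) hne
    have key : ∀ {w : G}, w * t = t * w → (∀ i, w * u i * w⁻¹ = u i) → w ∈ R := fun {w} hwt hw => by
      obtain ⟨σ, hσ, e⟩ := S.cent_four hwt fun i => mul_inv_eq_iff_eq_mul.1 (hw i)
      exact ⟨σ, p2 σ hσ, e⟩
    rcases fin_three_perm f hfinj hfix with hid | ⟨f0, f1, f2⟩
    · exact key hyt fun i => by rw [hf, hid]
    · have h10 : z * u 1 = u 0 * z := by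
        rw [hzdef, hu, ← map_mul, ← map_mul]; exact congrArg S.φ (by decide +kernel)
      have h22 : z * u 2 = u 2 * z := by
        rw [hzdef, hu, ← map_mul, ← map_mul]; exact congrArg S.φ (by decide +kernel)
      have hyz : z * y ∈ R := key (by
          exact ((show Commute z t from S.comm_t _).mul_left (show Commute y t from hyt)).eq) fun i => by
        rw [show z * y * u i * (z * y)⁻¹ = z * (y * u i * y⁻¹) * z⁻¹ by group, hf]
        have hcases : ∀ i : Fin 3, i = 0 ∨ i = 1 ∨ i = 2 := by decide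
        rcases hcases i with rfl | rfl | rfl
        · rw [f0, h10, mul_inv_cancel_right]
        · rw [f1, hz01, mul_inv_cancel_right]
        · rw [f2, h22, mul_inv_cancel_right]
      have h3 := mul_mem (inv_mem (show z ∈ R from ⟨_, p3, Or.inl rfl⟩)) hyz
      rwa [inv_mul_cancel_left] at h3
  obtain ⟨T, hT⟩ := (hR2.of_equiv (subgroupOfEquivOfLe hRC).symm).exists_le_sylow
  have hTR : (T : Subgroup (centralizer ({t} : Set G))).map (centralizer ({t} : Set G)).subtype = R :=
    eq_of_pgroup hmax (T.isPGroup'.map _) (fun r hr => ⟨⟨r, hRC hr⟩, hT (mem_subgroupOf.2 hr), rfl⟩)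
      (map_subtype_le _)
  have hTeq : (T : Subgroup (centralizer ({t} : Set G))) = R.subgroupOf (centralizer ({t} : Set G)) := by
    refine le_antisymm (fun x hx => mem_subgroupOf.2 (hTR ▸ ⟨x, hx, rfl⟩)) hT
  have hoddC : Odd (R.relIndex (centralizer ({t} : Set G))) := by
    have h1 := T.not_dvd_index
    rw [hTeq] at h1
    rw [Nat.odd_iff]
    change ¬ 2 ∣ R.relIndex (centralizer ({t} : Set G)) at h1
    omega
  have hcardC : Nat.card R * R.relIndex (centralizer ({t} : Set G)) = Nat.card (centralizer ({t} : Set G)) := by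
    rw [← relIndex_bot_left (H := R), relIndex_mul_relIndex _ _ _ bot_le hRC, relIndex_bot_left]
  -- the order of the whole group
  have h64 : 64 ∣ Nat.card G := by
    by_contra h64
    obtain ⟨T', hT'⟩ := hR2.exists_le_sylow
    have hT'R : (T' : Subgroup G) = R := by
      refine (eq_of_le_of_card_ge hT' ?_).symm
      obtain ⟨k, hk⟩ := T'.isPGroup'.exists_card_eq
      rw [hR32, hk]
      by_contra hlt
      push Not at hlt
      have h6 : 6 ≤ k := by
        by_contra hk6
        have := Nat.pow_le_pow_right (show 1 ≤ 2 by norm_num) (show k ≤ 5 by omega)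
        omega
      refine h64 ((show (64 : ℕ) = 2 ^ 6 by norm_num) ▸ (pow_dvd_pow 2 h6).trans (hk ▸ card_subgroup_dvd_card _))
    obtain ⟨g, hg⟩ := huconj 2
    have hcen : ∀ r ∈ R, r * u 2 = u 2 * r := by
      rintro r ⟨σ, hσ, rfl | rfl⟩
      · rw [hu, ← map_mul, ← map_mul, hσ.2]
      · rw [hu, mul_assoc, ← map_mul, hσ.2, map_mul, ← mul_assoc, ← S.comm_t (threeTr 2), mul_assoc]
    obtain ⟨n, hn, hnt⟩ := Sylow.conj_eq_normalizer_conj_of_mem_centralizer T' t g⁻¹
      (mem_centralizer_iff.2 fun r hr => mem_centralizer_singleton_iff.1 (hRC (by rw [← hT'R]; exact hr)))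
      (mem_centralizer_iff.2 fun r hr => by rw [inv_inv, hg]; exact hcen r (by rw [← hT'R]; exact hr))
    rw [inv_inv, hg] at hnt
    set m := n⁻¹ with hm
    have hm1 : m * t * m⁻¹ = u 2 := by rw [hm, inv_inv, ← hnt]
    have hmR : ∀ r ∈ R, m * r * m⁻¹ ∈ R := fun r hr => by
      have := (mem_normalizer_iff.1 (inv_mem hn) r).1 (show r ∈ (T' : Subgroup G) from hT'R ▸ hr)
      rwa [hT'R, ← hm] at this
    have hm2 : m * u 2 * m⁻¹ = t := by
      rcases himg hmR 2 with e | ⟨j, e⟩
      · exact e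
      · exfalso
        -- the image is central, hence the last transposition, hence equal
        have hzR : S.φ (swap 0 1 * swap 3 4) ∈ R := ⟨_, p3, Or.inl rfl⟩
        have hj2 : j = 2 := by
          by_contra hj
          have hmem : m⁻¹ * S.φ (swap 0 1 * swap 3 4) * m ∈ R := by
            have hinv := (mem_normalizer_iff.1 hn (S.φ (swap 0 1 * swap 3 4))).1 (hT'R ▸ hzR)
            rw [hT'R] at hinv
            rw [hm, inv_inv]; exact hinv
          have h1 : S.φ (swap 0 1 * swap 3 4) * u j = u j * S.φ (swap 0 1 * swap 3 4) := by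
            rw [← e]
            calc S.φ (swap 0 1 * swap 3 4) * (m * u 2 * m⁻¹)
                = m * ((m⁻¹ * S.φ (swap 0 1 * swap 3 4) * m) * u 2) * m⁻¹ := by group
              _ = m * (u 2 * (m⁻¹ * S.φ (swap 0 1 * swap 3 4) * m)) * m⁻¹ := by rw [hcen _ hmem]
              _ = _ := by group
          rw [hu, ← map_mul, ← map_mul] at h1
          have key : ∀ j : Fin 3, (swap (0 : Fin 6) 1 * swap 3 4) * threeTr j =
              threeTr j * (swap 0 1 * swap 3 4) → j = 2 := by decide +kernel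
          exact hj (key j (S.inj h1))
        subst hj2
        exact hut 2 (mul_left_cancel (mul_right_cancel (e.trans hm1.symm)))
    -- an odd power is a two-element of the normalizer
    obtain ⟨a, k, hk, hak⟩ := Nat.exists_eq_two_pow_mul_odd (orderOf_pos m).ne'
    have hswap : ∀ j : ℕ, m ^ (2 * j + 1) * t * (m ^ (2 * j + 1))⁻¹ = u 2 := by
      intro j
      induction j with
      | zero => simpa using hm1
      | succ j ih =>
        rw [show 2 * (j + 1) + 1 = 2 + (2 * j + 1) by ring, pow_add, pow_two,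
          show m * m * m ^ (2 * j + 1) * t * (m * m * m ^ (2 * j + 1))⁻¹ =
            m * (m * (m ^ (2 * j + 1) * t * (m ^ (2 * j + 1))⁻¹) * m⁻¹) * m⁻¹ by group, ih, hm2, hm1]
    obtain ⟨j, rfl⟩ := hk
    set q := m ^ (2 * j + 1) with hq
    have hqN : q ∈ normalizer ((T' : Subgroup G) : Set G) := pow_mem (inv_mem hn) _
    have hqT : q ∈ (T' : Subgroup G) := by
      have hq2 : q ^ 2 ^ a = 1 := by rw [hq, ← pow_mul, mul_comm, ← hak, pow_orderOf_eq_one]
      have hp : IsPGroup 2 (zpowers q) := by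
        rintro ⟨y, i, rfl⟩
        exact ⟨a, Subtype.ext (by
          show (q ^ i) ^ 2 ^ a = 1
          rw [← zpow_natCast, ← zpow_mul, mul_comm, zpow_mul, zpow_natCast, hq2, one_zpow])⟩
      have he := T'.is_maximal' (hp.to_sup_of_normal_right' T'.isPGroup' (zpowers_le.2 hqN)) le_sup_right
      rw [← he]
      exact le_sup_left (b := (T' : Subgroup G)) (mem_zpowers q)
    have h3 := hswap j
    rw [← hq, mem_centralizer_singleton_iff.1 (hRC (hT'R ▸ hqT)), mul_inv_cancel_right] at h3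
    exact hut 2 h3.symm
  -- the even part
  set U := S.withSign pairEven with hUdef
  have hU16 : Nat.card U = 16 := by
    rw [S.card_withSign]
    have e : Nat.card pairEven = 8 := by rw [Nat.card_eq_fintype_card, Fintype.card_subtype, p10]
    rw [e]
  have hUC : U ≤ centralizer ({t} : Set G) := S.le_cent _
  have hrel : U.relIndex (centralizer ({t} : Set G)) = 2 * R.relIndex (centralizer ({t} : Set G)) := by
    have e : Nat.card U * U.relIndex (centralizer ({t} : Set G)) = Nat.card (centralizer ({t} : Set G)) := by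
      rw [← relIndex_bot_left (H := U), relIndex_mul_relIndex _ _ _ bot_le hUC, relIndex_bot_left]
    rw [← hcardC, hU16, hR32] at e
    omega
  obtain ⟨M, hM, htM⟩ := Cfsg.Lib.SymNine.exists_index_two U htt ⟨1, one_mem _, Or.inr (by rw [map_one, mul_one])⟩
    hUC (fun g hg => by
      rcases S.conj_mem hg with e | ⟨σ, hσ, hc, -⟩
      · exact e
      · exfalso
        obtain ⟨π, hπ⟩ := isConj_iff.1 hc
        have h1 := congrArg Perm.sign hπ
        simp only [map_mul, map_inv, mul_inv_cancel_comm, MonoidHom.mem_ker.1 (mem_inf.1 hσ).2] at h1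
        exact absurd h1 (by decide +kernel))
    (f := U.relIndex (centralizer ({t} : Set G))) rfl (by
      have hidx := card_mul_index U
      have hle : U.relIndex (centralizer ({t} : Set G)) ≤ U.index := by
        have h1 := Nat.le_of_dvd Nat.card_pos (card_subgroup_dvd_card (centralizer ({t} : Set G)))
        rw [← hcardC, hR32] at h1
        rw [hrel]
        have h2 := card_mul_index U
        rw [hU16] at h2
        omega
      rw [hU16] at hidx
      obtain ⟨q, hq⟩ := h64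
      rw [Nat.odd_iff] at hoddC ⊢
      rw [hrel] at hle ⊢
      omega)
  haveI : M.Normal := normal_of_index_eq_two hM
  have huM : ∀ i, u i ∉ M := fun i hi => by
    obtain ⟨g, hg⟩ := huconj i
    refine htM ?_
    have h1 := ‹M.Normal›.conj_mem _ hi g⁻¹
    rwa [← hg, inv_inv, show g⁻¹ * (g * t * g⁻¹) * g = t by group] at h1
  refine ⟨M, hM, htM, ?_⟩
  rw [← S.map_t, p8, map_mul, map_mul, mul_mem_iff_of_index_two hM, mul_mem_iff_of_index_two hM]
  intro h
  exact huM 2 (h.1 (iff_of_false (huM 0) (huM 1)))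

end Full

end Frame

end Cfsg.Lib.SymNine
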